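import Mathlib
import Cfsg.Agent.B3.Data
import Cfsg.Agent.T3.FDefs

/-!
Elements `a` of order three whose centraliser has a normal extraspecial subgroup of order `3^9` with an extraspecial group of
order `2^7` on top: definitions (see `stubs/Cfsg/Agent/B3/PLAN.md`). The space `Q / Z` is `ℍ ⊗ N` with `ℍ` the quaternion
algebra over the field with three elements (basis `1, i, j, k`) and `N` a symplectic plane.
-/

set_option autoImplicit false
set_option exponentiation.threshold 100000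
set_option maxRecDepth 100000

namespace Cfsg.Agent.B3

open Cfsg.Agent.Spor Cfsg.Agent.Rec Cfsg.Agent.T3 Cfsg.Agent.GT.PG Subgroup Matrix

universe u

abbrev I8 : Type := Fin 4 × Fin 2
abbrev W8 : Type := I8 → ZMod 3
abbrev M8 : Type := Matrix I8 I8 (ZMod 3)
abbrev Γ : Type := GL I8 (ZMod 3)

/-- The symplectic form. -/
def sf8 (v w : W8) : ZMod 3 := ∑ p : Fin 4, (v (p, 0) * w (p, 1) - v (p, 1) * w (p, 0))

/-- Kronecker product. -/
def kr (X : Matrix (Fin 4) (Fin 4) (ZMod 3)) (Y : Matrix (Fin 2) (Fin 2) (ZMod 3)) : M8 :=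
  Matrix.of fun p q => X p.1 q.1 * Y p.2 q.2

/-- Codes for invertible matrices. -/
noncomputable def C0 : Cod A Γ := pairCod (NM.F3x8.spec.model finProdFinEquiv) (matSpec_lt _ _) A_ok

/-- The matrix named by a code. -/
def dm (c : ℕ) : M8 := NM.dec finProdFinEquiv 11 (fun n => (n : ZMod 3)) (c % 2 ^ 704)

theorem rep_val0 {H : Type} [Group H] {mul : ℕ → ℕ → ℕ} {one : ℕ} {ent : ℕ → Bool} {k m o : ℕ} (M : NM.Model H mul one ent)
    (hk : ∀ a, M.V a → a < 2 ^ k) (h : pairOK one k m o = true) {c : ℕ} {x : H} (hc : (pairCod M hk h).Rep c x) :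
    M.V (c % 2 ^ k) ∧ M.elt (c % 2 ^ k) = x := by
  obtain ⟨⟨a, b, ha, -, -, rfl⟩, rfl⟩ := hc
  have e := land_pr2 (hk a ha) b
  have e2 : Nat.land (pr2 k a b) (2 ^ k - 1) = pr2 k a b % 2 ^ k := Nat.and_two_pow_sub_one_eq_mod _ _
  refine ⟨by rw [← e2, e]; exact ha, ?_⟩
  rw [← e2, ← (pairOK_sound h).1]; rfl

theorem rep_val {c : ℕ} {x : Γ} (h : C0.Rep c x) : (x : M8) = dm c := by
  obtain ⟨h1, h2⟩ := rep_val0 _ _ _ h
  rw [← h2]
  exact NM.F3x8.spec.coe_elt _ h1

/-- The letters. -/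
noncomputable def eX : List Γ := cX.map C0.elt

theorem repX0 : C0.RepL cX eX := repL_pair _ _ A_ok cX_ok

/-- Left multiplication by `i`. -/
@[irreducible] noncomputable def gI1 : Γ := nth 1 eX 0
/-- Left multiplication by `j`. -/
@[irreducible] noncomputable def gJ1 : Γ := nth 1 eX 1
/-- Right multiplication by `i⁻¹`. -/
@[irreducible] noncomputable def gI2 : Γ := nth 1 eX 2
/-- Right multiplication by `j⁻¹`. -/
@[irreducible] noncomputable def gJ2 : Γ := nth 1 eX 3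
/-- The quaternion group acting on the plane. -/
@[irreducible] noncomputable def gI3 : Γ := nth 1 eX 4
@[irreducible] noncomputable def gJ3 : Γ := nth 1 eX 5
/-- Left multiplication by `1 + i + j + k`. -/
@[irreducible] noncomputable def u1 : Γ := nth 1 eX 6
/-- Right multiplication by the inverse of `1 + i + j + k`. -/
@[irreducible] noncomputable def u2 : Γ := nth 1 eX 7
/-- A transvection of the plane. -/
@[irreducible] noncomputable def u3 : Γ := nth 1 eX 8
/-- Permutes `u1, u2, u3` cyclically. -/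
@[irreducible] noncomputable def sg : Γ := nth 1 eX 9
@[irreducible] noncomputable def f1 : Γ := nth 1 eX 10
@[irreducible] noncomputable def f2 : Γ := nth 1 eX 11
/-- Minus one on the plane `1 ⊗ N`, one on the other three planes. -/
@[irreducible] noncomputable def τ0 : Γ := nth 1 eX 12
@[irreducible] noncomputable def τ1 : Γ := nth 1 eX 13
@[irreducible] noncomputable def τ2 : Γ := nth 1 eX 14
@[irreducible] noncomputable def τ3 : Γ := nth 1 eX 15

theorem repX : C0.RepL cX [gI1, gJ1, gI2, gJ2, gI3, gJ3, u1, u2, u3, sg, f1, f2, τ0, τ1, τ2, τ3] := by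
  unfold gI1 gJ1 gI2 gJ2 gI3 gJ3 u1 u2 u3 sg f1 f2 τ0 τ1 τ2 τ3
  exact repX0.pick [0, 1, 2, 3, 4, 5, 6, 7, 8, 9, 10, 11, 12, 13, 14, 15]

/-- The extraspecial group of order 128. -/
noncomputable def R0 : Subgroup Γ := clos [gI1, gJ1, gI2, gJ2, gI3, gJ3]
/-- The Sylow 3-subgroup (order 81) and its abelian subgroup of order 27. -/
noncomputable def S0 : Subgroup Γ := clos [u1, u2, u3, sg]
noncomputable def J0 : Subgroup Γ := clos [u1, u2, u3]
/-- The group `2^(1+6).GU₃(2)` of order 82944. -/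
noncomputable def X0 : Subgroup Γ := clos [gI1, gJ1, gI2, gJ2, gI3, gJ3, u1, u2, u3, sg, f1]
/-- The central element of `S0`. -/
noncomputable def om0 : Γ := u1 * u2 * u3
/-- The centraliser of `τ0` in `X0` (order 2304). -/
noncomputable def C3 : Subgroup Γ := clos [u3, u1 * u2, f1, gI3 * u3 * gI3⁻¹]
/-- Its block diagonal normal subgroup of order 256. -/
noncomputable def D0 : Subgroup Γ := clos [f1 * u3⁻¹, u3 * (f1 * u3⁻¹) * u3⁻¹, gI3, gJ3]
/-- The vector fixed by `J0`. -/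
def v0 : W8 := fun p => if p.1 ≠ 0 ∧ p.2 = 0 then 1 else 0

/-- The symplectic group. -/
def Sp8 : Subgroup Γ where
  carrier := {m | ∀ v w : W8, sf8 ((m : M8) *ᵥ v) ((m : M8) *ᵥ w) = sf8 v w}
  one_mem' := fun v w => by simp
  mul_mem' := fun {m n} hm hn v w => by
    rw [Units.val_mul, ← Matrix.mulVec_mulVec, ← Matrix.mulVec_mulVec, hm, hn]
  inv_mem' := fun {m} hm v w => by
    rw [← hm, Matrix.mulVec_mulVec, Matrix.mulVec_mulVec, ← Units.val_mul, mul_inv_cancel]; simp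

/-- Block diagonal matrices. -/
def bdm (x : Fin 4 → LB.S3) : M8 := Matrix.of fun p q => if p.1 = q.1 then (x p.1).1 p.2 q.2 else 0

theorem bdm_mul (x y : Fin 4 → LB.S3) : bdm (x * y) = bdm x * bdm y := by
  ext ⟨p, s⟩ ⟨q, r⟩
  by_cases h : p = q
  · subst h; simp [bdm, Matrix.mul_apply, Fintype.sum_prod_type]
  · simp [bdm, Matrix.mul_apply, Fintype.sum_prod_type, h]

theorem bdm_one : bdm 1 = 1 := by
  ext ⟨p, s⟩ ⟨q, r⟩
  by_cases h : p = q
  · subst h; simp [bdm, Matrix.one_apply]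
  · simp [bdm, Matrix.one_apply, h]

/-- Block diagonal elements. -/
def bd : (Fin 4 → LB.S3) →* Γ where
  toFun x := ⟨bdm x, bdm x⁻¹, by rw [← bdm_mul, mul_inv_cancel, bdm_one], by rw [← bdm_mul, inv_mul_cancel, bdm_one]⟩
  map_one' := Units.ext bdm_one
  map_mul' x y := Units.ext (bdm_mul x y)

theorem bd_val (x : Fin 4 → LB.S3) : (bd x : M8) = bdm x := rfl

/-- `m - 1`. -/
def nn (m : Γ) (v : W8) : W8 := (m : M8) *ᵥ v - v

/-- Four Jordan blocks of size two. -/
def Ty1 (m : Γ) : Prop := (∀ v, nn m (nn m v) = 0) ∧ ∀ u, nn m u = 0 → ∃ v, u = nn m v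
/-- At least two Jordan blocks of size three. -/
def Ty3 (m : Γ) : Prop := ∃ v w, ∀ i j : ZMod 3, i • nn m (nn m v) + j • nn m (nn m w) = 0 → i = 0 ∧ j = 0
/-- In addition the fixed space is not isotropic. -/
def Ty2 (m : Γ) : Prop := Ty3 m ∧ ∃ c d, nn m c = 0 ∧ nn m d = 0 ∧ sf8 c d ≠ 0

variable {G : Type u} [Group G]

/-- `Q3 a` is extraspecial of order `3^9` and exponent three, with linear coordinates on `Q3 a / ⟨a⟩`. -/
structure B0 (a : G) where
  vec : G → W8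
  mt : centralizer ({a} : Set G) →* Γ
  esz : ESZ 3 (Q3 a) a
  card : Nat.card (Q3 a) = 3 ^ 9
  cube : ∀ q ∈ Q3 a, q ^ 3 = 1
  cen : centralizer (Q3 a : Set G) ≤ zpowers a
  vec_mul : ∀ p ∈ Q3 a, ∀ q ∈ Q3 a, vec (p * q) = vec p + vec q
  vec_eq_zero : ∀ q ∈ Q3 a, vec q = 0 ↔ q ∈ zpowers a
  vec_surj : ∀ w, ∃ q ∈ Q3 a, vec q = w
  act : ∀ g : centralizer ({a} : Set G), ∀ q ∈ Q3 a, vec (g * q * (g : G)⁻¹) = (mt g : M8) *ᵥ vec q
  ker : ∀ g : centralizer ({a} : Set G), mt g = 1 ↔ (g : G) ∈ Q3 a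

/-- The coordinates are symplectic and `C(a)` acts as a group between `X0` and the normaliser of `R0`. -/
structure B8 (a : G) extends B0 a where
  comm : ∀ p ∈ Q3 a, ∀ q ∈ Q3 a, p * q * p⁻¹ * q⁻¹ = a ^ (sf8 (vec p) (vec q)).val
  nrm : mt.range ≤ normalizer (R0 : Set Γ)
  sub : X0 ≤ mt.range
  syl : ¬ 3 ^ 5 ∣ Nat.card mt.range

/-- The action of an element of `G` (junk outside `C(a)`). -/
noncomputable def B0.m {a : G} (F : B0 a) (g : G) : Γ :=
  open Classical in if h : g ∈ centralizer ({a} : Set G) then F.mt ⟨g, h⟩ else 1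

/-- The image of a subgroup. -/
noncomputable def B0.img {a : G} (F : B0 a) (T : Subgroup G) : Subgroup Γ := (T.subgroupOf (centralizer {a})).map F.mt

/-- No conjugate of `a` lies in `Q3 a` outside `⟨a⟩`. -/
def Wc1 (a : G) : Prop := ∀ y ∈ Q3 a, IsConj a y → y ∈ zpowers a

/-- The result of the local analysis: an involution `t` acting as `τ0`, a conjugate `y` of `a` in `Q3 a` and 3-elements
`h, q` of `C(t)` acting on `⟨a, y⟩` as transvections. -/
structure Lt (a : G) extends B8 a where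
  t : G
  y : G
  h : G
  q : G
  t2 : t * t = 1
  ta : t * a = a * t
  tm : toB8.toB0.m t = τ0
  yQ : y ∈ Q3 a
  yv : vec y = v0 ∨ vec y = -v0
  yc : IsConj a y
  ty : t * y = y * t
  th : t * h = h * t
  h3 : h ^ 3 = 1
  hy : h * y = y * h
  ha : h * a * h⁻¹ = a * y
  tq : t * q = q * t
  qQ : q ∈ Q3 a
  qy : q * y * q⁻¹ = y * a

/-- The structure `T3.F3` without the 2-group. -/
structure P3 (a : G) where
  vec : G → W6
  pm : G → Equiv.Perm (Fin 3)
  mt : G → Fin 3 → LB.S3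
  esz : ESZ 3 (Q3 a) a
  card : Nat.card (Q3 a) = 3 ^ 7
  cube : ∀ q ∈ Q3 a, q ^ 3 = 1
  cen : centralizer (Q3 a : Set G) ≤ zpowers a
  vec_mul : ∀ p ∈ Q3 a, ∀ q ∈ Q3 a, vec (p * q) = vec p + vec q
  vec_eq_zero : ∀ q ∈ Q3 a, vec q = 0 ↔ q ∈ zpowers a
  vec_surj : ∀ w, ∃ q ∈ Q3 a, vec q = w
  comm : ∀ p ∈ Q3 a, ∀ q ∈ Q3 a, p * q * p⁻¹ * q⁻¹ = a ^ (sf (vec p) (vec q)).val
  act : ∀ g, g * a = a * g → ∀ q ∈ Q3 a, ∀ i, vec (g * q * g⁻¹) (pm g i) = (mt g i).1.mulVec (vec q i)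
  pm_mul : ∀ g h, g * a = a * g → h * a = a * h → pm (g * h) = pm g * pm h
  mt_mul : ∀ g h, g * a = a * g → h * a = a * h → ∀ i, mt (g * h) i = mt g (pm h i) * mt h i
  ker : ∀ g, g * a = a * g → (g ∈ Q3 a ↔ pm g = 1 ∧ ∀ i, mt g i = 1)

end Cfsg.Agent.B3
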