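import Mathlib
import Cfsg.Agent.B3.Defs
import Cfsg.Agent.Rec.Sim

/-! Facts about the matrix model: see `stubs/Cfsg/Agent/B3/PLAN.md`. -/

set_option autoImplicit false
set_option exponentiation.threshold 100000
set_option maxRecDepth 100000
set_option synthInstance.maxSize 100000
set_option synthInstance.maxHeartbeats 400000

namespace Cfsg.Agent.B3

open Cfsg.Agent.Spor Cfsg.Agent.Rec Cfsg.Agent.T3 Cfsg.Agent.GT.PG Subgroup Matrix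
open scoped commutatorElement

universe u

/-- The letters. -/
noncomputable abbrev eL : List Γ := [gI1, gJ1, gI2, gJ2, gI3, gJ3, u1, u2, u3, sg, f1, f2, τ0, τ1, τ2, τ3]

theorem val_eq (x : Γ) {t : Tm} [ht : RT eL x t] : (x : M8) = dm (t.ev A cX) := rep_val (ht.eq ▸ repX.tm t)

theorem gR : C0.Lists tR_t.dom R0 ∧ Nat.card R0 = 128 := (repX.pick [0, 1, 2, 3, 4, 5]).gen tR_ok
theorem gS : C0.Lists tS_t.dom S0 ∧ Nat.card S0 = 81 := (repX.pick [6, 7, 8, 9]).gen tS_ok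
theorem gJ : C0.Lists tJ_t.dom J0 ∧ Nat.card J0 = 27 := (repX.pick [6, 7, 8]).gen tJ_ok
theorem gD : C0.Lists tD_t.dom D0 ∧ Nat.card D0 = 256 :=
  ((repX.term _ (by decide +kernel)).cons <| (repX.term _ (by decide +kernel)).cons <| repX.pick [4, 5]).gen tD_ok
theorem gN : Nat.card (clos [u3, u1 * u2]) = 9 :=
  (((repX.nth 8).cons <| (repX.term (u1 * u2) (by decide +kernel)).cons Cod.repL_nil).gen tN_ok).2
theorem gO : (cls [gI1, gJ1, gI2, gJ2, gI3, gJ3, u1, u2, u3, sg, f1] τ0).ncard = 36 :=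
  ((repX.pick [0, 1, 2, 3, 4, 5, 6, 7, 8, 9, 10]).orb (repX.nth 12) oT_ok).2

theorem lsX : C0.ListsL [tR_t.dom, tS_t.dom, tJ_t.dom, tD_t.dom] [R0, S0, J0, D0] :=
  gR.1.cons <| gS.1.cons <| gJ.1.cons <| gD.1.cons Cod.listsL_nil

theorem card_R0 : Nat.card R0 = 128 := gR.2
theorem card_S0 : Nat.card S0 = 81 := gS.2
theorem card_J0 : Nat.card J0 = 27 := gJ.2
theorem card_D0 : Nat.card D0 = 256 := gD.2

theorem gI1_val : (gI1 : M8) = kr !![0, 2, 0, 0; 1, 0, 0, 0; 0, 0, 0, 2; 0, 0, 1, 0] 1 := by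
  rw [val_eq gI1]; decide +kernel
theorem gJ1_val : (gJ1 : M8) = kr !![0, 0, 2, 0; 0, 0, 0, 1; 1, 0, 0, 0; 0, 2, 0, 0] 1 := by
  rw [val_eq gJ1]; decide +kernel
theorem gI2_val : (gI2 : M8) = kr !![0, 1, 0, 0; 2, 0, 0, 0; 0, 0, 0, 2; 0, 0, 1, 0] 1 := by
  rw [val_eq gI2]; decide +kernel
theorem gJ2_val : (gJ2 : M8) = kr !![0, 0, 1, 0; 0, 0, 0, 1; 2, 0, 0, 0; 0, 2, 0, 0] 1 := by
  rw [val_eq gJ2]; decide +kernel
theorem gI3_val : (gI3 : M8) = kr 1 !![0, 2; 1, 0] := by rw [val_eq gI3]; decide +kernel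
theorem gJ3_val : (gJ3 : M8) = kr 1 !![1, 2; 2, 2] := by rw [val_eq gJ3]; decide +kernel
theorem w_val : ((u1 * u2 : Γ) : M8) = kr !![1, 0, 0, 0; 0, 0, 0, 1; 0, 1, 0, 0; 0, 0, 1, 0] 1 := by
  rw [val_eq (u1 * u2)]; decide +kernel

theorem neg_one_eq : (-1 : Γ) = gI1 * gI1 := Units.ext (by
  rw [val_eq (gI1 * gI1), Units.val_neg, Units.val_one]; decide +kernel)

theorem neg_eq (g : Γ) : -g = gI1 * gI1 * g := by rw [← neg_one_eq, neg_one_mul]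

theorem I1R : gI1 ∈ R0 := mem_clos (by simp)
theorem J1R : gJ1 ∈ R0 := mem_clos (by simp)
theorem I2R : gI2 ∈ R0 := mem_clos (by simp)
theorem J2R : gJ2 ∈ R0 := mem_clos (by simp)
theorem I3R : gI3 ∈ R0 := mem_clos (by simp)
theorem J3R : gJ3 ∈ R0 := mem_clos (by simp)

theorem neg_mem_R0 : (-1 : Γ) ∈ R0 := neg_one_eq ▸ mul_mem I1R I1R

theorem cubes : u1 ^ 3 = 1 ∧ u2 ^ 3 = 1 ∧ u3 ^ 3 = 1 ∧ sg ^ 3 = 1 ∧ f1 ^ 3 = 1 ∧ f2 ^ 3 = 1 ∧ (u1 * u2) ^ 3 = 1 :=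
  lsX.decide repX (by decide +kernel)

theorem om0_act : om0 * gI1 * om0⁻¹ = gJ1 ∧ om0 * gJ1 * om0⁻¹ = gI1 * gJ1 ∧ om0 * gI2 * om0⁻¹ = gJ2 ∧
    om0 * gJ2 * om0⁻¹ = gI2 * gJ2 ∧ om0 * gI3 * om0⁻¹ = -gJ3 ∧ om0 * gJ3 * om0⁻¹ = -(gI3 * gJ3) := by
  rw [neg_eq, neg_eq, om0]
  exact lsX.decide repX (by decide +kernel)

theorem R0_le_X0 : R0 ≤ X0 := clos_le.2 fun x hx => mem_clos (by simp at hx ⊢; tauto)
theorem S0_le_X0 : S0 ≤ X0 := clos_le.2 fun x hx => mem_clos (by simp at hx ⊢; tauto)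
theorem J0_le_S0 : J0 ≤ S0 := clos_le.2 fun x hx => mem_clos (by simp at hx ⊢; tauto)

theorem D0_le_C3 : D0 ≤ C3 := by
  have h0 : u3 ∈ C3 := mem_clos (by simp)
  have h2 : f1 ∈ C3 := mem_clos (by simp)
  have h3 : gI3 * u3 * gI3⁻¹ ∈ C3 := mem_clos (by simp)
  have e : gI3 = u3 * (gI3 * u3 * gI3⁻¹) * u3 ∧ gJ3 = gI3 * u3 * gI3⁻¹ * (gI3 * u3 * gI3⁻¹) * u3 :=
    lsX.decide repX (by decide +kernel)
  have h1 : f1 * u3⁻¹ ∈ C3 := mul_mem h2 (inv_mem h0)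
  refine clos_le.2 fun x hx => ?_
  simp only [List.mem_cons, List.not_mem_nil, or_false] at hx
  rcases hx with rfl | rfl | rfl | rfl
  exacts [h1, mul_mem (mul_mem h0 h1) (inv_mem h0), e.1 ▸ mul_mem (mul_mem h0 h3) h0, e.2 ▸ mul_mem (mul_mem h3 h3) h0]

theorem C3_le : C3 ≤ X0 ⊓ centralizer {τ0} := by
  have e : u3 * τ0 = τ0 * u3 ∧ u1 * u2 * τ0 = τ0 * (u1 * u2) ∧ f1 * τ0 = τ0 * f1 ∧
      gI3 * u3 * gI3⁻¹ * τ0 = τ0 * (gI3 * u3 * gI3⁻¹) := lsX.decide repX (by decide +kernel)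
  have h1 : u1 ∈ X0 := mem_clos (by simp)
  have h2 : u2 ∈ X0 := mem_clos (by simp)
  have h3 : u3 ∈ X0 := mem_clos (by simp)
  refine clos_le.2 fun x hx => ?_
  simp only [List.mem_cons, List.not_mem_nil, or_false] at hx
  rcases hx with rfl | rfl | rfl | rfl
  exacts [⟨h3, mem_cen.2 e.1⟩, ⟨mul_mem h1 h2, mem_cen.2 e.2.1⟩, ⟨mem_clos (by simp), mem_cen.2 e.2.2.1⟩,
    ⟨X0.mul_mem (X0.mul_mem (R0_le_X0 I3R) h3) (X0.inv_mem (R0_le_X0 I3R)), mem_cen.2 e.2.2.2⟩]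

theorem τ0_v0 : (τ0 : M8) *ᵥ v0 = v0 := by rw [val_eq τ0]; decide +kernel

theorem τ_bd : τ0 = bd (Pi.mulSingle 0 (-1)) ∧ τ1 = bd (Pi.mulSingle 1 (-1)) ∧ τ2 = bd (Pi.mulSingle 2 (-1)) ∧
    τ3 = bd (Pi.mulSingle 3 (-1)) :=
  ⟨Units.ext (by rw [val_eq τ0, bd_val]; decide +kernel), Units.ext (by rw [val_eq τ1, bd_val]; decide +kernel),
    Units.ext (by rw [val_eq τ2, bd_val]; decide +kernel), Units.ext (by rw [val_eq τ3, bd_val]; decide +kernel)⟩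

theorem τ_cj : (∀ r ∈ R0, r * τ0 * r⁻¹ = τ0 ∨ r * τ0 * r⁻¹ = τ1 ∨ r * τ0 * r⁻¹ = τ2 ∨ r * τ0 * r⁻¹ = τ3) ∧
    gI1 * τ0 * gI1⁻¹ = τ1 ∧ gJ1 * τ0 * gJ1⁻¹ = τ2 ∧ gI1 * gJ1 * τ0 * (gI1 * gJ1)⁻¹ = τ3 :=
  lsX.decide repX (by decide +kernel)

theorem τ_mem : τ0 ∈ D0 ∧ τ1 ∈ D0 ∧ τ2 ∈ D0 ∧ τ3 ∈ D0 := lsX.decide repX (by decide +kernel)

theorem v0_nc : ∃ m ∈ X0, sf8 v0 ((m : M8) *ᵥ v0) ≠ 0 :=
  ⟨gI3 * τ1, mul_mem (R0_le_X0 I3R) (C3_le (D0_le_C3 τ_mem.2.1)).1, by rw [val_eq (gI3 * τ1)]; decide +kernel⟩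

theorem τ_comm : ∃ a1 ∈ C3, ∃ a2 ∈ C3, ∃ b1 ∈ C3, ∃ b2 ∈ C3, τ0 = ⁅⁅a1, a2⁆ ^ 3, ⁅b1, b2⁆ ^ 3⁆ := by
  have h : gJ3 * (f1 * u3⁻¹) ∈ D0 ∧ gI3 * (u3 * (f1 * u3⁻¹) * u3⁻¹) ∈ D0 ∧
      τ0 = ⁅⁅gJ3 * (f1 * u3⁻¹), u3⁆ ^ 3, ⁅gI3 * (u3 * (f1 * u3⁻¹) * u3⁻¹), u3⁆ ^ 3⁆ := lsX.decide repX (by decide +kernel)
  exact ⟨_, D0_le_C3 h.1, u3, mem_clos (by simp), _, D0_le_C3 h.2.1, u3, mem_clos (by simp), h.2.2⟩

/-- The Gram matrix. -/
def Om : M8 := kr 1 !![0, 1; 2, 0]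

theorem sf8_Om (v w : W8) : sf8 v w = v ⬝ᵥ Om *ᵥ w := by
  simp only [sf8, Om, kr, dotProduct, mulVec, Fintype.sum_prod_type, Fin.sum_univ_two, Fin.sum_univ_four, of_apply, one_apply]
  simp
  have h : (2 : ZMod 3) = -1 := rfl
  rw [h]; ring

theorem mem_Sp {m : Γ} (h : (m : M8)ᵀ * (Om * m) = Om) : m ∈ Sp8 := fun v w => by
  rw [sf8_Om, sf8_Om, mulVec_mulVec, ← vecMul_transpose, ← dotProduct_mulVec, mulVec_mulVec, h]

theorem sp_of (x : Γ) {t : Tm} [ht : RT eL x t] (h : (dm (t.ev A cX))ᵀ * (Om * dm (t.ev A cX)) = Om) : x ∈ Sp8 :=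
  mem_Sp (by rw [val_eq x]; exact h)

theorem X0_le_Sp : X0 ≤ Sp8 := by
  refine clos_le.2 fun x hx => ?_
  simp only [List.mem_cons, List.not_mem_nil, or_false] at hx
  rcases hx with rfl | rfl | rfl | rfl | rfl | rfl | rfl | rfl | rfl | rfl | rfl <;> exact sp_of _ (by decide +kernel)

theorem R0_le_Sp : R0 ≤ Sp8 := R0_le_X0.trans X0_le_Sp

/-- Two vectors. -/
def ve : W8 := Pi.single (0, 0) 1
def vf : W8 := Pi.single (0, 0) 1 - Pi.single (0, 1) 1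

theorem K1R : gI1 * gJ1 ∈ R0 := mul_mem I1R J1R

theorem pi_eq : vecMulVec ve vf =
    -((1 + ((gI1 * gI2 : Γ) : M8)) * (1 + ((gJ1 * gJ2 : Γ) : M8)) * (1 + ((gI3 : M8) + gJ3))) := by
  rw [val_eq (gI1 * gI2), val_eq (gJ1 * gJ2), val_eq gI3, val_eq gJ3]; decide +kernel

theorem ex_c : ∀ p : I8, ∃ r ∈ R0, (r : M8) *ᵥ ve = Pi.single p 1 := by
  rintro ⟨p, s⟩
  fin_cases p <;> fin_cases s
  · exact ⟨1, one_mem _, by rw [val_eq 1]; decide +kernel⟩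
  · exact ⟨_, I3R, by rw [val_eq gI3]; decide +kernel⟩
  · exact ⟨_, I1R, by rw [val_eq gI1]; decide +kernel⟩
  · exact ⟨_, mul_mem I1R I3R, by rw [val_eq (gI1 * gI3)]; decide +kernel⟩
  · exact ⟨_, J1R, by rw [val_eq gJ1]; decide +kernel⟩
  · exact ⟨_, mul_mem J1R I3R, by rw [val_eq (gJ1 * gI3)]; decide +kernel⟩
  · exact ⟨_, K1R, by rw [val_eq (gI1 * gJ1)]; decide +kernel⟩
  · exact ⟨_, mul_mem K1R I3R, by rw [val_eq (gI1 * gJ1 * gI3)]; decide +kernel⟩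

theorem ex_b : ∀ q : I8, ∃ r ∈ R0, vf ᵥ* ((r : M8) - ((r * gI3 : Γ) : M8)) = Pi.single q 1 ∨
    vf ᵥ* ((r : M8) + ((r * gI3 : Γ) : M8)) = Pi.single q 1 := by
  rintro ⟨p, s⟩
  fin_cases p <;> fin_cases s
  · exact ⟨_, mul_mem I1R I1R, .inl (by rw [val_eq (gI1 * gI1), val_eq (gI1 * gI1 * gI3)]; decide +kernel)⟩
  · exact ⟨1, one_mem _, .inr (by rw [val_eq 1, val_eq (1 * gI3)]; decide +kernel)⟩
  · exact ⟨_, I1R, .inl (by rw [val_eq gI1, val_eq (gI1 * gI3)]; decide +kernel)⟩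
  · exact ⟨_, inv_mem I1R, .inr (by rw [val_eq gI1⁻¹, val_eq (gI1⁻¹ * gI3)]; decide +kernel)⟩
  · exact ⟨_, J1R, .inl (by rw [val_eq gJ1, val_eq (gJ1 * gI3)]; decide +kernel)⟩
  · exact ⟨_, inv_mem J1R, .inr (by rw [val_eq gJ1⁻¹, val_eq (gJ1⁻¹ * gI3)]; decide +kernel)⟩
  · exact ⟨_, K1R, .inl (by rw [val_eq (gI1 * gJ1), val_eq (gI1 * gJ1 * gI3)]; decide +kernel)⟩
  · exact ⟨_, inv_mem K1R, .inr (by rw [val_eq (gI1 * gJ1)⁻¹, val_eq ((gI1 * gJ1)⁻¹ * gI3)]; decide +kernel)⟩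

/-- The six generators span the matrix algebra. -/
theorem alg_top (S : Subalgebra (ZMod 3) M8) (h : ∀ g ∈ [gI1, gJ1, gI2, gJ2, gI3, gJ3], (g : M8) ∈ S) (m : M8) : m ∈ S := by
  have hi : ∀ r ∈ R0, r⁻¹ = r * r * r := lsX.decide repX (by decide +kernel)
  have hR : ∀ r ∈ R0, (r : M8) ∈ S := fun r hr => by
    induction hr using closure_induction with
    | mem x hx => exact h x hx
    | one => exact S.one_mem
    | mul x y _ _ hx hy => exact S.mul_mem hx hy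
    | inv x h1 hx => rw [hi x h1]; exact S.mul_mem (S.mul_mem hx hx) hx
  have hπ : vecMulVec ve vf ∈ S := by
    rw [pi_eq]
    exact S.neg_mem (S.mul_mem (S.mul_mem (S.add_mem S.one_mem (hR _ (mul_mem I1R I2R)))
      (S.add_mem S.one_mem (hR _ (mul_mem J1R J2R)))) (S.add_mem S.one_mem (S.add_mem (hR _ I3R) (hR _ J3R))))
  have hs : ∀ p q : I8, single p q (1 : ZMod 3) ∈ S := fun p q => by
    obtain ⟨r, hr, e1⟩ := ex_c p
    obtain ⟨b, hb, e2⟩ : ∃ b ∈ S, vf ᵥ* b = Pi.single q 1 := by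
      obtain ⟨r, hr, e2 | e2⟩ := ex_b q
      exacts [⟨_, S.sub_mem (hR _ hr) (hR _ (mul_mem hr I3R)), e2⟩, ⟨_, S.add_mem (hR _ hr) (hR _ (mul_mem hr I3R)), e2⟩]
    rw [single_eq_single_vecMulVec_single, ← e1, ← e2, ← vecMulVec_mul, ← mul_vecMulVec]
    exact S.mul_mem (S.mul_mem (hR _ hr) hπ) hb
  rw [matrix_eq_sum_single m]
  refine S.sum_mem fun p _ => S.sum_mem fun q _ => ?_
  rw [← mul_one (m p q), ← smul_eq_mul, ← smul_single]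
  exact S.smul_mem (hs p q) _

theorem irr (U : Submodule (ZMod 3) W8) (h : ∀ g ∈ [gI1, gJ1, gI2, gJ2, gI3, gJ3], ∀ v ∈ U, (g : M8) *ᵥ v ∈ U) :
    U = ⊥ ∨ U = ⊤ := by
  let S : Subalgebra (ZMod 3) M8 :=
    { carrier := {m | ∀ v ∈ U, m *ᵥ v ∈ U}
      mul_mem' := fun ha hb v hv => by rw [← mulVec_mulVec]; exact ha _ (hb v hv)
      add_mem' := fun ha hb v hv => by rw [add_mulVec]; exact U.add_mem (ha v hv) (hb v hv)
      algebraMap_mem' := fun c v hv => by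
        rw [Algebra.algebraMap_eq_smul_one, smul_mulVec, one_mulVec]; exact U.smul_mem c hv }
  refine or_iff_not_imp_left.2 fun h0 => eq_top_iff.2 fun w _ => ?_
  obtain ⟨v, hv, v0⟩ := (Submodule.ne_bot_iff U).1 h0
  obtain ⟨q, hq⟩ := Function.ne_iff.1 v0
  have := alg_top S h (vecMulVec w (Pi.single q (v q)⁻¹)) v hv
  rwa [vecMulVec_mulVec, single_dotProduct, inv_mul_cancel₀ hq, MulOpposite.op_one, one_smul] at this

theorem scalar (m : M8) (h : ∀ g ∈ [gI1, gJ1, gI2, gJ2, gI3, gJ3], m * (g : M8) = g * m) : ∃ c : ZMod 3, m = c • 1 := by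
  have h1 : ∀ x : M8, m * x = x * m := fun x => alg_top (Subalgebra.centralizer (ZMod 3) {m})
    (fun g hg => (Subalgebra.mem_centralizer_iff _).2 fun y hy => by rw [hy, h g hg]) x m rfl
  obtain ⟨c, hc⟩ := mem_range_scalar_of_commute_single (M := m) fun i j _ => (h1 _).symm
  exact ⟨c, by rw [← hc, scalar_apply, smul_one_eq_diagonal]⟩

theorem cen_R0 {m : Γ} (h : ∀ r ∈ R0, m * r = r * m) : m = 1 ∨ m = -1 := by
  obtain ⟨c, hc⟩ := scalar m fun g hg => congrArg Units.val (h g (mem_clos hg))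
  have h3 : ∀ c : ZMod 3, c = 0 ∨ c = 1 ∨ c = -1 := by decide
  rcases h3 c with rfl | rfl | rfl
  · exact absurd (hc.trans (zero_smul _ _)) m.ne_zero
  · exact .inl (Units.ext (hc.trans (one_smul _ _)))
  · exact .inr (Units.ext (hc.trans (by simp)))

theorem card_le_mul {G : Type u} [Group G] [Finite G] {H : Subgroup G} (r : G) {O : Set G} {n k : ℕ} (hn : O.ncard ≤ n)
    (h : ∀ g ∈ H, g * r * g⁻¹ ∈ O) (hk : Nat.card (H ⊓ centralizer {r} : Subgroup G) ≤ k) : Nat.card H ≤ n * k := by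
  let f : H → O := fun g => ⟨_, h g g.2⟩
  let s : O → H := fun o => Function.invFun f o
  have hs : ∀ g, (s (f g) : G) * r * (s (f g) : G)⁻¹ = g * r * (g : G)⁻¹ := fun g =>
    congrArg Subtype.val (Function.invFun_eq (f := f) ⟨g, rfl⟩)
  have := Nat.card_le_card_of_injective (fun g : H => ((f g, ⟨(s (f g) : G)⁻¹ * g, H.mul_mem (H.inv_mem (s _).2) g.2, mem_cen.2 (by
    calc (s (f g) : G)⁻¹ * g * r = (s (f g) : G)⁻¹ * (g * r * (g : G)⁻¹) * g := by group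
      _ = r * ((s (f g) : G)⁻¹ * g) := by rw [← hs]; group)⟩) : O × (H ⊓ centralizer {r} : Subgroup G))) fun a b hab => by
    have h1 : f a = f b := congrArg Prod.fst hab
    have h2 : (s (f a) : G)⁻¹ * a = (s (f b) : G)⁻¹ * b := congrArg (fun x => x.2.1) hab
    rw [h1] at h2
    exact Subtype.ext (mul_left_cancel h2)
  rw [Nat.card_prod, Nat.card_coe_set_eq] at this
  exact this.trans (Nat.mul_le_mul hn hk)

theorem ncard_two (x y : Γ) : ({x, y} : Set Γ).ncard ≤ 2 := (Set.ncard_insert_le _ _).trans (by simp)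

theorem card_end (H : Subgroup Γ) : Nat.card (H ⊓ centralizer {gI1} ⊓ centralizer {gJ1} ⊓ centralizer {gI2} ⊓
    centralizer {gJ2} ⊓ centralizer {gI3} ⊓ centralizer {gJ3} : Subgroup Γ) ≤ 2 := by
  refine (card_le_ncard (T := {1, -1}) ?_).trans (ncard_two _ _)
  rintro x ⟨⟨⟨⟨⟨⟨-, h1⟩, h2⟩, h3⟩, h4⟩, h5⟩, h6⟩
  refine cen_R0 (commute_clos fun y hy => ?_)
  simp only [List.mem_cons, List.not_mem_nil, or_false] at hy
  rcases hy with rfl | rfl | rfl | rfl | rfl | rfl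
  exacts [mem_cen.1 h1, mem_cen.1 h2, mem_cen.1 h3, mem_cen.1 h4, mem_cen.1 h5, mem_cen.1 h6]

theorem cj_sq {g x : Γ} (h : x * x = gI1 * gI1) : g * x * g⁻¹ * (g * x * g⁻¹) = gI1 * gI1 := by
  rw [← neg_one_eq] at h ⊢
  calc g * x * g⁻¹ * (g * x * g⁻¹) = g * (x * x) * g⁻¹ := by group
    _ = -1 := by rw [h]; simp

theorem cj_comm {G : Type u} [Group G] {g x y : G} (hg : g ∈ centralizer {y}) :
    g * x * g⁻¹ * y = y * (g * x * g⁻¹) ↔ x * y = y * x := by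
  have h : g * y * g⁻¹ = y := mem_cen'.1 hg
  have : g * x * g⁻¹ * (g * y * g⁻¹) = g * y * g⁻¹ * (g * x * g⁻¹) ↔ x * y = y * x :=
    by rw [conj_mul, conj_mul, mul_left_inj, mul_right_inj]
  rwa [h] at this

theorem rels : gJ1 * gJ1 = gI1 * gI1 ∧ gI2 * gI2 = gI1 * gI1 ∧ gJ2 * gJ2 = gI1 * gI1 ∧ gI3 * gI3 = gI1 * gI1 ∧
    gJ3 * gJ3 = gI1 * gI1 ∧ ¬ gJ1 * gI1 = gI1 * gJ1 ∧ ¬ gJ2 * gI2 = gI2 * gJ2 ∧ ¬ gJ3 * gI3 = gI3 * gJ3 ∧
    gI2 * gI1 = gI1 * gI2 ∧ gI2 * gJ1 = gJ1 * gI2 ∧ gJ2 * gI1 = gI1 * gJ2 ∧ gJ2 * gJ1 = gJ1 * gJ2 ∧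
    gI3 * gI1 = gI1 * gI3 ∧ gI3 * gJ1 = gJ1 * gI3 ∧ gI3 * gI2 = gI2 * gI3 ∧ gI3 * gJ2 = gJ2 * gI3 ∧
    gJ3 * gI1 = gI1 * gJ3 ∧ gJ3 * gJ1 = gJ1 * gJ3 ∧ gJ3 * gI2 = gI2 * gJ3 ∧ gJ3 * gJ2 = gJ2 * gJ3 :=
  lsX.decide repX (by decide +kernel)

section

variable {H : Subgroup Γ} (hH : H ≤ normalizer (R0 : Set Γ)) {k : ℕ}

include hH

theorem st1 (hk : Nat.card (H ⊓ centralizer {gI1} : Subgroup Γ) ≤ k) : Nat.card H ≤ 72 * k :=
  card_le_mul _ (lsX.count_le repX gR.1 (fun y => y * y = gI1 * gI1) 72 (by decide +kernel))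
    (fun _ hg => ⟨conj_mem_of_mem_norm (hH hg) I1R, cj_sq rfl⟩) hk

theorem st2 (h1 : H ≤ centralizer {gI1}) (h2 : H ≤ centralizer {gJ1})
    (hk : Nat.card (H ⊓ centralizer {gI2} : Subgroup Γ) ≤ k) : Nat.card H ≤ 12 * k := by
  obtain ⟨-, a, -, -, -, -, -, -, b, c, -⟩ := rels
  exact card_le_mul _
    (lsX.count_le repX gR.1 (fun y => y * y = gI1 * gI1 ∧ y * gI1 = gI1 * y ∧ y * gJ1 = gJ1 * y) 12 (by decide +kernel))
    (fun _ hg => ⟨conj_mem_of_mem_norm (hH hg) I2R, cj_sq a, (cj_comm (h1 hg)).2 b, (cj_comm (h2 hg)).2 c⟩) hk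

theorem st3 (h1 : H ≤ centralizer {gI1}) (h2 : H ≤ centralizer {gJ1}) (h3 : H ≤ centralizer {gI2}) (h4 : H ≤ centralizer {gJ2})
    (hk : Nat.card (H ⊓ centralizer {gI3} : Subgroup Γ) ≤ k) : Nat.card H ≤ 6 * k := by
  obtain ⟨-, -, -, a, -, -, -, -, -, -, -, -, b, c, d, e, -⟩ := rels
  exact card_le_mul _ (lsX.count_le repX gR.1 (fun y => y * y = gI1 * gI1 ∧ y * gI1 = gI1 * y ∧ y * gJ1 = gJ1 * y ∧
      y * gI2 = gI2 * y ∧ y * gJ2 = gJ2 * y) 6 (by decide +kernel))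
    (fun _ hg => ⟨conj_mem_of_mem_norm (hH hg) I3R, cj_sq a, (cj_comm (h1 hg)).2 b, (cj_comm (h2 hg)).2 c,
      (cj_comm (h3 hg)).2 d, (cj_comm (h4 hg)).2 e⟩) hk

end

theorem card_N : Nat.card (normalizer (R0 : Set Γ)) ≤ 6635520 := by
  obtain ⟨a1, -, a2, -, a3, n1, n2, n3, -, -, b1, b2, -, -, -, -, c1, c2, c3, c4⟩ := rels
  refine st1 le_rfl (k := 40 * (12 * (4 * (6 * (4 * 2))))) ?_
  refine card_le_mul gJ1 (lsX.count_le repX gR.1 (fun y => y * y = gI1 * gI1 ∧ ¬ y * gI1 = gI1 * y) 40 (by decide +kernel))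
    (fun _ hg => ⟨conj_mem_of_mem_norm hg.1 J1R, cj_sq a1, (cj_comm hg.2).not.2 n1⟩) ?_
  refine st2 (by exact fun _ h => h.1.1) (by exact fun _ h => h.1.2) inf_le_right ?_
  refine card_le_mul gJ2 (lsX.count_le repX gR.1
    (fun y => y * y = gI1 * gI1 ∧ y * gI1 = gI1 * y ∧ y * gJ1 = gJ1 * y ∧ ¬ y * gI2 = gI2 * y) 4 (by decide +kernel))
    (fun _ hg => ⟨conj_mem_of_mem_norm hg.1.1.1 J2R, cj_sq a2, (cj_comm hg.1.1.2).2 b1, (cj_comm hg.1.2).2 b2,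
      (cj_comm hg.2).not.2 n2⟩) ?_
  refine st3 (by exact fun _ h => h.1.1.1.1) (by exact fun _ h => h.1.1.1.2) (by exact fun _ h => h.1.1.2)
    (by exact fun _ h => h.1.2) inf_le_right ?_
  exact card_le_mul gJ3 (lsX.count_le repX gR.1 (fun y => y * y = gI1 * gI1 ∧ y * gI1 = gI1 * y ∧ y * gJ1 = gJ1 * y ∧
      y * gI2 = gI2 * y ∧ y * gJ2 = gJ2 * y ∧ ¬ y * gI3 = gI3 * y) 4 (by decide +kernel))
    (fun _ hg => ⟨conj_mem_of_mem_norm hg.1.1.1.1.1 J3R, cj_sq a3, (cj_comm hg.1.1.1.1.2).2 c1,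
      (cj_comm hg.1.1.1.2).2 c2, (cj_comm hg.1.1.2).2 c3, (cj_comm hg.1.2).2 c4, (cj_comm hg.2).not.2 n3⟩) (card_end _)

/-- The elements of the normaliser commuting with `om0` modulo `R0`. -/
noncomputable def NU : Subgroup Γ where
  carrier := {m | m ∈ normalizer (R0 : Set Γ) ∧ m * om0 * m⁻¹ * om0⁻¹ ∈ R0}
  one_mem' := ⟨one_mem _, by simp⟩
  mul_mem' := fun {m n} hm hn => ⟨mul_mem hm.1 hn.1, by
    have := mul_mem (conj_mem_of_mem_norm hm.1 hn.2) hm.2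
    rwa [show m * (n * om0 * n⁻¹ * om0⁻¹) * m⁻¹ * (m * om0 * m⁻¹ * om0⁻¹) = m * n * om0 * (m * n)⁻¹ * om0⁻¹ by group] at this⟩
  inv_mem' := fun {m} hm => ⟨inv_mem hm.1, by
    have := conj_mem_of_mem_norm (inv_mem hm.1) (inv_mem hm.2)
    rwa [show m⁻¹ * (m * om0 * m⁻¹ * om0⁻¹)⁻¹ * m⁻¹⁻¹ = m⁻¹ * om0 * m⁻¹⁻¹ * om0⁻¹ by group] at this⟩

theorem cj_R0 : ∀ r ∈ R0, ∀ s ∈ R0, r * s * r⁻¹ = s ∨ r * s * r⁻¹ = gI1 * gI1 * s := lsX.decide repX (by decide +kernel)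

theorem stU {H : Subgroup Γ} (hH : H ≤ NU) {x y : Γ} (hx : H ≤ centralizer {x}) (hy : y ∈ R0)
    (h : om0 * x * om0⁻¹ = y ∨ om0 * x * om0⁻¹ = -y) {k : ℕ} (hk : Nat.card (H ⊓ centralizer {y} : Subgroup Γ) ≤ k) :
    Nat.card H ≤ 2 * k := by
  refine card_le_mul y (ncard_two y (gI1 * gI1 * y)) (fun g hg => ?_) hk
  have e : g * (om0 * x * om0⁻¹) * g⁻¹ =
      g * om0 * g⁻¹ * om0⁻¹ * (om0 * x * om0⁻¹) * (g * om0 * g⁻¹ * om0⁻¹)⁻¹ := by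
    calc g * (om0 * x * om0⁻¹) * g⁻¹ = g * om0 * g⁻¹ * (g * x * g⁻¹) * (g * om0 * g⁻¹)⁻¹ := by group
      _ = _ := by rw [mem_cen'.1 (hx hg)]; group
  have e2 : g * y * g⁻¹ = g * om0 * g⁻¹ * om0⁻¹ * y * (g * om0 * g⁻¹ * om0⁻¹)⁻¹ := by
    rcases h with h | h <;> rw [h] at e
    · exact e
    · simpa only [mul_neg, neg_mul, neg_inj] using e
  rw [e2]
  exact cj_R0 _ (hH hg).2 y hy

theorem card_NU : Nat.card NU ≤ 82944 := by
  obtain ⟨a1, -, a2, -, a3, -⟩ := om0_act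
  refine st1 (H := NU) (fun _ h => h.1) (k := 2 * (12 * (2 * (6 * (2 * 2))))) (stU inf_le_left inf_le_right J1R (.inl a1) ?_)
  refine st2 (by exact fun _ h => h.1.1.1) (by exact fun _ h => h.1.2) inf_le_right
    (stU (by exact fun _ h => h.1.1.1) inf_le_right J2R (.inl a2) ?_)
  exact st3 (by exact fun _ h => h.1.1.1.1.1) (by exact fun _ h => h.1.1.1.2) (by exact fun _ h => h.1.1.2)
    (by exact fun _ h => h.1.2) inf_le_right (stU (by exact fun _ h => h.1.1.1.1.1) inf_le_right J3R (.inr a3) (card_end _))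

theorem nu_of (x : Γ) (h : (∀ r ∈ R0, x * r * x⁻¹ ∈ R0) ∧ x * (u1 * u2 * u3) * x⁻¹ * (u1 * u2 * u3)⁻¹ ∈ R0) : x ∈ NU :=
  ⟨mem_normalizer_fintype h.1, h.2⟩

theorem X0_le_NU : X0 ≤ NU := by
  refine clos_le.2 fun x hx => ?_
  simp only [List.mem_cons, List.not_mem_nil, or_false] at hx
  rcases hx with rfl | rfl | rfl | rfl | rfl | rfl | rfl | rfl | rfl | rfl | rfl <;>
    exact nu_of _ (lsX.decide repX (by decide +kernel))

theorem f2_mem : f2 ∈ normalizer (R0 : Set Γ) :=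
  mem_normalizer_fintype (show ∀ r ∈ R0, f2 * r * f2⁻¹ ∈ R0 from lsX.decide repX (by decide +kernel))

theorem orb_le {K : Subgroup Γ} (h : K ≤ X0 ⊓ centralizer {τ0}) : 36 * Nat.card K ≤ Nat.card X0 :=
  gO ▸ mul_card_le_of_conj (fun _ hk => (h hk).1) (fun _ hk => mem_cen.1 (h hk).2) fun _ hs => hs

theorem le_C3 : 2304 ≤ Nat.card C3 := by
  have h1 : 256 ∣ Nat.card C3 := card_D0 ▸ card_dvd_of_le D0_le_C3
  have h2 : 9 ∣ Nat.card C3 := gN ▸ card_dvd_of_le (clos_le.2 fun x hx => mem_clos (by simp at hx ⊢; tauto))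
  exact Nat.le_of_dvd Nat.card_pos (Nat.Coprime.mul_dvd_of_dvd_of_dvd (by norm_num) h1 h2)

theorem card_X0_le : Nat.card X0 ≤ 82944 := (card_le_of_le X0_le_NU).trans card_NU

theorem card_C3 : Nat.card C3 = 2304 := by
  have := orb_le C3_le
  have := le_C3
  have := card_X0_le
  omega

theorem cen_τ {L : Subgroup Γ} (hX : X0 ≤ L) (hL : Nat.card L = 82944) : L ⊓ centralizer {τ0} = C3 := by
  have h1 := orb_le C3_le
  have h2 := orb_le le_rfl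
  have h3 := card_C3
  have h4 := card_X0_le
  rw [← eq_of_le_of_card_ge hX (by omega)]
  exact (eq_of_le_of_card_ge C3_le (by omega)).symm

theorem s_exp {T : Subgroup Γ} (h : T ≤ S0) (h3 : ∀ x ∈ T, x ^ 3 = 1) : Nat.card T ≤ 27 := by
  have h1 : u1 * sg ∈ S0 ∧ (u1 * sg) ^ 3 ≠ 1 := lsX.decide repX (by decide +kernel)
  have h2 : Nat.card T ∣ 3 ^ 4 := (card_dvd_of_le h).trans (by rw [card_S0]; norm_num)
  obtain ⟨i, hi, e⟩ := (Nat.dvd_prime_pow Nat.prime_three).1 h2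
  by_contra hc
  have : i = 4 := by
    by_contra h4
    exact hc (e ▸ Nat.pow_le_pow_right (n := 3) (by norm_num) (show i ≤ 3 by omega))
  rw [eq_of_le_of_card_ge h (by rw [e, this, card_S0]; norm_num)] at h3
  exact h1.2 (h3 _ h1.1)

theorem s_cen : ∀ x ∈ (S0 : Set Γ), x ∉ J0 → {y | y ∈ (S0 : Set Γ) ∧ y * x = x * y}.ncard ≤ 9 :=
  lsX.all_count repX gS.1 gS.1 (fun x => x ∉ J0) (fun x y => y * x = x * y) 9 (by decide +kernel)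

theorem s_ab {T : Subgroup Γ} (h : T ≤ S0) (hc : ∀ x ∈ T, ∀ y ∈ T, x * y = y * x) (h27 : 27 ≤ Nat.card T) : T = J0 := by
  refine eq_of_le_of_card_ge (fun x hx => by_contra fun hn => ?_) (card_J0 ▸ h27)
  have := (card_le_ncard (F := T) fun y hy => by exact ⟨h hy, hc y hy x hx⟩).trans (s_cen x (h hx) hn)
  omega

theorem nn_conj (g m : Γ) (v : W8) : nn m ((g⁻¹ : Γ) *ᵥ v) = (g⁻¹ : Γ) *ᵥ nn (g * m * g⁻¹) v := by
  rw [nn, nn, mulVec_sub, mulVec_mulVec, mulVec_mulVec, ← Units.val_mul, ← Units.val_mul]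
  simp [mul_assoc]

theorem inv_cancel (g : Γ) (v : W8) : (g : M8) *ᵥ ((g⁻¹ : Γ) : M8) *ᵥ v = v := by
  rw [mulVec_mulVec, ← Units.val_mul, mul_inv_cancel, Units.val_one, one_mulVec]

theorem cancel_inv (g : Γ) (v : W8) : ((g⁻¹ : Γ) : M8) *ᵥ (g : M8) *ᵥ v = v := by simp

theorem Ty1.of_conj {g m y : Γ} (e : g * m * g⁻¹ = y) (h : Ty1 y) : Ty1 m := by
  subst e
  refine ⟨fun v => ?_, fun u hu => ?_⟩
  · rw [← cancel_inv g v, nn_conj, nn_conj, h.1, mulVec_zero]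
  · rw [← cancel_inv g u, nn_conj] at hu
    obtain ⟨v, hv⟩ := h.2 (g *ᵥ u) (by rw [← inv_cancel g (nn _ _), hu, mulVec_zero])
    exact ⟨_, by rw [nn_conj, ← hv, cancel_inv]⟩

theorem Ty3.of_conj {g m y : Γ} (e : g * m * g⁻¹ = y) (h : Ty3 y) : Ty3 m := by
  subst e
  obtain ⟨v, w, h⟩ := h
  refine ⟨(g⁻¹ : Γ) *ᵥ v, (g⁻¹ : Γ) *ᵥ w, fun i j e => h i j ?_⟩
  rw [nn_conj, nn_conj, nn_conj, nn_conj, ← mulVec_smul, ← mulVec_smul, ← mulVec_add] at e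
  rw [← inv_cancel g (_ + _), e, mulVec_zero]

theorem Ty2.of_conj {g m y : Γ} (hg : g ∈ Sp8) (e : g * m * g⁻¹ = y) (h : Ty2 y) : Ty2 m := by
  subst e
  obtain ⟨h3, c, d, hc, hd, h⟩ := h
  exact ⟨h3.of_conj rfl, (g⁻¹ : Γ) *ᵥ c, (g⁻¹ : Γ) *ᵥ d, by rw [nn_conj, hc, mulVec_zero], by rw [nn_conj, hd, mulVec_zero],
    by rwa [Sp8.inv_mem hg]⟩

theorem ty1_of (x : Γ) {t : Tm} [RT eL x t] (B : M8) (h : (dm (t.ev A cX) - 1) * (dm (t.ev A cX) - 1) = 0 ∧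
    (dm (t.ev A cX) - 1) * B + B * (dm (t.ev A cX) - 1) = 1) : Ty1 x := by
  rw [← val_eq x] at h
  have e : ∀ v, nn x v = ((x : M8) - 1) *ᵥ v := fun v => by rw [nn, sub_mulVec, one_mulVec]
  refine ⟨fun v => by rw [e, e, mulVec_mulVec, h.1, zero_mulVec], fun u hu => ⟨B *ᵥ u, ?_⟩⟩
  rw [e] at hu ⊢
  conv_lhs => rw [← one_mulVec u, ← h.2, add_mulVec, ← mulVec_mulVec, ← mulVec_mulVec, hu, mulVec_zero, add_zero]

/-- `m - 1`. -/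
def nm (m : M8) (v : W8) : W8 := m *ᵥ v - v

theorem ty3_of (x : Γ) {t : Tm} [RT eL x t] (h : ∀ i j : ZMod 3, i • nm (dm (t.ev A cX)) (nm (dm (t.ev A cX)) (Pi.single (1, 0) 1)) +
    j • nm (dm (t.ev A cX)) (nm (dm (t.ev A cX)) (Pi.single (1, 1) 1)) = 0 → i = 0 ∧ j = 0) : Ty3 x := by
  rw [← val_eq x] at h
  exact ⟨_, _, h⟩

theorem ty2_of (x : Γ) {t : Tm} [RT eL x t] (c d : Fin 4 → Fin 2 → ZMod 3)
    (h : (∀ i j : ZMod 3, i • nm (dm (t.ev A cX)) (nm (dm (t.ev A cX)) (Pi.single (1, 0) 1)) +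
      j • nm (dm (t.ev A cX)) (nm (dm (t.ev A cX)) (Pi.single (1, 1) 1)) = 0 → i = 0 ∧ j = 0) ∧
      nm (dm (t.ev A cX)) (fun p => c p.1 p.2) = 0 ∧ nm (dm (t.ev A cX)) (fun p => d p.1 p.2) = 0 ∧
      sf8 (fun p => c p.1 p.2) (fun p => d p.1 p.2) ≠ 0) : Ty2 x := by
  refine ⟨ty3_of x h.1, ?_⟩
  rw [← val_eq x] at h
  exact ⟨_, _, h.2⟩

theorem ty1_u3 : u3 ∈ J0 ∧ u3 ≠ 1 ∧ Ty1 u3 :=
  ⟨mem_clos (by simp), lsX.decide repX (by decide +kernel), ty1_of _ (kr 1 !![0, 0; 2, 0]) (by decide +kernel)⟩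

/-- Elements of `S0` outside `J0` or with a trivial coordinate. -/
abbrev Gd (s : Γ) : Prop := s ∉ J0 ∨ s * gI1 = gI1 * s ∨ s * gI2 = gI2 * s ∨ s * gI3 = gI3 * s

theorem s_cls : ∀ s ∈ S0, s ^ 3 = 1 → s ≠ 1 → ∃ g ∈ S0, Let (g * s * g⁻¹) fun y =>
    (y = u3 ∨ y = u3⁻¹ ∨ y = sg ∨ y = sg⁻¹ ∨ y = u1 * u2 ∨ y = u1 * u2⁻¹ ∨ y = u1⁻¹ * u2 ∨ y = (u1 * u2)⁻¹) ∨
      ¬ (s ∉ J0 ∨ s * gI1 = gI1 * s ∨ s * gI2 = gI2 * s ∨ s * gI3 = gI3 * s) ∧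
        (y = u1 * u2 * u3 ∨ y = u1 * u2 * u3⁻¹ ∨ y = (u1 * u2 * u3)⁻¹ ∨ y = (u1 * u2 * u3⁻¹)⁻¹) :=
  lsX.decide repX (by decide +kernel)

theorem s_ty' {s : Γ} (h : s ∈ S0) (h3 : s ^ 3 = 1) (h1 : s ≠ 1) : (Ty1 s ∨ Ty2 s) ∨ ¬ Gd s ∧ Ty3 s := by
  obtain ⟨g, hg, e⟩ := s_cls s h h3 h1
  have hg := X0_le_Sp (S0_le_X0 hg)
  rcases e with (e | e | e | e | e | e | e | e) | ⟨n, e | e | e | e⟩
  · exact .inl (.inl (Ty1.of_conj e (ty1_u3.2.2)))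
  · exact .inl (.inl (Ty1.of_conj e (ty1_of _ (kr 1 !![0, 0; 1, 0]) (by decide +kernel))))
  · exact .inl (.inr (Ty2.of_conj hg e (ty2_of _ ![0, 0, ![0, 1], ![2, 0]] ![0, 0, ![1, 0], ![0, 1]] (by decide +kernel))))
  · exact .inl (.inr (Ty2.of_conj hg e (ty2_of _ ![0, 0, ![0, 1], ![2, 0]] ![0, 0, ![1, 0], ![0, 1]] (by decide +kernel))))
  · exact .inl (.inr (Ty2.of_conj hg e (ty2_of _ ![![0, 1], 0, 0, 0] ![![1, 0], 0, 0, 0] (by decide +kernel))))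
  · exact .inl (.inr (Ty2.of_conj hg e (ty2_of _ ![0, 0, ![0, 1], ![0, 2]] ![0, 0, ![1, 0], ![2, 0]] (by decide +kernel))))
  · exact .inl (.inr (Ty2.of_conj hg e (ty2_of _ ![0, 0, ![0, 1], ![0, 2]] ![0, 0, ![1, 0], ![2, 0]] (by decide +kernel))))
  · exact .inl (.inr (Ty2.of_conj hg e (ty2_of _ ![![0, 1], 0, 0, 0] ![![1, 0], 0, 0, 0] (by decide +kernel))))
  all_goals exact .inr ⟨n, Ty3.of_conj e (ty3_of _ (by decide +kernel))⟩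

theorem s_ty {s : Γ} (h : s ∈ S0) (h3 : s ^ 3 = 1) (h1 : s ≠ 1) : Ty1 s ∨ Ty3 s := by
  rcases s_ty' h h3 h1 with (h | h) | h
  exacts [.inl h, .inr h.1, .inr h.2]

theorem s_pair : ∀ x ∈ J0, ∀ y ∈ J0, y ≠ 1 → y ≠ x → y ≠ x⁻¹ → x ≠ 1 →
    (x * gI1 = gI1 * x ∨ y * gI1 = gI1 * y) ∨ x * y * gI1 = gI1 * (x * y) ∨ x * y⁻¹ * gI1 = gI1 * (x * y⁻¹) :=
  lsX.decide repX (by decide +kernel)

theorem s_nine {T : Subgroup Γ} (h : T ≤ S0) (h3 : ∀ x ∈ T, x ^ 3 = 1) (_hc : ∀ x ∈ T, ∀ y ∈ T, x * y = y * x)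
    (h9 : 9 ≤ Nat.card T) : ∃ s ∈ T, s ≠ 1 ∧ (Ty1 s ∨ Ty2 s) := by
  suffices ∃ s ∈ T, s ≠ 1 ∧ Gd s by
    obtain ⟨s, hs, h1, hg⟩ := this
    exact ⟨s, hs, h1, (s_ty' (h hs) (h3 s hs) h1).resolve_right fun e => e.1 hg⟩
  by_cases hJ : T ≤ J0
  swap
  · obtain ⟨s, hs, hn⟩ := SetLike.not_le_iff_exists.1 hJ
    exact ⟨s, hs, fun e => hn (e ▸ one_mem _), .inl hn⟩
  have ex : ∀ x : Γ, ∃ y ∈ T, y ≠ 1 ∧ y ≠ x ∧ y ≠ x⁻¹ := fun x => by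
    by_contra! hn
    have := (card_le_ncard (F := T) (T := {1, x, x⁻¹}) fun y hy => by
      by_cases h1 : y = 1
      · exact .inl h1
      by_cases h2 : y = x
      exacts [.inr (.inl h2), .inr (.inr (hn y hy h1 h2))]).trans
      ((Set.ncard_insert_le _ _).trans (Nat.succ_le_succ (ncard_two _ _)))
    omega
  obtain ⟨x, hx, x1, -⟩ := ex 1
  obtain ⟨y, hy, y1, yx, yx'⟩ := ex x
  rcases s_pair x (hJ hx) y (hJ hy) y1 yx yx' x1 with (e | e) | e | e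
  · exact ⟨x, hx, x1, .inr (.inl e)⟩
  · exact ⟨y, hy, y1, .inr (.inl e)⟩
  · exact ⟨_, mul_mem hx hy, fun e => yx' (eq_inv_of_mul_eq_one_right e), .inr (.inl e)⟩
  · exact ⟨_, mul_mem hx (inv_mem hy), fun e => yx (mul_inv_eq_one.1 e).symm, .inr (.inl e)⟩

theorem fix_J0 {v : W8} (h : ∀ s ∈ J0, (s : M8) *ᵥ v = v) : ∃ c : ZMod 3, v = c • v0 := by
  have e : (1 : M8) = vecMulVec v0 (Pi.single (1, 0) 1) +
      dm 0x2000008000000000000000000400001000000000000040000080000000000000000008000010000000000000000000000000000000000000000000000000000000004000000000000000000000000800000 * ((u1 : M8) - 1) +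
      dm 0x2000000000000000000000000400000000000000000040000000000000000000000008000000000000000000000000000000000000000000000000000000000000002000000000000000000000000400000 * ((u2 : M8) - 1) +
      dm 0x8000000000000000000000000000000000000000000080000000000000000000000000000000000000000000800000000000000000000000000000000000000000000000000000000000000000000000 * ((u3 : M8) - 1) := by
    rw [val_eq u1, val_eq u2, val_eq u3]; decide +kernel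
  have z : ∀ s ∈ [u1, u2, u3], ∀ B : M8, (B * ((s : M8) - 1)) *ᵥ v = 0 := fun s hs B => by
    rw [← mulVec_mulVec, sub_mulVec, h s (mem_clos hs), one_mulVec, sub_self, mulVec_zero]
  refine ⟨v (1, 0), ?_⟩
  conv_lhs => rw [← one_mulVec v, e, add_mulVec, add_mulVec, add_mulVec, z _ (by simp), z _ (by simp), z _ (by simp)]
  simp [vecMulVec_mulVec]

theorem bd_inj : Function.Injective bd := fun x y h => by
  funext p
  ext s r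
  have h1 : bdm x = bdm y := congrArg Units.val h
  simpa [bdm] using congrFun (congrFun h1 (p, s)) (p, r)

theorem repP : C0.RepL cP [bd (Pi.mulSingle 0 (LB.tv 1)), bd (Pi.mulSingle 0 LB.ww)] := by
  have h : C0.RepL cP (cP.map C0.elt) := repL_pair _ _ A_ok cP_ok
  have e0 : nth 1 (cP.map C0.elt) 0 = bd (Pi.mulSingle 0 (LB.tv 1)) :=
    Units.ext (by rw [rep_val (h.nth 0), bd_val]; decide +kernel)
  have e1 : nth 1 (cP.map C0.elt) 1 = bd (Pi.mulSingle 0 LB.ww) :=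
    Units.ext (by rw [rep_val (h.nth 1), bd_val]; decide +kernel)
  rw [← e0, ← e1]
  exact h.pick [0, 1]

theorem s3_gen : ∀ x : LB.S3, ∃ a b c d : Fin 4, x = LB.ww ^ a.1 * LB.tv 1 ^ b.1 * LB.ww ^ c.1 * LB.tv 1 ^ d.1 := by decide +kernel

theorem τ_ker (x : LB.S3) (h : bd (Pi.mulSingle 0 x) ∈ normalizer (R0 : Set Γ)) : x = 1 ∨ x = -1 := by
  generalize hP : clos [bd (Pi.mulSingle 0 (LB.tv 1)), bd (Pi.mulSingle 0 LB.ww)] = P
  have gP : C0.Lists tP_t.dom P := hP ▸ (repP.gen tP_ok).1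
  have h1 : ∀ p ∈ P, p * gI1 * p⁻¹ ∈ R0 → p = 1 ∨ p = τ0 := (gP.cons lsX).decide repX (by decide +kernel)
  have h2 : bd (Pi.mulSingle 0 x) ∈ P := by
    obtain ⟨a, b, c, d, rfl⟩ := s3_gen x
    have h3 : bd (Pi.mulSingle 0 (LB.tv 1)) ∈ P := hP ▸ mem_clos (by simp)
    have h4 : bd (Pi.mulSingle 0 LB.ww) ∈ P := hP ▸ mem_clos (by simp)
    simp only [Pi.mulSingle_mul, Pi.mulSingle_pow, map_mul, map_pow]
    exact mul_mem (mul_mem (mul_mem (pow_mem h4 _) (pow_mem h3 _)) (pow_mem h4 _)) (pow_mem h3 _)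
  rcases h1 _ h2 (conj_mem_of_mem_norm h I1R) with e | e
  · exact .inl (by simpa using congrFun (bd_inj (e.trans (map_one bd).symm)) 0)
  · exact .inr (by simpa using congrFun (bd_inj (e.trans τ_bd.1)) 0)

/-- The second generator of the quaternion group. -/
def jj : LB.S3 := ⟨!![1, 2; 2, 2], by rw [Matrix.det_fin_two_of]; decide⟩

theorem bd_of (x : Γ) {t : Tm} [RT eL x t] (y : Fin 4 → LB.S3) (h : dm (t.ev A cX) = bdm y) : x = bd y :=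
  Units.ext (by rw [val_eq x, bd_val, h])

theorem I3_bd : gI3 = bd fun _ => LB.ww := bd_of _ _ (by decide +kernel)
theorem J3_bd : gJ3 = bd fun _ => jj := bd_of _ _ (by decide +kernel)

theorem four_mul : ∀ m n : LB.S3, m ^ 4 = 1 → n ^ 4 = 1 → (m * n) ^ 4 = 1 := by decide +kernel

theorem D0_bd : ∀ m ∈ D0, ∃ x, (∀ i, x i ^ 4 = 1) ∧ m = bd x := fun m hm => by
  induction hm using closure_induction with
  | mem x hx =>
    simp only [List.mem_cons, List.not_mem_nil, or_false, Set.mem_ofPred_eq] at hx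
    rcases hx with rfl | rfl | rfl | rfl
    · exact ⟨![1, LB.ww * jj, LB.ww, -jj], by decide +kernel, bd_of _ _ (by decide +kernel)⟩
    · exact ⟨![1, LB.ww, -jj, LB.ww * jj], by decide +kernel, bd_of _ _ (by decide +kernel)⟩
    · exact ⟨_, by decide +kernel, I3_bd⟩
    · exact ⟨_, by decide +kernel, J3_bd⟩
  | one => exact ⟨1, by simp, (map_one _).symm⟩
  | mul x y _ _ hx hy =>
    obtain ⟨a, ha, rfl⟩ := hx
    obtain ⟨b, hb, rfl⟩ := hy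
    exact ⟨a * b, fun i => four_mul _ _ (ha i) (hb i), (map_mul _ _ _).symm⟩
  | inv x _ hx =>
    obtain ⟨a, ha, rfl⟩ := hx
    exact ⟨a⁻¹, fun i => by rw [Pi.inv_apply, inv_pow, ha, inv_one], (map_inv _ _).symm⟩

theorem q8_gen : ∀ x : LB.S3, x ^ 4 = 1 → ∃ a b : Fin 4, x = LB.ww ^ a.1 * jj ^ b.1 := by decide +kernel
theorem q8_gen' : ∀ x : LB.S3, x ^ 4 = 1 → ∃ a b : Fin 4, x = LB.ww ^ a.1 * (LB.ww * jj) ^ b.1 := by decide +kernel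

/-- The diagonal quaternion group. -/
theorem diag_mem (x : LB.S3) (h : x ^ 4 = 1) : bd (fun _ => x) ∈ D0 := by
  obtain ⟨a, b, rfl⟩ := q8_gen x h
  have : (fun _ : Fin 4 => LB.ww ^ a.1 * jj ^ b.1) = (fun _ => LB.ww) ^ a.1 * (fun _ => jj) ^ b.1 := rfl
  rw [this, map_mul, map_pow, map_pow, ← I3_bd, ← J3_bd]
  exact mul_mem (pow_mem (mem_clos (by simp)) _) (pow_mem (mem_clos (by simp)) _)

theorem full {L : Subgroup Γ} (hX : X0 ≤ L) (h2 : f2 ∈ L) (x : Fin 3 → LB.S3) (hx : ∀ i, x i ^ 4 = 1) :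
    ∃ x0, bd (Fin.cons x0 x) ∈ L := by
  let tl : (Fin 4 → LB.S3) →* (Fin 3 → LB.S3) := ⟨⟨fun y i => y i.succ, rfl⟩, fun _ _ => rfl⟩
  suffices x ∈ (L.comap bd).map tl by
    obtain ⟨y, hy, rfl⟩ := this
    exact ⟨y 0, (Fin.cons_self_tail y).symm ▸ hy⟩
  have h3 : u3 ∈ L := hX (mem_clos (by simp))
  have hw : u1 * u2 ∈ L := hX (mul_mem (mem_clos (by simp)) (mem_clos (by simp)))
  have c1 : f2 * u3⁻¹ ∈ L := mul_mem h2 (inv_mem h3)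
  have c2 : u3 * (f2 * u3⁻¹) * u3⁻¹ ∈ L := mul_mem (mul_mem h3 c1) (inv_mem h3)
  have cj : ∀ c ∈ L, u1 * u2 * c * (u1 * u2)⁻¹ ∈ L := fun c hc => mul_mem (mul_mem hw hc) (inv_mem hw)
  have key : ∀ (i : Fin 3) (k : LB.S3) {c : Γ}, c ∈ L → c = bd (Fin.cons k (Pi.mulSingle i k)) →
      Pi.mulSingle i k ∈ (L.comap bd).map tl := fun i k c h e => ⟨_, (e ▸ h : bd (Fin.cons k (Pi.mulSingle i k)) ∈ L), rfl⟩
  have hi : ∀ i : Fin 3, Pi.mulSingle i LB.ww ∈ (L.comap bd).map tl ∧ Pi.mulSingle i (LB.ww * jj) ∈ (L.comap bd).map tl := by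
    intro i
    fin_cases i
    · exact ⟨key _ _ c2 (bd_of _ _ (by decide +kernel)), key _ _ c1 (bd_of _ _ (by decide +kernel))⟩
    · exact ⟨key _ _ (cj _ c2) (bd_of _ _ (by decide +kernel)), key _ _ (cj _ c1) (bd_of _ _ (by decide +kernel))⟩
    · exact ⟨key _ _ (cj _ (cj _ c2)) (bd_of _ _ (by decide +kernel)), key _ _ (cj _ (cj _ c1)) (bd_of _ _ (by decide +kernel))⟩
  have hs : ∀ i : Fin 3, Pi.mulSingle i (x i) ∈ (L.comap bd).map tl := fun i => by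
    obtain ⟨a, b, e⟩ := q8_gen' _ (hx i)
    rw [e, Pi.mulSingle_mul, Pi.mulSingle_pow, Pi.mulSingle_pow]
    exact mul_mem (pow_mem (hi i).1 _) (pow_mem (hi i).2 _)
  have : x = Pi.mulSingle 0 (x 0) * Pi.mulSingle 1 (x 1) * Pi.mulSingle 2 (x 2) := by
    funext i; fin_cases i <;> simp
  rw [this]
  exact mul_mem (mul_mem (hs 0) (hs 1)) (hs 2)

end Cfsg.Agent.B3
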