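import Mathlib
import Cfsg.Agent.B3.Mod
import Cfsg.Agent.T3.FBas
import Cfsg.Agent.Spor.FL.Grp

/-! The linear model of `3^(1+8)`: basic lemmas. -/

set_option autoImplicit false
set_option linter.unusedSectionVars false

namespace Cfsg.Agent.B3

open Cfsg.Agent.Spor Cfsg.Agent.Rec Cfsg.Agent.T3 Cfsg.Agent.GT.PG Subgroup Matrix
open Cfsg.Agent.Inv.Fz
open scoped commutatorElement

universe u

variable {G : Type u} [Group G] [Finite G] {a : G}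

theorem sf8_add_left (u v w : W8) : sf8 (u + v) w = sf8 u w + sf8 v w := by
  simp only [sf8, Fin.sum_univ_four, Pi.add_apply]; ring
theorem sf8_add_right (u v w : W8) : sf8 u (v + w) = sf8 u v + sf8 u w := by
  simp only [sf8, Fin.sum_univ_four, Pi.add_apply]; ring
theorem sf8_smul_left (c : ZMod 3) (v w : W8) : sf8 (c • v) w = c * sf8 v w := by
  simp only [sf8, Fin.sum_univ_four, Pi.smul_apply, smul_eq_mul]; ring
theorem sf8_smul_right (c : ZMod 3) (v w : W8) : sf8 v (c • w) = c * sf8 v w := by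
  simp only [sf8, Fin.sum_univ_four, Pi.smul_apply, smul_eq_mul]; ring
theorem sf8_swap (v w : W8) : sf8 w v = - sf8 v w := by
  simp only [sf8, Fin.sum_univ_four]; ring
theorem sf8_self (v : W8) : sf8 v v = 0 := by
  simp only [sf8, Fin.sum_univ_four]; ring

/-- Abelian subgroups of extraspecial groups. -/
theorem bas_card_ab (n : ℕ) : ∀ {Q A : Subgroup G} {z : G}, ESZ 3 Q z → Nat.card Q = 3 ^ (2 * n + 1) → A ≤ Q →
    (∀ x ∈ A, ∀ y ∈ A, x * y = y * x) → Nat.card A ≤ 3 ^ (n + 1) := by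
  have : Fact (Nat.Prime 3) := ⟨Nat.prime_three⟩
  have key : ∀ {Q A : Subgroup G} {z : G}, ESZ 3 Q z → A ≤ Q → (∀ x ∈ A, ∀ y ∈ A, x * y = y * x) →
      Nat.card A ≤ 3 ∨ ∃ Q' A' : Subgroup G, ESZ 3 Q' z ∧ Nat.card Q = 9 * Nat.card Q' ∧ A' ≤ Q' ∧ A' ≤ A ∧
        Nat.card A ≤ 3 * Nat.card A' := by
    intro Q A z h hA hc
    by_cases h2 : A ≤ zpowers z
    · exact .inl (h.card_zpowers ▸ card_le_of_le h2)
    obtain ⟨x, hx, hxz⟩ := SetLike.not_le_iff_exists.1 h2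
    obtain ⟨y, hy, hxy⟩ := h.exists_commutator_eq (hA hx) hxz
    have hyz : y ∉ zpowers z := fun e => h.not_commute_of_eq hxy (h.commute_of_mem_zpowers (hA hx) e)
    refine .inr ⟨_, A ⊓ centralizer {y}, h.split (hA hx) hy hxy, h.card_split (hA hx) hy hxy,
      inf_le_inf_right _ (le_inf hA fun b hb => mem_cen.2 (hc b hb x hx)), inf_le_left, ?_⟩
    have h3 := card_mul_relIndex (inf_le_left : A ⊓ centralizer {y} ≤ A)
    have h4 := relIndex_le_of_le_right (H := centralizer {y}) hA (by rw [h.relIndex_centralizer hy hyz]; norm_num)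
    rw [h.relIndex_centralizer hy hyz] at h4
    rw [inf_relIndex_left] at h3
    rw [← h3, mul_comm]
    exact Nat.mul_le_mul_right _ h4
  induction n with
  | zero =>
    intro Q A z h hQ hA hc
    exact (card_le_of_le hA).trans (by omega)
  | succ n ih =>
    intro Q A z h hQ hA hc
    rcases key h hA hc with e | ⟨Q', A', h1, h2, h3, h4, h5⟩
    · exact e.trans (Nat.le_self_pow (by omega) 3)
    · have h6 := ih h1 (by rw [hQ, show 2 * (n + 1) + 1 = 2 * n + 1 + 2 by ring, pow_add] at h2; omega) h3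
        fun x hx y hy => hc x (h4 hx) y (h4 hy)
      rw [pow_succ]
      omega

namespace B0

variable (F : B0 a)

theorem m_def {g : G} (hg : g * a = a * g) : F.m g = F.mt ⟨g, mem_cen.2 hg⟩ := dif_pos (mem_cen.2 hg)
theorem m_coe (g : centralizer ({a} : Set G)) : F.m g = F.mt g := dif_pos g.2

theorem m_mul {g h : G} (hg : g * a = a * g) (hh : h * a = a * h) : F.m (g * h) = F.m g * F.m h := by
  rw [F.m_def hg, F.m_def hh, F.m_def (F3.b_cmul hg hh), ← map_mul]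
  rfl
theorem m_one : F.m 1 = 1 := (F.m_coe 1).trans (map_one _)
theorem m_inv {g : G} (hg : g * a = a * g) : F.m g⁻¹ = (F.m g)⁻¹ := by
  rw [F.m_def hg, F.m_def (F3.b_cinv hg), ← map_inv]
  rfl
theorem m_pow {g : G} (hg : g * a = a * g) (n : ℕ) : F.m (g ^ n) = F.m g ^ n := by
  rw [F.m_def hg, F.m_def (Commute.pow_left hg n).eq, ← map_pow]
  rfl
theorem m_mem {g : G} (hg : g * a = a * g) : F.m g ∈ F.mt.range := ⟨_, (F.m_def hg).symm⟩
theorem exists_m {x : Γ} (hx : x ∈ F.mt.range) : ∃ g, g * a = a * g ∧ F.m g = x := by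
  obtain ⟨g, rfl⟩ := hx
  exact ⟨g, mem_cen.1 g.2, F.m_coe g⟩
theorem m_eq_one {g : G} (hg : g * a = a * g) : F.m g = 1 ↔ g ∈ Q3 a := by
  rw [F.m_def hg, F.ker]
theorem m_act {g q : G} (hg : g * a = a * g) (hq : q ∈ Q3 a) : F.vec (g * q * g⁻¹) = (F.m g : M8) *ᵥ F.vec q := by
  rw [F.m_def hg]
  exact F.act ⟨g, mem_cen.2 hg⟩ q hq
include F in
theorem cjQ {g q : G} (hg : g * a = a * g) (hq : q ∈ Q3 a) : g * q * g⁻¹ ∈ Q3 a := F3.b_cjQ hg hq
include F in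
theorem Qc {q : G} (hq : q ∈ Q3 a) : q * a = a * q := F3.b_Qc hq
theorem vec_one : F.vec 1 = 0 := (F.vec_eq_zero 1 (one_mem _)).2 (one_mem _)
theorem vec_inv {q : G} (hq : q ∈ Q3 a) : F.vec q⁻¹ = - F.vec q := by
  rw [eq_neg_iff_add_eq_zero, ← F.vec_mul _ (inv_mem hq) _ hq, inv_mul_cancel, F.vec_one]
theorem vec_pow {q : G} (hq : q ∈ Q3 a) (k : ZMod 3) : F.vec (q ^ k.val) = k • F.vec q := by
  have : ∀ n : ℕ, F.vec (q ^ n) = n • F.vec q := fun n => by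
    induction n with
    | zero => rw [pow_zero, F.vec_one, zero_smul]
    | succ n ih => rw [pow_succ, F.vec_mul _ (pow_mem hq n) _ hq, ih, succ_nsmul]
  rw [this, ← Nat.cast_smul_eq_nsmul (ZMod 3), ZMod.natCast_zmod_val]
theorem vec_eq {p q : G} (hp : p ∈ Q3 a) (hq : q ∈ Q3 a) : F.vec p = F.vec q ↔ p * q⁻¹ ∈ zpowers a := by
  rw [← F.vec_eq_zero _ (mul_mem hp (inv_mem hq)), F.vec_mul _ hp _ (inv_mem hq), F.vec_inv hq, ← sub_eq_add_neg,
    sub_eq_zero]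

theorem card_inf {A : Subgroup G} (hA : A ≤ Q3 a) :
    Nat.card A = Nat.card (zpowers a ⊓ A : Subgroup G) * (F.vec '' A).ncard := by
  let f : A →* Multiplicative W8 := MonoidHom.mk' (fun x => Multiplicative.ofAdd (F.vec x)) fun x y => by
    rw [coe_mul, F.vec_mul _ (hA x.2) _ (hA y.2), ofAdd_add]
  have h1 : f.ker = (zpowers a ⊓ A).subgroupOf A := by
    ext x
    rw [inf_subgroupOf_right, mem_subgroupOf, ← F.vec_eq_zero _ (hA x.2)]
    rfl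
  have h2 : (f.range : Set (Multiplicative W8)) = Multiplicative.ofAdd '' (F.vec '' A) := by
    ext w
    constructor
    · rintro ⟨x, rfl⟩
      exact ⟨_, ⟨x, x.2, rfl⟩, rfl⟩
    · rintro ⟨_, ⟨x, hx, rfl⟩, rfl⟩
      exact ⟨⟨x, hx⟩, rfl⟩
  rw [← f.ker.card_mul_index, index_ker, h1, Nat.card_congr (subgroupOfEquivOfLe inf_le_right).toEquiv,
    ← Set.ncard_image_of_injective _ Multiplicative.ofAdd.injective, ← h2]
  rfl

theorem card_eq {A : Subgroup G} (hA : A ≤ Q3 a) (ha : a ∈ A) : Nat.card A = 3 * (F.vec '' A).ncard := by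
  rw [F.card_inf hA, inf_eq_left.2 (zpowers_le.2 ha), F.esz.card_zpowers]
theorem card_eq' {A : Subgroup G} (hA : A ≤ Q3 a) (ha : a ∉ A) : Nat.card A = (F.vec '' A).ncard := by
  have : Fact (Nat.Prime 3) := ⟨Nat.prime_three⟩
  have h : zpowers a ⊓ A = ⊥ := eq_bot_iff.2 fun c hc => mem_bot.2 (by
    by_contra c1
    exact ha (zpowers_le.2 hc.2 (F.esz.zpowers_eq_of_mem hc.1 c1 ▸ mem_zpowers a)))
  rw [F.card_inf hA, h, card_bot, one_mul]
include F in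
theorem card_cen {q : G} (hq : q ∈ Q3 a) (hz : q ∉ zpowers a) : Nat.card (Q3 a ⊓ centralizer {q} : Subgroup G) = 3 ^ 8 := by
  have : Fact (Nat.Prime 3) := ⟨Nat.prime_three⟩
  have h := card_mul_relIndex (inf_le_left : Q3 a ⊓ centralizer {q} ≤ Q3 a)
  rw [inf_relIndex_left, F.esz.relIndex_centralizer hq hz, F.card] at h
  omega
include F in
theorem card_le_of_comm {A : Subgroup G} (hA : A ≤ Q3 a) (hc : ∀ x ∈ A, ∀ y ∈ A, x * y = y * x) : Nat.card A ≤ 3 ^ 5 :=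
  bas_card_ab 4 F.esz F.card hA hc
theorem mem_img {T : Subgroup G} (hT : T ≤ centralizer {a}) {x : Γ} : x ∈ F.img T ↔ ∃ g ∈ T, F.m g = x :=
  ⟨fun ⟨g, hg, e⟩ => ⟨g, hg, (F.m_coe g).trans e⟩,
    fun ⟨g, hg, e⟩ => ⟨⟨g, hT hg⟩, hg, (F.m_coe ⟨g, hT hg⟩).symm.trans e⟩⟩
theorem card_img {T : Subgroup G} (hT : T ≤ centralizer {a}) :
    Nat.card T = Nat.card (F.img T) * Nat.card (T ⊓ Q3 a : Subgroup G) := by
  let f : T →* Γ := F.mt.comp (inclusion hT)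
  have h1 : f.ker = (T ⊓ Q3 a).subgroupOf T := by
    ext x
    rw [inf_subgroupOf_left, mem_subgroupOf]
    exact F.ker _
  have h2 : f.range = F.img T := by
    ext x
    exact ⟨fun ⟨g, e⟩ => ⟨_, g.2, e⟩, fun ⟨g, hg, e⟩ => ⟨⟨g, hg⟩, e⟩⟩
  rw [← f.ker.card_mul_index, index_ker, h1, h2, Nat.card_congr (subgroupOfEquivOfLe inf_le_left).toEquiv, mul_comm]
theorem img_le (T : Subgroup G) : F.img T ≤ F.mt.range := map_le_range _ _
/-- Elements of the image commuting with the image of an involution lift to the centraliser of the involution. -/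
theorem lift {t : G} (t2 : t * t = 1) (ta : t * a = a * t) {x : Γ} (hx : x ∈ F.mt.range) (h : x * F.m t = F.m t * x) :
    ∃ g, g * a = a * g ∧ g * t = t * g ∧ F.m g = x := by
  obtain ⟨g, hg, rfl⟩ := F.exists_m hx
  have hq : g * t * g⁻¹ * t ∈ Q3 a := by
    rw [← F.m_eq_one (F3.b_cmul (F3.b_ccj hg ta) ta), F.m_mul (F3.b_ccj hg ta) ta,
      F.m_mul (F3.b_cmul hg ta) (F3.b_cinv hg), F.m_mul hg ta, F.m_inv hg, h, mul_inv_cancel_right, ← F.m_mul ta ta, t2,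
      F.m_one]
  refine ⟨g * t * g⁻¹ * t * g, F3.b_cmul (F.Qc hq) hg, ?_, by
    rw [F.m_mul (F.Qc hq) hg, (F.m_eq_one (F.Qc hq)).2 hq, one_mul]⟩
  have h3 := F.cube _ hq
  have e1 : t⁻¹ = t := inv_eq_of_mul_eq_one_right t2
  have e2 : g * t * g⁻¹ * t * (g * t * g⁻¹) = (t * (g * t * g⁻¹) * t)⁻¹ :=
    eq_inv_of_mul_eq_one_left (by rw [← h3]; simp only [pow_succ, pow_zero, one_mul, mul_assoc])
  calc g * t * g⁻¹ * t * g * t = g * t * g⁻¹ * t * (g * t * g⁻¹) * g := by group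
    _ = t * (g * t * g⁻¹ * t * g) := by
      rw [e2]
      simp only [_root_.mul_inv_rev, e1, inv_inv, mul_assoc]

end B0

namespace B8

variable (F : B8 a)

theorem commute_iff {p q : G} (hp : p ∈ Q3 a) (hq : q ∈ Q3 a) : p * q = q * p ↔ sf8 (F.vec p) (F.vec q) = 0 := by
  have h := F.comm p hp q hq
  refine ⟨fun e => pow_val_inj F.esz.orderOf_z ?_, fun e => ?_⟩
  · rw [← h, e]; simp
  · rw [e, ZMod.val_zero, pow_zero, mul_inv_eq_one, mul_inv_eq_iff_eq_mul] at h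
    exact h

theorem range_le_Sp : F.mt.range ≤ Sp8 := fun x hx v w => by
  obtain ⟨g, hg, rfl⟩ := F.exists_m hx
  obtain ⟨p, hp, rfl⟩ := F.vec_surj v
  obtain ⟨q, hq, rfl⟩ := F.vec_surj w
  refine pow_val_inj F.esz.orderOf_z ?_
  rw [← F.m_act hg hp, ← F.m_act hg hq, ← F.comm _ (F.cjQ hg hp) _ (F.cjQ hg hq)]
  calc _ = g * (p * q * p⁻¹ * q⁻¹) * g⁻¹ := by group
    _ = _ := by rw [F.comm p hp q hq, (Commute.pow_right hg _).eq, mul_inv_cancel_right]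

theorem bas_cj (g : G) : ∃ F' : B8 (g * a * g⁻¹), F'.mt.range = F.mt.range ∧ (∀ q, F'.vec q = F.vec (g⁻¹ * q * g)) ∧
    ∀ h, h * a = a * h → F'.m (g * h * g⁻¹) = F.m h := by
  have c : ∀ {h : G}, h ∈ centralizer {g * a * g⁻¹} ↔ g⁻¹ * h * g ∈ centralizer {a} := by
    rw [← cj_centralizer_singleton]; exact mem_cj
  have m : ∀ x y : G, g⁻¹ * (x * y) * g = g⁻¹ * x * g * (g⁻¹ * y * g) := fun x y => by group
  have hq : ∀ {q : G}, q ∈ Q3 (g * a * g⁻¹) ↔ g⁻¹ * q * g ∈ Q3 a := by rw [Q3_cj]; exact mem_cj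
  let ψ : centralizer ({g * a * g⁻¹} : Set G) →* centralizer ({a} : Set G) :=
    MonoidHom.mk' (fun h => ⟨g⁻¹ * h * g, c.1 h.2⟩) fun x y => Subtype.ext (m x y)
  have hψ : ∀ h : centralizer ({a} : Set G), ∃ e, ψ ⟨g * h * g⁻¹, e⟩ = h := fun h =>
    ⟨c.2 (by simp [mul_assoc]), Subtype.ext (by simp [ψ, mul_assoc])⟩
  have hr : (F.mt.comp ψ).range = F.mt.range := by
    refine le_antisymm (fun _ ⟨h, e⟩ => ⟨_, e⟩) fun _ ⟨h, e⟩ => ?_
    obtain ⟨e1, e2⟩ := hψ h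
    exact ⟨⟨_, e1⟩, by rw [MonoidHom.comp_apply, e2, e]⟩
  refine ⟨{
      vec := fun q => F.vec (g⁻¹ * q * g)
      mt := F.mt.comp ψ
      esz := Q3_cj g a ▸ F.esz.map (f := (MulAut.conj g).toMonoidHom) (MulAut.conj g).injective
      card := by rw [Q3_cj, card_cj, F.card]
      cube := fun q h => by
        rw [show q = g * (g⁻¹ * q * g) * g⁻¹ by group, conj_pow, F.cube _ (hq.1 h), mul_one, mul_inv_cancel]
      cen := by rw [Q3_cj, ← cj_zpowers, ← cj_centralizer]; exact cj_mono F.cen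
      vec_mul := fun p hp q h => by rw [m, F.vec_mul _ (hq.1 hp) _ (hq.1 h)]
      vec_eq_zero := fun q h => by rw [F.vec_eq_zero _ (hq.1 h), ← cj_zpowers, mem_cj]
      vec_surj := fun w => by
        obtain ⟨q, h, e⟩ := F.vec_surj w
        exact ⟨g * q * g⁻¹, hq.2 (by simpa [mul_assoc] using h), by simpa [mul_assoc] using e⟩
      act := fun x q h => by
        rw [MonoidHom.comp_apply, ← F.act _ _ (hq.1 h)]
        congr 1
        change _ = g⁻¹ * x * g * (g⁻¹ * q * g) * (g⁻¹ * x * g)⁻¹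
        group
      ker := fun x => (F.ker _).trans hq.symm
      comm := fun p hp q h => by rw [conj_pow, ← F.comm _ (hq.1 hp) _ (hq.1 h)]; group
      nrm := hr ▸ F.nrm
      sub := hr ▸ F.sub
      syl := hr ▸ F.syl }, hr, fun _ => rfl, fun h hh => ?_⟩
  obtain ⟨e1, e2⟩ := hψ ⟨h, mem_cen.2 hh⟩
  rw [F.m_def hh, ← e2]
  exact dif_pos e1

include F in
theorem exists_cj {y : G} (h : IsConj a y) : ∃ F' : B8 y, F'.mt.range = F.mt.range := by
  obtain ⟨g, rfl⟩ := isConj_iff.1 h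
  exact (F.bas_cj g).imp fun _ h => h.1

theorem exists_rebase {g : G} (hg : g * a = a * g) : ∃ F' : B8 a, F'.mt.range = F.mt.range ∧
    (∀ q, F'.vec q = F.vec (g * q * g⁻¹)) ∧ ∀ h, h * a = a * h → F'.m h = F.m g * F.m h * (F.m g)⁻¹ := by
  have key : ∀ y, g⁻¹ * a * g⁻¹⁻¹ = y → ∃ F' : B8 y, F'.mt.range = F.mt.range ∧
      (∀ q, F'.vec q = F.vec (g⁻¹⁻¹ * q * g⁻¹)) ∧ ∀ h, h * a = a * h → F'.m (g⁻¹ * h * g⁻¹⁻¹) = F.m h := by
    rintro _ rfl
    exact F.bas_cj g⁻¹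
  obtain ⟨F', h1, h2, h3⟩ := key a (by rw [inv_inv, mul_assoc, ← hg, inv_mul_cancel_left])
  refine ⟨F', h1, fun q => by rw [h2, inv_inv], fun h hh => ?_⟩
  rw [← F.m_mul hg hh, ← F.m_inv hg, ← F.m_mul (F3.b_cmul hg hh) (F3.b_cinv hg), ← h3 _ (F3.b_ccj hg hh)]
  congr 1
  group

theorem exists_syl {T : Subgroup G} (hT : T ≤ centralizer {a}) (h3 : IsPGroup 3 T) :
    ∃ F' : B8 a, F'.mt.range = F.mt.range ∧ F'.img T ≤ S0 := by
  have : Fact (Nat.Prime 3) := ⟨Nat.prime_three⟩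
  have hS : S0 ≤ F.mt.range := S0_le_X0.trans F.sub
  have hi : ¬ 3 ∣ (S0.subgroupOf F.mt.range).index := fun ⟨k, hk⟩ => F.syl ⟨k, by
    rw [← card_mul_index (S0.subgroupOf F.mt.range), Nat.card_congr (subgroupOfEquivOfLe hS).toEquiv, card_S0, hk]
    ring⟩
  have hp : IsPGroup 3 ((F.img T).subgroupOf F.mt.range) :=
    ((h3.comap_subtype (K := centralizer {a})).map F.mt).comap_subtype
  obtain ⟨x, hx⟩ := FL.exists_conj_le hi hp
  obtain ⟨g, hg, e⟩ := F.exists_m x.2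
  obtain ⟨F', h1, -, h2⟩ := F.exists_rebase hg
  refine ⟨F', h1, fun y hy => ?_⟩
  obtain ⟨k, hk, rfl⟩ := (F'.mem_img hT).1 hy
  rw [h2 k (mem_cen.1 (hT hk)), e]
  exact hx ⟨F.m k, F.m_mem (mem_cen.1 (hT hk))⟩ ((F.mem_img hT).2 ⟨k, hk, rfl⟩)

theorem bas_pg {T : Subgroup G} (h3 : ∀ x ∈ T, x ^ 3 = 1) : IsPGroup 3 T :=
  fun x => ⟨1, Subtype.ext (by rw [pow_one]; exact h3 x x.2)⟩

theorem bas_cube {T : Subgroup G} (hT : T ≤ centralizer {a}) (h3 : ∀ x ∈ T, x ^ 3 = 1) :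
    ∀ x ∈ F.img T, x ^ 3 = 1 := fun x hx => by
  obtain ⟨k, hk, rfl⟩ := (F.mem_img hT).1 hx
  rw [← F.m_pow (mem_cen.1 (hT hk)), h3 k hk, F.m_one]

theorem bas_comm {T : Subgroup G} (hT : T ≤ centralizer {a}) (hc : ∀ x ∈ T, ∀ y ∈ T, x * y * x⁻¹ * y⁻¹ ∈ Q3 a) :
    ∀ x ∈ F.img T, ∀ y ∈ F.img T, x * y = y * x := fun x hx y hy => by
  obtain ⟨k, hk, rfl⟩ := (F.mem_img hT).1 hx
  obtain ⟨l, hl, rfl⟩ := (F.mem_img hT).1 hy
  have k1 := mem_cen.1 (hT hk)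
  have l1 := mem_cen.1 (hT hl)
  have e := (F.m_eq_one (F.Qc (hc k hk l hl))).2 (hc k hk l hl)
  rw [F.m_mul (F3.b_ccj k1 l1) (F3.b_cinv l1), F.m_mul (F3.b_cmul k1 l1) (F3.b_cinv k1), F.m_mul k1 l1, F.m_inv k1,
    F.m_inv l1, mul_inv_eq_one, mul_inv_eq_iff_eq_mul] at e
  exact e

include F in
theorem idx_le {T : Subgroup G} (hT : T ≤ centralizer {a}) (h3 : ∀ x ∈ T, x ^ 3 = 1) :
    Nat.card T ≤ 27 * Nat.card (T ⊓ Q3 a : Subgroup G) := by
  obtain ⟨F', -, h⟩ := F.exists_syl hT (bas_pg h3)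
  rw [F'.card_img hT]
  exact Nat.mul_le_mul_right _ (s_exp h (F'.bas_cube hT h3))

theorem exists_J {T : Subgroup G} (hT : T ≤ centralizer {a}) (h3 : ∀ x ∈ T, x ^ 3 = 1)
    (hc : ∀ x ∈ T, ∀ y ∈ T, x * y * x⁻¹ * y⁻¹ ∈ Q3 a) (h : 9 * Nat.card (T ⊓ Q3 a : Subgroup G) < Nat.card T) :
    ∃ F' : B8 a, F'.mt.range = F.mt.range ∧ F'.img T = J0 := by
  obtain ⟨F', h1, h2⟩ := F.exists_syl hT (bas_pg h3)
  refine ⟨F', h1, s_ab h2 (F'.bas_comm hT hc) ?_⟩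
  rw [F'.card_img hT] at h
  have h4 := Nat.lt_of_mul_lt_mul_right h
  have h5 := card_dvd_of_le h2
  rw [card_S0] at h5
  obtain ⟨k, hk, e⟩ := (Nat.dvd_prime_pow Nat.prime_three).1 (show Nat.card (F'.img T) ∣ 3 ^ 4 from h5)
  rw [e] at h4 ⊢
  interval_cases k <;> omega

include F in
theorem exists_ty {x : G} (hx : x * a = a * x) (h3 : x ^ 3 = 1) (h : x ∉ Q3 a) :
    ∃ F' : B8 a, Ty1 (F'.m x) ∨ Ty3 (F'.m x) := by
  have hT : zpowers x ≤ centralizer {a} := zpowers_le.2 (mem_cen.2 hx)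
  obtain ⟨F', -, h2⟩ := F.exists_syl hT (bas_pg fun y ⟨k, hk⟩ => by
    rw [← hk, ← zpow_natCast, ← _root_.zpow_mul, mul_comm, _root_.zpow_mul, zpow_natCast, h3, _root_.one_zpow])
  exact ⟨F', s_ty (h2 ((F'.mem_img hT).2 ⟨x, mem_zpowers x, rfl⟩)) (by rw [← F'.m_pow hx, h3, F'.m_one])
    fun e => h ((F'.m_eq_one hx).1 e)⟩

include F in
theorem exists_nine {T : Subgroup G} (hT : T ≤ centralizer {a}) (h3 : ∀ x ∈ T, x ^ 3 = 1)
    (hc : ∀ x ∈ T, ∀ y ∈ T, x * y = y * x) (h1 : T ⊓ Q3 a = ⊥) (h9 : 9 ≤ Nat.card T) :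
    ∃ d ∈ T, d ≠ 1 ∧ ∃ F' : B8 a, Ty1 (F'.m d) ∨ Ty2 (F'.m d) := by
  obtain ⟨F', -, h2⟩ := F.exists_syl hT (bas_pg h3)
  rw [F'.card_img hT, h1, card_bot, mul_one] at h9
  obtain ⟨s, hs, s1, e⟩ := s_nine h2 (F'.bas_cube hT h3) (F'.bas_comm hT fun x hx y hy => by
    rw [hc x hx y hy, mul_inv_cancel_right, mul_inv_cancel]; exact one_mem _) h9
  obtain ⟨d, hd, rfl⟩ := (F'.mem_img hT).1 hs
  exact ⟨d, hd, fun e => s1 (by rw [e, F'.m_one]), F', e⟩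

end B8

end Cfsg.Agent.B3
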