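import Mathlib
import Cfsg.Agent.B3.Bas
import Cfsg.Agent.T3.FA1

/-! `a` is conjugate into `Q3 a` (see `stubs/Cfsg/Agent/B3/PLAN.md`). -/

set_option autoImplicit false
set_option linter.unusedSectionVars false

namespace Cfsg.Agent.B3

open Cfsg.Agent.Spor Cfsg.Agent.Rec Cfsg.Agent.T3 Cfsg.Agent.GT.PG Subgroup Matrix
open Cfsg.Agent.Inv.Fz Cfsg.Agent.T3.LB
open Cfsg.Agent.T3.FA (kap kap_mul)
open scoped commutatorElement

universe u

variable {G : Type u} [Group G] [Finite G] {a x y q p d : G}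

namespace FA

/-- A quadratic polynomial in three variables without constant term has a nontrivial zero. -/
theorem cw (g1 c1 g2 c2 g3 c3 b12 b13 b23 : ZMod 3) : ∃ i j k : ZMod 3, ¬ (i = 0 ∧ j = 0 ∧ k = 0) ∧
    i * g1 + (i - i * i) * c1 + (j * g2 + (j - j * j) * c2 + (k * g3 + (k - k * k) * c3) + j * (k * b23)) +
      i * (k * b13 + j * b12) = 0 := by
  have h : ∀ g c : ZMod 3, (g ≠ 0 ∧ g ≠ c) ∨ ∃ i : ZMod 3, i ≠ 0 ∧ i * g + (i - i * i) * c = 0 := by decide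
  rcases h g1 c1 with h1 | ⟨i, h1, e⟩
  · rcases h g2 c2 with h2 | ⟨i, h2, e⟩
    · rcases h g3 c3 with h3 | ⟨i, h3, e⟩
      · revert h1 h2 h3 b12 b13 b23
        revert g1 c1 g2 c2 g3 c3
        decide +kernel
      · exact ⟨0, 0, i, fun h => h3 h.2.2, by linear_combination e⟩
    · exact ⟨0, i, 0, fun h => h2 h.2.1, by linear_combination e⟩
  · exact ⟨i, 0, 0, fun h => h1 h.1, by linear_combination e⟩

theorem indep3 {U : Set W8} (h : 9 < U.ncard) : ∃ u1 ∈ U, ∃ u2 ∈ U, ∃ u3 ∈ U,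
    ∀ i j k : ZMod 3, k • u3 + j • u2 + i • u1 = 0 → i = 0 ∧ j = 0 ∧ k = 0 := by
  have k0 : ∀ {ι : Type} [Fintype ι] (f : ι → W8), Fintype.card ι ≤ 9 → ∃ u ∈ U, ∀ i, f i ≠ u := fun f hf => by
    by_contra! hn
    have h1 := Set.ncard_le_ncard (t := f '' Set.univ) (fun u hu => let ⟨i, e⟩ := hn u hu; ⟨i, trivial, e⟩)
    have h2 := Set.ncard_image_le (f := f) (s := Set.univ)
    rw [Set.ncard_univ, Nat.card_eq_fintype_card] at h2
    omega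
  have k1 : ∀ (k : ZMod 3) (u v : W8), k • u + v = 0 → k ≠ 0 → (-k) • v = u := fun k u v e hk => by
    rw [← eq_neg_iff_add_eq_zero, ← neg_eq_iff_eq_neg] at e
    rw [← e, smul_neg, neg_smul, neg_neg, smul_smul, (by decide : ∀ k : ZMod 3, k ≠ 0 → k * k = 1) k hk, one_smul]
  obtain ⟨u1, m1, n1⟩ := k0 (fun _ : Unit => 0) (by simp)
  obtain ⟨u2, m2, n2⟩ := k0 (fun i : ZMod 3 => i • u1) (by simp)
  obtain ⟨u3, m3, n3⟩ := k0 (fun i : ZMod 3 × ZMod 3 => i.1 • u2 + i.2 • u1) (by simp)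
  refine ⟨u1, m1, u2, m2, u3, m3, fun i j k e => ?_⟩
  obtain rfl : k = 0 := by_contra fun hk => n3 (-k * j, -k * i) (by
    rw [← k1 k u3 _ (by rwa [← add_assoc]) hk, smul_add, smul_smul, smul_smul])
  rw [zero_smul, zero_add] at e
  obtain rfl : j = 0 := by_contra fun hk => n2 (-j * i) (by rw [← k1 j u2 _ e hk, smul_smul])
  rw [zero_smul, zero_add] at e
  exact ⟨(smul_eq_zero.1 e).resolve_right (n1 ()).symm, rfl, rfl⟩

theorem nn_add (m : Γ) (u v : W8) : nn m (u + v) = nn m u + nn m v := by rw [nn, nn, nn, mulVec_add]; abel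
theorem nn_smul (m : Γ) (c : ZMod 3) (v : W8) : nn m (c • v) = c • nn m v := by rw [nn, nn, mulVec_smul, smul_sub]
theorem nn_neg (m : Γ) (v : W8) : nn m (-v) = -nn m v := by rw [nn, nn, mulVec_neg]; abel
theorem nn_zero (m : Γ) : nn m 0 = 0 := by simp [nn]

theorem nn3 {m : Γ} (h : m ^ 3 = 1) (v : W8) : nn m (nn m (nn m v)) = 0 := by
  have e : (m : M8) *ᵥ ((m : M8) *ᵥ ((m : M8) *ᵥ v)) = v := by
    rw [mulVec_mulVec, mulVec_mulVec, ← Units.val_mul, ← Units.val_mul, ← pow_three', h, Units.val_one, one_mulVec]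
  simp only [nn, mulVec_sub, e]
  exact funext fun i => (by decide : ∀ s t u : ZMod 3, s - u - (u - t) - (u - t - (t - s)) = 0) _ _ _

theorem sf5 {m : Γ} (hm : m ∈ Sp8) {c : W8} (h : nn m c = 0) (u : W8) : sf8 (nn m u) c = 0 := by
  have h1 := hm u c
  rw [sub_eq_zero.1 h, ← sub_add_cancel (_ *ᵥ u) u, sf8_add_left] at h1
  exact add_eq_right.1 h1

theorem k3 {φ : G →* G} {k1 k2 k3 : G} (h0 : φ (φ (φ p)) = p) (e1 : φ p = k1⁻¹ * p) (e2 : φ k1 = k2⁻¹ * k1)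
    (e3 : φ k2 = k3⁻¹ * k2) (c1 : Commute k1 k2) (h1 : k1 ^ 3 = 1) (h2 : k2 ^ 3 = 1) : k3 = 1 := by
  simp only [e1, e2, e3, map_mul, map_inv, _root_.mul_inv_rev, inv_inv, mul_assoc, c1.inv_left.left_comm] at h0
  rw [← mul_assoc k2, ← mul_assoc _ k2, ← pow_three', ← mul_assoc k1⁻¹, ← mul_assoc _ k1⁻¹, ← pow_three', inv_pow, h1,
    h2] at h0
  simpa using h0

theorem kap_mul' (x q p : G) : kap x (q * p) = q * kap x p * q⁻¹ * kap x q := by rw [kap, kap, kap]; group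

theorem kap_eq_one : kap x q = 1 ↔ q * x = x * q := commutatorElement_eq_one_iff_mul_comm

/-- The preimage of a subspace. -/
def pre (F : B8 a) (P : W8 → Prop) (h0 : P 0) (h1 : ∀ w w', P w → P w' → P (w + w')) : Subgroup G where
  carrier := {q | q ∈ Q3 a ∧ P (F.vec q)}
  one_mem' := ⟨one_mem _, by rwa [F.vec_one]⟩
  mul_mem' := fun {p q} hp hq => ⟨mul_mem hp.1 hq.1, by rw [F.vec_mul p hp.1 q hq.1]; exact h1 _ _ hp.2 hq.2⟩
  inv_mem' := fun {q} hq => ⟨inv_mem hq.1, by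
    have e : ∀ s : ZMod 3, -s = s + s := by decide
    rw [F.vec_inv hq.1, show -F.vec q = F.vec q + F.vec q from funext fun i => e _]
    exact h1 _ _ hq.2 hq.2⟩

/-- The preimages of the kernel and the image of `m x - 1` and of the image of its square. -/
def D (F : B8 a) (x : G) : Subgroup G :=
  pre F (fun v => nn (F.m x) v = 0) (nn_zero _) fun _ _ h h' => by rw [nn_add, h, h', add_zero]
def D1 (F : B8 a) (x : G) : Subgroup G :=
  pre F (fun w => ∃ v, w = nn (F.m x) v) ⟨0, (nn_zero _).symm⟩ fun _ _ ⟨v, h⟩ ⟨v', h'⟩ => ⟨v + v', by rw [nn_add, h, h']⟩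
def D2 (F : B8 a) (x : G) : Subgroup G :=
  pre F (fun w => ∃ v, w = nn (F.m x) (nn (F.m x) v)) ⟨0, by rw [nn_zero, nn_zero]⟩ fun _ _ ⟨v, h⟩ ⟨v', h'⟩ =>
    ⟨v + v', by rw [nn_add, nn_add, h, h']⟩

section F

variable (F : B8 a) (hx : x * a = a * x)
include F

theorem zc {z : G} (hz : z ∈ zpowers a) (hq : q ∈ Q3 a) : q * z = z * q := F.esz.zpowers_le_centralizer hz q hq

theorem vec_z {z : G} (hz : z ∈ zpowers a) : F.vec z = 0 := (F.vec_eq_zero z (F.esz.zpowers_le hz)).2 hz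

include hx

theorem kap_mem (hq : q ∈ Q3 a) : kap x q ∈ Q3 a := by
  rw [kap, mul_assoc, mul_assoc, ← mul_assoc x]
  exact mul_mem hq (F.cjQ hx (inv_mem hq))

theorem vec_kap (hq : q ∈ Q3 a) : F.vec (kap x q) = -nn (F.m x) (F.vec q) := by
  rw [show kap x q = q * (x * q * x⁻¹)⁻¹ by rw [kap]; group, F.vec_mul _ hq _ (inv_mem (F.cjQ hx hq)),
    F.vec_inv (F.cjQ hx hq), F.m_act hx hq, nn]
  abel

theorem exists_kap (v : W8) : ∃ q ∈ Q3 a, F.vec q = -v ∧ F.vec (kap x q) = nn (F.m x) v := by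
  obtain ⟨q, hq, e⟩ := F.vec_surj (-v)
  exact ⟨q, hq, e, by rw [vec_kap F hx hq, e, nn_neg, neg_neg]⟩

theorem A_le : Q3 a ⊓ centralizer {x} ≤ D F x := fun q hq => ⟨hq.1, neg_eq_zero.1 (by
  rw [← vec_kap F hx hq.1, kap_eq_one.2 (mem_cen.1 hq.2), F.vec_one])⟩

theorem kap_D (hq : q ∈ D F x) : kap x q ∈ zpowers a :=
  (F.vec_eq_zero _ (kap_mem F hx hq.1)).1 (by rw [vec_kap F hx hq.1, hq.2, neg_zero])

theorem comm5 (hp : p ∈ D1 F x) (hq : q ∈ D F x) : p * q = q * p := by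
  obtain ⟨hp, v, e⟩ := hp
  rw [F.commute_iff hp hq.1, e]
  exact sf5 (F.range_le_Sp (F.m_mem hx)) hq.2 v

theorem kap_D1 (hq : q ∈ Q3 a) : kap x q ∈ D1 F x := ⟨kap_mem F hx hq, _, by rw [vec_kap F hx hq, ← nn_neg]⟩

/-- If the centraliser of `x` is smaller than `D` then whole cosets of the centre consist of commutators. -/
theorem lift_all (h : ¬ D F x ≤ centralizer {x}) (hd : d ∈ Q3 a) (hq : q ∈ Q3 a) (e : F.vec d = F.vec (kap x q)) :
    ∃ q', kap x q' = d := by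
  obtain ⟨p, hp, hn⟩ := SetLike.not_le_iff_exists.1 h
  have h1 := kap_D F hx hp
  have h2 : ∀ q ∈ Q3 a, kap x (q * p) = kap x p * kap x q := fun q hq => by
    rw [kap_mul', zc F h1 hq, mul_inv_cancel_right]
  have h3 := (F.vec_eq hd (kap_mem F hx hq)).1 e
  have h4 := F.cube _ (kap_mem F hx hp.1)
  rw [← zp_eq F.esz.orderOf_z h1 fun e => hn (mem_cen.2 (kap_eq_one.1 e))] at h3
  rcases T16.mem_zpowers_three h4 h3 with e | e | e <;> rw [mul_inv_eq_iff_eq_mul] at e <;> rw [e]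
  · exact ⟨q, (one_mul _).symm⟩
  · exact ⟨_, h2 q hq⟩
  · exact ⟨q * p * p, by
      rw [h2 _ (mul_mem hq hp.1), h2 q hq, ← mul_assoc, inv_eq_of_mul_eq_one_left (by rw [← pow_three', h4])]⟩

end F

/-- A commuting pair of conjugates. -/
structure Pa (a x : G) : Prop where
  ne : Nonempty (B8 a)
  wc : Wc1 a
  cj : IsConj a x
  cm : x * a = a * x
  nz : x ∉ zpowers a

namespace Pa

variable (h : Pa a x)
include h

theorem ne' : Nonempty (B8 x) := let ⟨F, _⟩ := h.ne.some.exists_cj h.cj; ⟨F⟩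

theorem x3 : x ^ 3 = 1 := h.ne'.some.esz.z_pow

theorem symm : Pa x a := by
  refine ⟨h.ne', fun y hy hz => ?_, h.cj.symm, h.cm.symm, fun hz => h.nz ?_⟩
  · obtain ⟨g, rfl⟩ := isConj_iff.1 h.cj
    rw [Q3_cj, mem_cj] at hy
    rw [← cj_zpowers, mem_cj]
    exact h.wc _ hy ((h.cj.trans hz).trans (isConj_iff.2 ⟨g⁻¹, by rw [inv_inv]⟩))
  · rw [zp_eq h.ne'.some.esz.orderOf_z hz h.ne.some.esz.z_ne_one]
    exact mem_zpowers x

theorem nQ : x ∉ Q3 a := fun hq => h.nz (h.wc x hq h.cj)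

theorem eq_one (hy : y ∈ zpowers x) (hq : y ∈ Q3 a) : y = 1 := by
  by_contra h1
  exact h.nQ (zpowers_le.2 hq (by rw [zp_eq h.ne'.some.esz.orderOf_z hy h1]; exact mem_zpowers x))

theorem zx (hy : y ∈ zpowers a) : Commute y x := let ⟨n, e⟩ := hy; e ▸ (show Commute a x from h.cm.symm).zpow_left n

theorem ck (q : G) : IsConj x (kap x q * x) := isConj_iff.2 ⟨q, (kap_mul x q).symm⟩

theorem kill (hy : kap x q ∈ Q3 a) (hy' : kap x q ∈ Q3 x) : kap x q = 1 :=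
  h.eq_one ((mul_mem_cancel_right (mem_zpowers x)).1
    (h.symm.wc _ (mul_mem hy' h.ne'.some.esz.z_mem) (h.ck q))) hy

theorem next (hy : kap x q ∈ Q3 a) (y1 : kap x q ≠ 1) (hc : kap x q * x = x * kap x q) : Pa x (kap x q * x) :=
  ⟨h.ne', h.symm.wc, h.ck q, by rw [← mul_assoc, ← hc], fun e =>
    y1 (h.eq_one ((mul_mem_cancel_right (mem_zpowers x)).1 e) hy)⟩

theorem idx : Nat.card (Q3 a ⊓ centralizer {x} : Subgroup G) ≤
    27 * Nat.card (Q3 a ⊓ centralizer {x} ⊓ Q3 x : Subgroup G) :=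
  h.ne'.some.idx_le inf_le_right fun y hy => h.ne.some.cube y hy.1

end Pa

/-- The value of the commutator map relative to `Q3 a ⊓ Q3 x`. -/
def R (a x q b : G) (g : ZMod 3) : Prop := q ∈ Q3 a ∧ b ∈ Q3 a ⊓ Q3 x ∧ kap x q = a ^ g.val * b

theorem R.mul (F : B8 a) {b c : G} {g h : ZMod 3} (h1 : R a x q b g) (h2 : R a x p c h) :
    R a x (q * p) (c * b) (g + h + sf8 (F.vec q) (F.vec c)) := by
  refine ⟨mul_mem h1.1 h2.1, mul_mem h2.2.1 h1.2.1, ?_⟩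
  have e := F.comm q h1.1 c h2.2.1.1
  have z := fun (n : ℕ) {q} => zc F (q := q) (pow_mem (mem_zpowers a) n)
  rw [kap_mul', h1.2.2, h2.2.2, T3.pow_val_add F.esz.z_pow, add_comm g, T3.pow_val_add F.esz.z_pow, mul_assoc (a ^ _),
    ← pow_add, add_comm g.val, pow_add, ← e, ← mul_assoc q, z _ h1.1]
  calc _ = a ^ h.val * (q * c * q⁻¹ * c⁻¹) * (c * a ^ g.val) * b := by group
    _ = _ := by rw [z _ h2.2.1.1]; group

theorem R.pow (F : B8 a) {b : G} {g : ZMod 3} (h : R a x q b g) (n : ZMod 3) :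
    R a x (q ^ n.val) (b ^ n.val) (n * g + (n - n * n) * sf8 (F.vec q) (F.vec b)) := by
  rcases (by decide : ∀ c : ZMod 3, c = 0 ∨ c = 1 ∨ c = 2) n with rfl | rfl | rfl
  · exact ⟨by simp, by simp, by simp [kap]⟩
  · simpa [ZMod.val_one] using h
  · rw [(by decide : ∀ g s : ZMod 3, 2 * g + (2 - 2 * 2) * s = g + g + s), show (2 : ZMod 3).val = 2 from rfl, pow_two,
      pow_two]
    exact h.mul F h

namespace Pa

variable (h : Pa a x) (F : B8 a)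
include h F

theorem not1 (t : Ty1 (F.m x)) : False := by
  have hD : D F x ≤ D1 F x := fun q hq => ⟨hq.1, t.2 _ hq.2⟩
  have hc : ∀ p ∈ D F x, ∀ q ∈ D F x, p * q = q * p := fun p hp q hq => comm5 F h.cm (hD hp) hq
  have h1 := F.card_le_of_comm (A := D F x) (fun _ h => h.1) hc
  have h2 := T3.FA.orb_le (C := Q3 a) (S := D F x) (x := x) fun q hq =>
    ⟨kap_mem F h.cm hq, by beta_reduce; rw [vec_kap F h.cm hq, nn_neg, t.1, neg_zero]⟩
  have h3 := h.idx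
  have hA := A_le F h.cm
  have hq : ∀ b ∈ Q3 a ⊓ centralizer {x}, ∃ q ∈ Q3 a, F.vec (kap x q) = F.vec b := fun b hb => by
    obtain ⟨v, e⟩ := (hD (hA hb)).2
    obtain ⟨q, hq, -, e'⟩ := exists_kap F h.cm v
    exact ⟨q, hq, e'.trans e.symm⟩
  rw [F.card] at h2
  by_cases hn : D F x ≤ centralizer {x}
  swap
  · rw [show Q3 a ⊓ centralizer {x} ⊓ Q3 x = ⊥ from eq_bot_iff.2 fun b hb => by
      obtain ⟨q, hq, e⟩ := hq b hb.1
      obtain ⟨q', rfl⟩ := lift_all F h.cm hn hb.1.1 hq e.symm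
      exact h.kill hb.1.1 hb.2, card_bot] at h3
    nlinarith
  rw [← le_antisymm hA (le_inf (fun _ h => h.1) hn)] at h2
  by_cases h9 : 9 * Nat.card (Q3 a ⊓ centralizer {x} ⊓ Q3 x : Subgroup G) < Nat.card (Q3 a ⊓ centralizer {x} : Subgroup G)
  · obtain ⟨F', -, e⟩ := h.ne'.some.exists_J inf_le_right (fun y hy => F.cube y hy.1) (fun p hp q hq => by
      rw [hc p (hA hp) q (hA hq)]; simp) h9
    have h4 := Set.ncard_le_ncard (s := F'.vec '' (Q3 a ⊓ centralizer {x} ⊓ Q3 x : Subgroup G))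
      (t := (fun c : ZMod 3 => c • v0) '' Set.univ) (by
        rintro _ ⟨b, hb, rfl⟩
        obtain ⟨c, e⟩ := fix_J0 (v := F'.vec b) fun s hs => by
          obtain ⟨g, hg, rfl⟩ := (F'.mem_img inf_le_right).1 (e ▸ hs)
          rw [← F'.m_act (mem_cen.1 hg.2) hb.2, hc g (hA hg) b (hA hb.1), mul_inv_cancel_right]
        exact ⟨c, trivial, e.symm⟩)
    have h5 := Set.ncard_image_le (f := fun c : ZMod 3 => c • v0) (s := Set.univ)
    rw [← F'.card_eq' (A := Q3 a ⊓ centralizer {x} ⊓ Q3 x) inf_le_right fun hx => h.nQ hx.1.1] at h4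
    rw [Set.ncard_univ, Nat.card_zmod] at h5
    nlinarith
  obtain ⟨_, ⟨b1, m1, rfl⟩, _, ⟨b2, m2, rfl⟩, _, ⟨b3, m3, rfl⟩, hi⟩ := indep3
    (U := F.vec '' (Q3 a ⊓ centralizer {x} ⊓ Q3 x : Subgroup G)) (by
      rw [← F.card_eq' (A := Q3 a ⊓ centralizer {x} ⊓ Q3 x) (fun _ h => h.1.1) fun ha => h.symm.nQ ha.2]
      nlinarith)
  have hR : ∀ b ∈ Q3 a ⊓ centralizer {x} ⊓ Q3 x, ∃ q g, R a x q b g := fun b hb => by
    obtain ⟨q, hq, e⟩ := hq b hb.1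
    rcases T16.mem_zpowers_three F.esz.z_pow ((F.vec_eq (kap_mem F h.cm hq) hb.1.1).1 e) with e | e | e <;>
      rw [mul_inv_eq_iff_eq_mul] at e
    exacts [⟨q, 0, hq, ⟨hb.1.1, hb.2⟩, by simpa using e⟩, ⟨q, 1, hq, ⟨hb.1.1, hb.2⟩, by simpa [ZMod.val_one] using e⟩,
      ⟨q, 2, hq, ⟨hb.1.1, hb.2⟩, by
        rw [e, inv_eq_of_mul_eq_one_left (show a ^ 2 * a = 1 by rw [← pow_succ, F.esz.z_pow])]; rfl⟩]
  obtain ⟨q1, g1, r1⟩ := hR b1 m1
  obtain ⟨q2, g2, r2⟩ := hR b2 m2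
  obtain ⟨q3, g3, r3⟩ := hR b3 m3
  obtain ⟨i, j, k, h0, e⟩ := cw g1 (sf8 (F.vec q1) (F.vec b1)) g2 (sf8 (F.vec q2) (F.vec b2)) g3
    (sf8 (F.vec q3) (F.vec b3)) (sf8 (F.vec q1) (F.vec b2)) (sf8 (F.vec q1) (F.vec b3)) (sf8 (F.vec q2) (F.vec b3))
  obtain ⟨-, r4, r5⟩ := (r1.pow F i).mul F ((r2.pow F j).mul F (r3.pow F k))
  have p := fun {b} (m : b ∈ Q3 a ⊓ centralizer {x} ⊓ Q3 x) (n : ZMod 3) => pow_mem m.1.1 n.val
  rw [F.vec_mul _ (p m3 k) _ (p m2 j), F.vec_pow r1.1, F.vec_pow r2.1, F.vec_pow m3.1.1, F.vec_pow m2.1.1,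
    sf8_smul_left, sf8_smul_left, sf8_add_right, sf8_smul_right, sf8_smul_right, sf8_smul_right, e, ZMod.val_zero,
    pow_zero, one_mul] at r5
  refine h0 (hi i j k ?_)
  rw [← F.vec_pow m1.1.1, ← F.vec_pow m2.1.1, ← F.vec_pow m3.1.1, ← F.vec_mul _ (p m3 k) _ (p m2 j),
    ← F.vec_mul _ (mul_mem (p m3 k) (p m2 j)) _ (p m1 i), ← r5, h.kill (r5 ▸ r4.1) (r5 ▸ r4.2), F.vec_one]

theorem kap_D2 (hq : q ∈ D1 F x) : kap x q ∈ D2 F x ∧ kap x q ∈ D F x := by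
  obtain ⟨hq, v, e⟩ := hq
  have e1 : F.vec (kap x q) = nn (F.m x) (nn (F.m x) (-v)) := by rw [vec_kap F h.cm hq, e, nn_neg, nn_neg]
  exact ⟨⟨kap_mem F h.cm hq, _, e1⟩, kap_mem F h.cm hq, by
    beta_reduce; rw [e1, nn3 (by rw [← F.m_pow h.cm, h.x3, F.m_one])]⟩

theorem kap_kap (hq : q ∈ D1 F x) : kap x q * x = x * kap x q := by
  obtain ⟨p, hp, -, e⟩ := exists_kap F h.cm hq.2.choose
  have h1 := kap_D1 F h.cm hp
  have h2 := h.kap_D2 F h1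
  have h4 := (F.vec_eq hq.1 h1.1).1 (hq.2.choose_spec.trans e.symm)
  have h5 : kap x q = kap x (kap x p) := by
    rw [← inv_mul_cancel_right q (kap x p), ← zc F h4 h1.1, kap_mul', kap_eq_one.2 (h.zx h4), mul_one, mul_inv_cancel, one_mul]
  have k : ∀ g, (MulAut.conj x).toMonoidHom g = (kap x g)⁻¹ * g := fun g => by simp [kap, mul_assoc]
  rw [h5, ← kap_eq_one]
  refine k3 (p := p) ?_ (k _) (k _) (k _) (comm5 F h.cm h1 h2.2) (F.cube _ h1.1) (F.cube _ h2.2.1)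
  calc _ = x ^ 3 * p * (x ^ 3)⁻¹ := by simp [pow_three', mul_assoc]
    _ = p := by rw [h.x3]; group

theorem kap_hom (hp : p ∈ D1 F x) (hq : q ∈ D1 F x) : kap x (q * p) = kap x p * kap x q := by
  rw [kap_mul', comm5 F h.cm hq (h.kap_D2 F hp).2, mul_inv_cancel_right]

/-- The commutators of `x` with the elements of `D1`. -/
def K0 : Subgroup G where
  carrier := {s | ∃ q ∈ D1 F x, kap x q = s}
  one_mem' := ⟨1, one_mem _, by simp [kap]⟩
  mul_mem' := by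
    rintro _ _ ⟨p, hp, rfl⟩ ⟨q, hq, rfl⟩
    exact ⟨_, mul_mem hq hp, h.kap_hom F hp hq⟩
  inv_mem' := by
    rintro _ ⟨p, hp, rfl⟩
    exact ⟨_, inv_mem hp, eq_inv_of_mul_eq_one_right (by rw [← h.kap_hom F hp (inv_mem hp)]; simp [kap])⟩

theorem K0_le : h.K0 F ≤ D2 F x ⊓ (Q3 a ⊓ centralizer {x}) := by
  rintro _ ⟨q, hq, rfl⟩
  exact ⟨(h.kap_D2 F hq).1, (h.kap_D2 F hq).1.1, mem_cen.2 (h.kap_kap F hq)⟩

theorem K0_inf : h.K0 F ⊓ Q3 x = ⊥ := eq_bot_iff.2 (by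
  rintro _ ⟨⟨q, hq, rfl⟩, h1⟩
  exact h.kill (kap_mem F h.cm hq.1) h1)

theorem comm2 (hp : p ∈ D2 F x) (hq : q ∈ Q3 a ⊓ centralizer {x}) : p * q = q * p :=
  comm5 F h.cm ⟨hp.1, let ⟨_, e⟩ := hp.2; ⟨_, e⟩⟩ (A_le F h.cm hq)

theorem D2_kap (hp : p ∈ D2 F x) : ∃ k ∈ h.K0 F, F.vec k = F.vec p := by
  obtain ⟨v, e⟩ := hp.2
  obtain ⟨q, hq, e1, e2⟩ := exists_kap F h.cm (nn (F.m x) v)
  exact ⟨_, ⟨q, ⟨hq, -v, by rw [e1, nn_neg]⟩, rfl⟩, e2.trans e.symm⟩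

theorem nine (t : Ty3 (F.m x)) : 9 ≤ (F.vec '' h.K0 F).ncard := by
  obtain ⟨v, w, t⟩ := t
  have h1 := Set.ncard_image_of_injective (f := fun i : ZMod 3 × ZMod 3 =>
    i.1 • nn (F.m x) (nn (F.m x) v) + i.2 • nn (F.m x) (nn (F.m x) w)) Set.univ fun i j e => by
      have := t (i.1 - j.1) (i.2 - j.2) (by rw [← sub_eq_zero.2 e]; module)
      exact Prod.ext (sub_eq_zero.1 this.1) (sub_eq_zero.1 this.2)
  rw [Set.ncard_univ, Nat.card_prod, Nat.card_zmod] at h1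
  refine h1.ge.trans (Set.ncard_le_ncard ?_)
  rintro _ ⟨i, -, rfl⟩
  obtain ⟨p, hp, e⟩ := F.vec_surj (nn (F.m x) (nn (F.m x) (i.1 • v + i.2 • w)))
  obtain ⟨k, hk, e1⟩ := h.D2_kap F ⟨hp, _, e⟩
  exact ⟨k, hk, by simp only [e1, e, nn_add, nn_smul]⟩

theorem nine' (t : Ty3 (F.m x)) : 9 ≤ Nat.card (h.K0 F) :=
  (h.nine F t).trans (Set.ncard_image_le (s := (h.K0 F : Set G)))

omit F in
theorem m_next (F' : B8 x) (hc : d * x = x * d) : F'.m (d * x) = F'.m d := by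
  rw [F'.m_mul hc rfl, (F'.m_eq_one rfl).2 F'.esz.z_mem, mul_one]

theorem not2 (t : Ty2 (F.m x)) : False := by
  obtain ⟨t, c, d, hc, hd, t2⟩ := t
  by_cases hn : D F x ≤ centralizer {x}
  · obtain ⟨p, hp, rfl⟩ := F.vec_surj c
    obtain ⟨q, hq, rfl⟩ := F.vec_surj d
    rw [Ne, ← F.commute_iff hp hq] at t2
    have hp' : p ∈ Q3 a ⊓ centralizer {x} := ⟨hp, hn ⟨hp, hc⟩⟩
    have hq' : q ∈ Q3 a ⊓ centralizer {x} := ⟨hq, hn ⟨hq, hd⟩⟩
    have h1 : ∀ y ∈ Q3 a ⊓ centralizer {x}, h.K0 F ⊔ Q3 a ⊓ centralizer {x} ⊓ Q3 x ≤ centralizer {y} := fun y hy =>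
      sup_le (fun k hk => mem_cen.2 (h.comm2 F (h.K0_le F hk).1 hy)) fun b hb => mem_cen.2 (by
        rw [← commutatorElement_eq_one_iff_mul_comm]
        refine h.symm.eq_one (F.esz.comm_mem b hb.1.1 y hy.1) ?_
        rw [commutatorElement_def, mul_assoc, mul_assoc, ← mul_assoc y]
        exact mul_mem hb.2 (h.ne'.some.cjQ (mem_cen.1 hy.2) (inv_mem hb.2)))
    have h2 := card_sup_zp (orderOf_eq_prime (F.cube p hp) fun e => t2 (by rw [e, one_mul, mul_one]))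
      (fun y hy => (mem_cen.1 (h1 p hp' hy)).symm) fun e => t2 (mem_cen.1 (h1 q hq' e))
    rw [GT.card_sup_of_inf_eq_bot (N := Q3 a ⊓ centralizer {x} ⊓ Q3 x) (fun k hk => centralizer_le_normalizer _ fun b hb =>
      (h.comm2 F (h.K0_le F hk).1 hb.1).symm) (eq_bot_iff.2 ((inf_le_inf_left _ inf_le_right).trans (h.K0_inf F).le))] at h2
    have h3 := Inv.Fz.card_lt_of_lt (lt_of_le_of_ne (sup_le (zpowers_le.2 hp') (sup_le ((h.K0_le F).trans inf_le_right)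
      (inf_le_left (b := Q3 x)))) fun e => t2 (mem_cen.1
        (sup_le (zpowers_le.2 (mem_cen.2 rfl)) (h1 p hp') (e.ge hq'))).symm)
    have h4 := h.idx
    have h5 := h.nine' F t
    nlinarith
  have h1 : ∀ k ∈ D2 F x, k * x = x * k ∧ ∃ q, kap x q = k := fun k hk => by
    obtain ⟨_, ⟨q, hq, rfl⟩, e⟩ := h.D2_kap F hk
    refine ⟨?_, lift_all F h.cm hn hk.1 hq.1 e.symm⟩
    rw [← inv_mul_cancel_right k (kap x q)]
    exact (h.zx ((F.vec_eq hk.1 (kap_mem F h.cm hq.1)).1 e.symm)).mul_left (h.kap_kap F hq)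
  have h2 : D2 F x ≤ centralizer {x} := fun k hk => mem_cen.2 (h1 k hk).1
  obtain ⟨F', -, e⟩ := h.ne'.some.exists_J h2 (fun y hy => F.cube y hy.1) (fun p hp q hq => by
    rw [h.comm2 F hp ⟨hq.1, h2 hq⟩]; simp) (by
      have h3 := (h.nine F t).trans (Set.ncard_le_ncard (Set.image_mono ((h.K0_le F).trans inf_le_left)))
      rw [show D2 F x ⊓ Q3 x = ⊥ from eq_bot_iff.2 fun k hk => by
        obtain ⟨q, rfl⟩ := (h1 k hk.1).2
        exact h.kill hk.1.1 hk.2, card_bot, F.card_eq (A := D2 F x) (fun _ h => h.1)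
          ⟨F.esz.z_mem, 0, by rw [vec_z F (mem_zpowers a), nn_zero, nn_zero]⟩]
      omega)
  obtain ⟨k, hk, e1⟩ := (F'.mem_img h2).1 (e ▸ ty1_u3.1)
  obtain ⟨hc, q, rfl⟩ := h1 k hk
  refine (h.next hk.1 (fun e => ty1_u3.2.1 ?_) hc).not1 F' (by rw [h.m_next F' hc, e1]; exact ty1_u3.2.2)
  rw [← e1, e, F'.m_one]

end Pa

end FA

theorem B8.exists_y (F : B8 a) {x : G} (xa : x * a = a * x) (xc : IsConj a x) (xn : x ∉ zpowers a) :
    ∃ y ∈ Q3 a, IsConj a y ∧ y ∉ zpowers a := by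
  by_contra! hw
  have h : FA.Pa a x := ⟨⟨F⟩, hw, xc, xa, xn⟩
  obtain ⟨F, t | t⟩ := F.exists_ty xa h.x3 h.nQ
  · exact h.not1 F t
  have h1 := h.K0_le F
  obtain ⟨_, ⟨q, hq, rfl⟩, h2, F', t'⟩ := h.ne'.some.exists_nine (T := h.K0 F) (fun _ hk => (h1 hk).2.2)
    (fun y hy => F.cube y (h1 hy).2.1) (fun p hp q hq => h.comm2 F (h1 hp).1 (h1 hq).2) (h.K0_inf F) (h.nine' F t)
  have h3 := h.kap_kap F hq
  have h4 := h.next (FA.kap_mem F xa hq.1) h2 h3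
  rw [← h.m_next F' h3] at t'
  exact t'.elim (h4.not1 F') (h4.not2 F')

end Cfsg.Agent.B3
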