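import Mathlib
import Cfsg.Agent.B3.Bas
import Cfsg.Agent.GT.PGroupChain
import Cfsg.Agent.GT.HallTools
import Cfsg.Agent.GT.PPrimeCore
import Cfsg.Agent.S0205

/-! The involution `t` (see `stubs/Cfsg/Agent/B3/PLAN.md`). -/

set_option autoImplicit false
set_option linter.unusedSectionVars false

namespace Cfsg.Agent.B3

open Cfsg.Agent.Spor Cfsg.Agent.Rec Cfsg.Agent.T3 Cfsg.Agent.GT.PG Subgroup Matrix
open scoped commutatorElement

universe u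

variable {G : Type u} [Group G] [Finite G] {a : G}

namespace FB

theorem τ0_sq : τ0 * τ0 = 1 := by
  rw [τ_bd.1, ← map_mul, ← Pi.mulSingle_mul, neg_mul_neg, one_mul, Pi.mulSingle_one, map_one]

theorem τ0_ne : τ0 ≠ 1 := fun h => by
  have := congrArg (fun m : Γ => (m : M8) (0, 0) (0, 0)) (τ_bd.1.symm.trans h)
  simp only [bd_val, bdm, Matrix.of_apply, if_true, Pi.mulSingle_eq_same, Units.val_one, Matrix.one_apply_eq] at this
  revert this; decide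

theorem τ1_ne : τ1 ≠ τ0 := fun h => by
  have := congrArg (fun m : Γ => (m : M8) (0, 0) (0, 0)) (τ_bd.1.symm.trans (h.symm.trans τ_bd.2.1))
  simp only [bd_val, bdm, Matrix.of_apply, if_true, Pi.mulSingle_eq_same] at this
  rw [Pi.mulSingle_eq_of_ne (by decide)] at this
  revert this; decide

theorem c_mul {g h : G} (hg : g * a = a * g) (hh : h * a = a * h) : g * h * a = a * (g * h) :=
  (Commute.mul_left hg hh).eq
theorem c_inv {g : G} (hg : g * a = a * g) : g⁻¹ * a = a * g⁻¹ := (Commute.inv_left hg).eq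
theorem c_cj {g h : G} (hg : g * a = a * g) (hh : h * a = a * h) : g * h * g⁻¹ * a = a * (g * h * g⁻¹) :=
  c_mul (c_mul hg hh) (c_inv hg)

theorem C3_X0 {x : Γ} (h : x ∈ C3) : x ∈ X0 := (C3_le h).1
theorem C3_τ {x : Γ} (h : x ∈ C3) : x * τ0 = τ0 * x := mem_cen.1 (C3_le h).2

theorem dih {u v : G} (hu : u * u = 1) (hv : v * v = 1) (h : (u * v) ^ 3 = 1) :
    (u * v) ^ 2 * v * ((u * v) ^ 2)⁻¹ = u := by
  have e1 : u⁻¹ = u := inv_eq_of_mul_eq_one_right hu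
  have e2 : v⁻¹ = v := inv_eq_of_mul_eq_one_right hv
  calc (u * v) ^ 2 * v * ((u * v) ^ 2)⁻¹ = u * v * u * (v * v) * (v⁻¹ * u⁻¹ * v⁻¹ * u⁻¹) := by
        rw [pow_two]; group
    _ = (u * v) ^ 3 * u := by rw [hv, e1, e2, pow_succ, pow_two]; group
    _ = u := by rw [h, one_mul]

/-- An involution fixing a coset of `⟨a⟩` in `Q` centralises it. -/
theorem fix_of (F : B0 a) {t q : G} (t2 : t * t = 1) (ta : t * a = a * t) (hq : q ∈ Q3 a)
    (h : F.vec (t * q * t⁻¹) = F.vec q) : t * q = q * t := by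
  have hz := (F.vec_eq (F.cjQ ta hq) hq).1 h
  set z := t * q * t⁻¹ * q⁻¹ with hzd
  have tz : Commute t z := by
    obtain ⟨k, hk⟩ := mem_zpowers_iff.1 hz
    rw [← hk]; exact (show Commute t a from ta).zpow_right k
  have e1 : t * q * t⁻¹ = z * q := by rw [hzd]; group
  have e2 : z * z = 1 := by
    have : q = z * z * q := by
      calc q = (t * t) * q * (t * t)⁻¹ := by rw [t2]; group
        _ = t * (t * q * t⁻¹) * t⁻¹ := by group
        _ = t * (z * q) * t⁻¹ := by rw [e1]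
        _ = t * z * t⁻¹ * (t * q * t⁻¹) := by group
        _ = z * z * q := by rw [tz.eq, e1]; group
    exact (mul_eq_right.1 this.symm)
  have e3 : z ^ 3 = 1 := F.esz.pow_eq_one_of_mem_zpowers hz
  have : z = 1 := by rw [pow_succ, pow_two, e2, one_mul] at e3; exact e3
  rw [this, one_mul, mul_inv_eq_iff_eq_mul] at e1
  exact e1

/-- A transvection in `Q ⊓ C(t)`. -/
theorem exists_tv (F : B0 a) {t y : G} (t2 : t * t = 1) (ta : t * a = a * t) (ty : t * y = y * t) (hy : y ∈ Q3 a)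
    (yn : y ∉ zpowers a) : ∃ q ∈ Q3 a, t * q = q * t ∧ q * y * q⁻¹ = y * a := by
  obtain ⟨w, hw, e⟩ := F.esz.exists_commutator_eq hy yn
  have a3 : a ^ 3 = 1 := F.esz.z_pow
  have ya : y * a = a * y := F.Qc hy
  have wa : w * a = a * w := F.Qc hw
  have e1 : w * y * w⁻¹ = y * a⁻¹ := by
    have : w * y * w⁻¹ = a⁻¹ * y := by rw [← e, commutatorElement_def]; group
    rw [this]; exact ((show Commute y a from ya).inv_right.eq).symm
  have hw1 := F.cjQ ta hw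
  have e2 : t * w * t⁻¹ * y * (t * w * t⁻¹)⁻¹ = y * a⁻¹ := by
    calc t * w * t⁻¹ * y * (t * w * t⁻¹)⁻¹ = t * (w * (t⁻¹ * (y * t)) * w⁻¹) * t⁻¹ := by group
      _ = t * (y * a⁻¹) * t⁻¹ := by rw [← ty, inv_mul_cancel_left, e1]
      _ = y * a⁻¹ := by
        rw [((show Commute t y from ty).mul_right (show Commute t a from ta).inv_right).eq]; group
  refine ⟨w * (t * w * t⁻¹), mul_mem hw hw1, fix_of F t2 ta (mul_mem hw hw1) ?_, ?_⟩
  · have : t * (w * (t * w * t⁻¹)) * t⁻¹ = t * w * t⁻¹ * w := by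
      calc t * (w * (t * w * t⁻¹)) * t⁻¹ = t * w * t⁻¹ * ((t * t) * w * (t * t)⁻¹) := by group
        _ = t * w * t⁻¹ * w := by rw [t2]; group
    rw [this, F.vec_mul _ hw1 _ hw, F.vec_mul _ hw _ hw1, add_comm]
  · calc w * (t * w * t⁻¹) * y * (w * (t * w * t⁻¹))⁻¹
        = w * (t * w * t⁻¹ * y * (t * w * t⁻¹)⁻¹) * w⁻¹ := by group
      _ = w * y * w⁻¹ * (w * a * w⁻¹)⁻¹ := by rw [e2]; group
      _ = y * (a ^ 3)⁻¹ * a := by rw [e1, wa, pow_succ, pow_two]; group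
      _ = y * a := by rw [a3]; group

/-- An involution above an involution. -/
theorem cube_sq (F : B0 a) {g : G} (hg : g * a = a * g) (h : F.m g * F.m g = 1) :
    g ^ 3 * g ^ 3 = 1 ∧ F.m (g ^ 3) = F.m g := by
  have : g * g ∈ Q3 a := (F.m_eq_one (c_mul hg hg)).1 (by rw [F.m_mul hg hg, h])
  refine ⟨?_, by rw [F.m_pow hg, pow_succ, pow_two, h, one_mul]⟩
  rw [← F.cube _ this, ← pow_two g, ← pow_add, ← pow_mul]

theorem m_comm (F : B0 a) {g h : G} (hg : g * a = a * g) (hh : h * a = a * h) : F.m ⁅g, h⁆ = ⁅F.m g, F.m h⁆ := by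
  rw [commutatorElement_def, commutatorElement_def, F.m_mul (c_cj hg hh) (c_inv hh),
    F.m_mul (c_mul hg hh) (c_inv hg), F.m_mul hg hh, F.m_inv hg, F.m_inv hh]

theorem c_comm {g h : G} (hg : g * a = a * g) (hh : h * a = a * h) : ⁅g, h⁆ * a = a * ⁅g, h⁆ :=
  c_mul (c_cj hg hh) (c_inv hh)

theorem c_pow {g : G} (hg : g * a = a * g) (n : ℕ) : g ^ n * a = a * g ^ n :=
  ((show Commute g a from hg).pow_left n).eq

theorem eq_one {y z : G} (F : B0 a) (F' : B0 y) (yn : y ∉ zpowers a) (h1 : z ∈ zpowers a) (h2 : z ∈ zpowers y) :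
    z = 1 := by
  by_contra h
  exact yn (by rw [← F.esz.zpowers_eq_of_mem h1 h, F'.esz.zpowers_eq_of_mem h2 h]; exact mem_zpowers y)

theorem comm_of {y : G} (F : B0 a) (F' : B0 y) (yn : y ∉ zpowers a) {p q : G} (hp : p ∈ Q3 a) (hp' : p ∈ Q3 y)
    (hq : q ∈ Q3 a) (hq' : q ∈ Q3 y) : p * q = q * p :=
  commutatorElement_eq_one_iff_mul_comm.1 (eq_one F F' yn (F.esz.comm_mem p hp q hq) (F'.esz.comm_mem p hp' q hq'))

/-- An abelian subgroup of `Q` without `a` has order at most `81`. -/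
theorem card_le (F : B0 a) {B : Subgroup G} (hB : B ≤ Q3 a) (hc : ∀ x ∈ B, ∀ y ∈ B, x * y = y * x) (ha : a ∉ B) :
    Nat.card B ≤ 81 := by
  set C : Subgroup G := Q3 a ⊓ centralizer (B : Set G)
  set D : Subgroup G := C ⊓ centralizer (C : Set G)
  have h1 : D ≤ Q3 a := fun x hx => hx.1.1
  have h2 : B ≤ D := fun b hb => ⟨⟨hB hb, fun x hx => hc x hx b hb⟩, fun c hc' => (hc'.2 b hb).symm⟩
  have h3 : a ∈ D := ⟨⟨F.esz.z_mem, fun x hx => F.Qc (hB hx)⟩, fun c hc' => F.Qc hc'.1⟩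
  have h4 := F.card_le_of_comm h1 fun x hx y hy => hy.2 x hx.1
  rw [F.card_eq h1 h3] at h4
  rw [F.card_eq' hB ha]
  have := Set.ncard_le_ncard (Set.image_mono (f := F.vec) (SetLike.coe_subset_coe.2 h2)) (Set.toFinite _)
  omega

theorem mem_Q {y : G} (F : B8 a) (F' : B8 y) (hy : y ∈ Q3 a) (yn : y ∉ zpowers a) : a ∈ Q3 y := by
  by_contra h
  have h1 := F'.idx_le (T := Q3 a ⊓ centralizer {y}) inf_le_right fun x hx => F.cube x hx.1
  rw [F.card_cen hy yn] at h1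
  have h2 := card_le F.toB0 (B := Q3 a ⊓ centralizer {y} ⊓ Q3 y) (fun x hx => hx.1.1)
    (fun p hp q hq => comm_of F.toB0 F'.toB0 yn hp.1.1 hp.2 hq.1.1 hq.2) fun k => h k.2
  omega

end FB

open FB

theorem B8.exists_Lt (F : B8 a) {y : G} (hy : y ∈ Q3 a) (yc : IsConj a y) (yn : y ∉ zpowers a) :
    ∃ s : Lt a, s.mt.range = F.mt.range := by
  obtain ⟨F', -⟩ := F.exists_cj yc
  have ha := mem_Q F F' hy yn
  have an : a ∉ zpowers y := fun h => F.esz.z_ne_one (eq_one F.toB0 F'.toB0 yn (mem_zpowers a) h)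
  obtain ⟨F1, e1, eJ⟩ := F.exists_J (T := Q3 y ⊓ centralizer {a}) inf_le_right (fun x hx => F'.cube x hx.1)
    (fun p hp q hq => zpowers_le.2 hy (F'.esz.comm_mem p hp.1 q hq.1)) (by
      have := F.card_le_of_comm (A := Q3 y ⊓ centralizer {a} ⊓ Q3 a) inf_le_right
        fun p hp q hq => comm_of F.toB0 F'.toB0 yn hp.2 hp.1.1 hq.2 hq.1.1
      rw [F'.card_cen ha an]
      omega)
  obtain ⟨c, hc⟩ := fix_J0 (v := F1.vec y) fun s hs => by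
    obtain ⟨g, hg, rfl⟩ := (F1.mem_img inf_le_right).1 (eJ ▸ hs)
    rw [← F1.m_act (mem_cen.1 hg.2) hy, F'.Qc hg.1, mul_inv_cancel_right]
  have yv : F1.vec y = v0 ∨ F1.vec y = -v0 := by
    have c0 : c ≠ 0 := fun h => yn ((F1.vec_eq_zero y hy).1 (by rw [hc, h, zero_smul]))
    have : c = 1 ∨ c = -1 := by revert c0; generalize c = c; revert c; decide
    rcases this with h | h
    · left; rw [hc, h, one_smul]
    · right; rw [hc, h, neg_smul, one_smul]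
  obtain ⟨g, hg, eg⟩ := F1.exists_m (F1.sub (C3_X0 (D0_le_C3 τ_mem.1)))
  obtain ⟨t2, tm⟩ := cube_sq F1.toB0 hg (by rw [eg, τ0_sq])
  have ta := c_pow hg 3
  have ty : g ^ 3 * y = y * g ^ 3 := fix_of F1.toB0 t2 ta hy (by
    rw [F1.m_act ta hy, tm, eg, hc, Matrix.mulVec_smul, τ0_v0])
  obtain ⟨q, qQ, tq, qy⟩ := exists_tv F1.toB0 t2 ta ty hy yn
  obtain ⟨h, hQ, th, ha'⟩ := exists_tv F'.toB0 t2 ty ta ha an
  exact ⟨⟨F1, g ^ 3, y, h, q, t2, ta, tm.trans eg, hy, yv, yc, ty, th, F'.cube h hQ, F'.Qc hQ, ha', tq, qQ, qy⟩, e1⟩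

/-- A square in `C(t)` inverting `a`. -/
theorem Lt.exists_inv (s : Lt a) : ∃ n, n * s.t = s.t * n ∧ n * n * a * (n * n)⁻¹ = a⁻¹ := by
  have tq : Commute s.q⁻¹ s.t := (show Commute s.t s.q from s.tq).symm.inv_left
  have th : Commute s.h s.t := (show Commute s.t s.h from s.th).symm
  have qa : s.q⁻¹ * a * s.q = a := by
    rw [mul_assoc, ← s.Qc s.qQ, inv_mul_cancel_left]
  have qy : s.q⁻¹ * s.y * s.q = s.y * a⁻¹ := by
    have : s.q⁻¹ * (s.y * a) * s.q = s.y := by rw [← s.qy]; group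
    calc s.q⁻¹ * s.y * s.q = s.q⁻¹ * (s.y * a) * s.q * (s.q⁻¹ * a * s.q)⁻¹ := by group
      _ = s.y * a⁻¹ := by rw [this, qa]
  have hy : s.h * s.y * s.h⁻¹ = s.y := by rw [s.hy, mul_inv_cancel_right]
  have e1 : s.q⁻¹ * s.h * s.q⁻¹ * a * (s.q⁻¹ * s.h * s.q⁻¹)⁻¹ = s.y := by
    calc s.q⁻¹ * s.h * s.q⁻¹ * a * (s.q⁻¹ * s.h * s.q⁻¹)⁻¹
        = s.q⁻¹ * (s.h * (s.q⁻¹ * a * s.q) * s.h⁻¹) * s.q := by group
      _ = s.q⁻¹ * (a * s.y) * s.q := by rw [qa, s.ha]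
      _ = (s.q⁻¹ * a * s.q) * (s.q⁻¹ * s.y * s.q) := by group
      _ = s.y := by rw [qa, qy, ← mul_assoc, ← s.Qc s.yQ, mul_inv_cancel_right]
  have e2 : s.q⁻¹ * s.h * s.q⁻¹ * s.y * (s.q⁻¹ * s.h * s.q⁻¹)⁻¹ = a⁻¹ := by
    calc s.q⁻¹ * s.h * s.q⁻¹ * s.y * (s.q⁻¹ * s.h * s.q⁻¹)⁻¹
        = s.q⁻¹ * (s.h * (s.q⁻¹ * s.y * s.q) * s.h⁻¹) * s.q := by group
      _ = s.q⁻¹ * ((s.h * s.y * s.h⁻¹) * (s.h * a * s.h⁻¹)⁻¹) * s.q := by rw [qy]; group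
      _ = (s.q⁻¹ * a * s.q)⁻¹ := by rw [hy, s.ha]; group
      _ = a⁻¹ := by rw [qa]
  refine ⟨s.q⁻¹ * s.h * s.q⁻¹, ((tq.mul_left th).mul_left tq).eq, ?_⟩
  generalize s.q⁻¹ * s.h * s.q⁻¹ = n at e1 e2
  rw [← e2, ← e1]; group

theorem Lt.t_ne (s : Lt a) : s.t ≠ 1 := fun h => τ0_ne (by rw [← s.tm, h, s.m_one])

/-- A commuting conjugate of `t`. -/
theorem Lt.exists_conj (s : Lt a) : ∃ g, g * s.t * g⁻¹ * s.t = s.t * (g * s.t * g⁻¹) ∧ g * s.t * g⁻¹ ≠ s.t := by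
  obtain ⟨g, hg, eg⟩ := s.exists_m (s.sub (R0_le_X0 (show gI1 ∈ R0 from subset_closure (by simp))))
  have c1 := c_cj hg s.ta
  have m1 : s.m (g * s.t * g⁻¹) = τ1 := by
    rw [s.m_mul (c_mul hg s.ta) (c_inv hg), s.m_mul hg s.ta, s.m_inv hg, eg, s.tm, τ_cj.2.1]
  have τ1_sq : τ1 * τ1 = 1 := by
    rw [← τ_cj.2.1]
    calc gI1 * τ0 * gI1⁻¹ * (gI1 * τ0 * gI1⁻¹) = gI1 * (τ0 * τ0) * gI1⁻¹ := by group
      _ = 1 := by rw [τ0_sq]; group
  have h1 := D0_le_C3 τ_mem.2.1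
  obtain ⟨k, ka, kt, km⟩ := s.lift s.t2 s.ta (s.sub (C3_X0 h1)) (by rw [s.tm, C3_τ h1])
  obtain ⟨k2, km'⟩ := cube_sq s.toB0 ka (by rw [km, τ1_sq])
  have t2 : g * s.t * g⁻¹ * (g * s.t * g⁻¹) = 1 := by
    calc g * s.t * g⁻¹ * (g * s.t * g⁻¹) = g * (s.t * s.t) * g⁻¹ := by group
      _ = 1 := by rw [s.t2]; group
  have hQ : k ^ 3 * (g * s.t * g⁻¹) ∈ Q3 a :=
    (s.m_eq_one (c_mul (c_pow ka 3) c1)).1 (by rw [s.m_mul (c_pow ka 3) c1, km', km, m1, τ1_sq])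
  have e := dih k2 t2 (s.cube _ hQ)
  have e' : (k ^ 3 * (g * s.t * g⁻¹)) ^ 2 * g * s.t * ((k ^ 3 * (g * s.t * g⁻¹)) ^ 2 * g)⁻¹ = k ^ 3 := by
    rw [← e]; rw [e]; nth_rewrite 3 [← e]; group
  refine ⟨(k ^ 3 * (g * s.t * g⁻¹)) ^ 2 * g, ?_, fun h => τ1_ne ?_⟩
  · rw [e']; exact ((show Commute k s.t from kt).pow_left 3).eq
  · rw [← km, ← km', ← e', h, s.tm]

/-- `t` lies in the derived group of every subgroup containing the cubes of the commutators of `C(t)`. -/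
theorem Lt.t_mem (s : Lt a) {N : Subgroup G}
    (h : ∀ g k, g * s.t = s.t * g → k * s.t = s.t * k → ⁅g, k⁆ ^ 3 ∈ N) : s.t ∈ ⁅N, N⁆ := by
  obtain ⟨a1, h1, a2, h2, b1, h3, b2, h4, e⟩ := τ_comm
  have L : ∀ x ∈ C3, ∃ g, g * a = a * g ∧ g * s.t = s.t * g ∧ s.m g = x := fun x hx =>
    s.lift s.t2 s.ta (s.sub (C3_X0 hx)) (by rw [s.tm, C3_τ hx])
  obtain ⟨g1, c1, d1, rfl⟩ := L a1 h1
  obtain ⟨g2, c2, d2, rfl⟩ := L a2 h2
  obtain ⟨g3, c3, d3, rfl⟩ := L b1 h3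
  obtain ⟨g4, c4, d4, rfl⟩ := L b2 h4
  have p1 := c_pow (c_comm c1 c2) 3
  have p2 := c_pow (c_comm c3 c4) 3
  have wa := c_comm p1 p2
  have wt := c_comm (c_pow (c_comm d1 d2) 3) (c_pow (c_comm d3 d4) 3)
  have wm : s.m ⁅⁅g1, g2⁆ ^ 3, ⁅g3, g4⁆ ^ 3⁆ = τ0 := by
    rw [m_comm s.toB0 p1 p2, s.m_pow (c_comm c1 c2), s.m_pow (c_comm c3 c4), m_comm s.toB0 c1 c2,
      m_comm s.toB0 c3 c4, ← e]
  have wN : ⁅⁅g1, g2⁆ ^ 3, ⁅g3, g4⁆ ^ 3⁆ ∈ ⁅N, N⁆ := commutator_mem_commutator (h _ _ d1 d2) (h _ _ d3 d4)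
  set w := ⁅⁅g1, g2⁆ ^ 3, ⁅g3, g4⁆ ^ 3⁆
  have hQ : w * s.t ∈ Q3 a := (s.m_eq_one (c_mul wa s.ta)).1 (by rw [s.m_mul wa s.ta, wm, s.tm, τ0_sq])
  have e3 := s.cube _ hQ
  rw [(show Commute w s.t from wt).mul_pow, pow_succ s.t, pow_two, s.t2, one_mul] at e3
  have : s.t = (w ^ 3)⁻¹ := eq_inv_of_mul_eq_one_right e3
  rw [this]
  exact inv_mem (pow_mem wN 3)

theorem Lt.oddCore (s : Lt a) (h : Cfsg.pPrimeCore 3 G = ⊥) : Cfsg.oddCore G = ⊥ := by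
  by_contra hO
  have : (Cfsg.oddCore G).Normal := (inferInstance : (pPrimeCore 2 G).Normal)
  obtain ⟨p, hp, A, -, hN, hA, hc, hP⟩ := GT.HT.exists_normal_comm_pGroup_le (Cfsg.oddCore G)
    (S0205.result GT.odd_card_oddCore) hO
  have := Fact.mk hp
  obtain rfl : p = 3 := by
    by_contra h3
    refine hA (le_bot_iff.1 (h ▸ GT.le_pPrimeCore ?_))
    obtain ⟨n, hn⟩ := hP.exists_card_eq
    rw [hn]
    exact ((Nat.coprime_primes hp Nat.prime_three).2 h3).pow_left n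
  obtain ⟨z, hz, z1⟩ := (A ⊓ centralizer (Q3 a : Set G)).bot_or_exists_ne_one.resolve_left
    (inf_centralizer_ne_bot_of_isPGroup hP s.esz.isPGroup le_normalizer_of_normal hA)
  have aA : a ∈ A := zpowers_le.2 hz.1 (by rw [s.esz.zpowers_eq_of_mem (s.cen hz.2) z1]; exact mem_zpowers a)
  have yA : s.y ∈ A := by
    obtain ⟨c, hc⟩ := isConj_iff.1 s.yc
    rw [← hc]; exact hN.conj_mem a aA c
  obtain ⟨m, hm, hne⟩ := v0_nc
  obtain ⟨g, hg, rfl⟩ := s.exists_m (s.sub hm)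
  have e := (s.commute_iff s.yQ (s.cjQ hg s.yQ)).1
    (congrArg Subtype.val (hc.is_comm.comm (⟨s.y, yA⟩ : A) ⟨_, hN.conj_mem _ yA g⟩))
  rw [s.m_act hg s.yQ] at e
  rcases s.yv with k | k
  · exact hne (k ▸ e)
  · rw [k, Matrix.mulVec_neg, ← neg_one_smul (ZMod 3) v0, ← neg_one_smul (ZMod 3) (_ *ᵥ v0), sf8_smul_left,
      sf8_smul_right] at e
    exact hne (by simpa using e)

end Cfsg.Agent.B3
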