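import Mathlib
import Cfsg.Agent.B3.Mod

/-! The centraliser of τ0 acts monomially on three planes. -/

set_option autoImplicit false

namespace Cfsg.Agent.B3

open Cfsg.Agent.Spor Cfsg.Agent.Rec Cfsg.Agent.T3 Cfsg.Agent.GT.PG Subgroup Matrix
open scoped commutatorElement

universe u

/-- Symplectic elements of the normaliser of `R0` commuting with `τ0`. -/
noncomputable def Cτ : Subgroup Γ := normalizer (R0 : Set Γ) ⊓ Sp8 ⊓ centralizer {τ0}

/-- The action on the planes `1, 2, 3`. -/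
structure Mon where
  pm : Γ → Equiv.Perm (Fin 3)
  mt : Γ → Fin 3 → LB.S3
  act : ∀ m ∈ Cτ, ∀ (v : W8) (i : Fin 3),
    (fun s => ((m : M8) *ᵥ v) ((pm m i).succ, s)) = (mt m i).1.mulVec fun s => v (i.succ, s)
  pm_mul : ∀ m ∈ Cτ, ∀ n ∈ Cτ, pm (m * n) = pm m * pm n
  mt_mul : ∀ m ∈ Cτ, ∀ n ∈ Cτ, ∀ i, mt (m * n) i = mt m (pm n i) * mt n i
  ker : ∀ m ∈ Cτ, (pm m = 1 ∧ ∀ i, mt m i = 1) ↔ m = 1 ∨ m = τ0
  bd_eq : ∀ x, bd x ∈ Cτ → pm (bd x) = 1 ∧ ∀ i, mt (bd x) i = x i.succ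
  w_ne : pm (u1 * u2) ≠ 1

namespace Mn

/-- The four involutions. -/
def τ (i : Fin 4) : Γ := bd (Pi.mulSingle i (-1))

theorem τ_eq : τ0 = τ 0 ∧ τ1 = τ 1 ∧ τ2 = τ 2 ∧ τ3 = τ 3 := τ_bd

theorem τ_val : ∀ i, (τ i : M8) = diagonal fun p => if p.1 = i then -1 else 1 := by decide +kernel

theorem τ_inj : Function.Injective τ := fun i j e => by
  have := congrArg Units.val e
  rw [τ_val, τ_val] at this
  revert i j; decide +kernel

theorem zero_of {m : Γ} {i k : Fin 4} (e : m * τ i = τ k * m) {p q : I8} (h : ¬ (q.1 = i ↔ p.1 = k)) :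
    (m : M8) p q = 0 := by
  have := congrArg (fun g : Γ => (g : M8) p q) e
  simp only [Units.val_mul, τ_val, mul_diagonal, diagonal_mul] at this
  generalize (m : M8) p q = c at this
  split_ifs at this with h1 h2 h2
  · exact (h (iff_of_true h1 h2)).elim
  · revert c; decide
  · revert c; decide
  · exact (h (iff_of_false h1 h2)).elim

theorem det_blk {m : Γ} (hm : m ∈ Sp8) {p q : Fin 4} (h : ∀ p', p' ≠ p → ∀ s r, (m : M8) (p', s) (q, r) = 0) :
    (Matrix.of fun s r => (m : M8) (p, s) (q, r)).det = 1 := by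
  have := hm (Pi.single (q, 0) 1) (Pi.single (q, 1) 1)
  rw [sf8, sf8, Finset.sum_eq_single p (fun p' _ e => by simp [h p' e]) (by simp),
    Finset.sum_eq_single q (fun p' _ e => by simp [e]) (by simp)] at this
  simpa [det_fin_two, mul_comm] using this

/-- The specification of the monomial action. -/
def Act (m : Γ) (d : Equiv.Perm (Fin 3) × (Fin 3 → LB.S3)) : Prop := ∀ (v : W8) (i : Fin 3),
  (fun s => ((m : M8) *ᵥ v) ((d.1 i).succ, s)) = (d.2 i).1.mulVec fun s => v (i.succ, s)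

theorem Act.unique {m : Γ} {d d' : Equiv.Perm (Fin 3) × (Fin 3 → LB.S3)} (h : Act m d) (h' : Act m d') :
    d = d' := by
  have key : ∀ i j, d.1 i = d'.1 j → ∀ u, (d.2 i).1 *ᵥ u = (d'.2 j).1 *ᵥ if j = i then u else 0 :=
    fun i j e u => by
      have h1 := h (fun p => if p.1 = i.succ then u p.2 else 0) i
      rw [e, h'] at h1
      by_cases e' : j = i <;> simpa [e'] using h1.symm
  have h1 : d.1 = d'.1 := Equiv.ext fun i => by
    obtain ⟨j, hj⟩ := d'.1.surjective (d.1 i)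
    by_contra e
    have h2 := congrArg ((d.2 i)⁻¹.1 *ᵥ ·) (key i j hj.symm 1)
    simp only [if_neg fun e' : j = i => e (e' ▸ hj).symm, mulVec_zero, mulVec_mulVec,
      ← Matrix.SpecialLinearGroup.coe_mul, inv_mul_cancel, Matrix.SpecialLinearGroup.coe_one, one_mulVec] at h2
    exact one_ne_zero h2
  exact Prod.ext h1 (funext fun i => Subtype.ext (ext_iff_mulVec.2 fun u => by
    simpa using key i i (by rw [h1]) u))

theorem Act.mul {m n : Γ} {d e : Equiv.Perm (Fin 3) × (Fin 3 → LB.S3)} (h : Act m d) (h' : Act n e) :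
    Act (m * n) (d.1 * e.1, fun i => d.2 (e.1 i) * e.2 i) := fun v i => by
  rw [Units.val_mul, ← mulVec_mulVec, Matrix.SpecialLinearGroup.coe_mul, ← mulVec_mulVec, ← h' v i]
  exact h _ _

theorem act_bd (x : Fin 4 → LB.S3) : Act (bd x) (1, fun i => x i.succ) := fun v i => by
  funext s
  simp [bd_val, bdm, mulVec, dotProduct, Fintype.sum_prod_type]

theorem act_w : Act (u1 * u2) (finRotate 3, 1) := fun v i => by
  funext s
  rw [w_val]
  fin_cases i <;> fin_cases s <;> simp [kr, mulVec, dotProduct, Fintype.sum_prod_type, Fin.sum_univ_four]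

theorem exists_act {m : Γ} (hm : m ∈ Cτ) : ∃ d, Act m d := by
  have h0 : m * τ0 * m⁻¹ = τ0 := mul_inv_eq_iff_eq_mul.2 (mem_centralizer_singleton_iff.1 hm.2)
  obtain ⟨t0, t1, t2, t3⟩ := τ_eq
  have h1 : ∀ r ∈ R0, ∃ k, m * (r * τ0 * r⁻¹) = τ k * m := fun r hr => by
    have e : m * (r * τ0 * r⁻¹) = m * r * m⁻¹ * (m * τ0 * m⁻¹) * (m * r * m⁻¹)⁻¹ * m := by group
    rw [e, h0]
    rcases τ_cj.1 _ ((mem_normalizer_iff.1 hm.1.1 r).1 hr) with h | h | h | h <;> rw [h]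
    exacts [⟨0, by rw [t0]⟩, ⟨1, by rw [t1]⟩, ⟨2, by rw [t2]⟩, ⟨3, by rw [t3]⟩]
  have hI : gI1 ∈ R0 := mem_clos (by simp)
  have hJ : gJ1 ∈ R0 := mem_clos (by simp)
  have h2 : ∀ i, ∃ k, m * τ i = τ k * m ∧ (i = 0 → k = 0) := fun i => by
    fin_cases i
    · exact ⟨0, t0 ▸ mul_inv_eq_iff_eq_mul.1 h0, fun _ => rfl⟩
    · exact (h1 _ hI).imp fun k hk => ⟨by rwa [τ_cj.2.1, t1] at hk, by simp⟩
    · exact (h1 _ hJ).imp fun k hk => ⟨by rwa [τ_cj.2.2.1, t2] at hk, by simp⟩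
    · exact (h1 _ (mul_mem hI hJ)).imp fun k hk => ⟨by rwa [τ_cj.2.2.2, t3] at hk, by simp⟩
  choose σ hσ σ0 using h2
  have inj : Function.Injective σ := fun i j e => τ_inj (mul_left_cancel (a := m) (by rw [hσ, hσ, e]))
  obtain ⟨π, hπ⟩ := (by decide +kernel : ∀ σ : Fin 4 → Fin 4, Function.Injective σ → σ 0 = 0 →
    ∃ π : Equiv.Perm (Fin 3), ∀ i, σ i.succ = (π i).succ) σ inj (σ0 0 rfl)
  refine ⟨(π, fun i => ⟨_, det_blk hm.1.2 (p := σ i.succ) (q := i.succ) fun p e s r =>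
    zero_of (hσ i.succ) (by simpa using e)⟩), fun v i => funext fun s => ?_⟩
  simp only [← hπ, mulVec, dotProduct, Fintype.sum_prod_type, of_apply]
  exact Finset.sum_eq_single i.succ (fun q _ e => Finset.sum_eq_zero fun r _ => by
    rw [zero_of (hσ i.succ) (by simpa using e), zero_mul]) (by simp)

theorem ker {m : Γ} (hm : m ∈ Cτ) (h : Act m 1) : m = 1 ∨ m = τ0 := by
  have h0 : m * τ 0 = τ 0 * m := τ_eq.1 ▸ mem_centralizer_singleton_iff.1 hm.2
  obtain ⟨x, hx⟩ : ∃ x, m = bd (Pi.mulSingle 0 x) := by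
    obtain ⟨x, hx⟩ : ∃ x : LB.S3, ∀ s r, x.1 s r = (m : M8) (0, s) (0, r) :=
      ⟨⟨_, det_blk hm.1.2 (p := 0) (q := 0) fun p e s r => zero_of h0 (by simpa using e)⟩, fun _ _ => rfl⟩
    refine ⟨x, ?_⟩
    ext ⟨p, s⟩ ⟨q, r⟩
    induction p using Fin.cases with
    | zero =>
      by_cases e : 0 = q
      · subst e; simp [bd_val, bdm, hx]
      · rw [zero_of h0 (by simpa using Ne.symm e)]; simp [bd_val, bdm, e]
    | succ i =>
      have := congrFun (h (Pi.single (q, r) 1) i) s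
      simp only [mulVec_single_one, Prod.fst_one, Equiv.Perm.one_apply, col_apply, Prod.snd_one, Pi.one_apply,
        Matrix.SpecialLinearGroup.coe_one, one_mulVec] at this
      simp [this, bd_val, bdm, Pi.single_apply, one_apply, ite_and]
  rcases τ_ker x (hx ▸ hm.1.1) with rfl | rfl
  · exact .inl (by simpa using hx)
  · exact .inr (hx.trans τ_bd.1.symm)

end Mn

open Mn

theorem exists_mon : Nonempty Mon := by
  classical
  obtain ⟨f, hf⟩ : ∃ f : Γ → Equiv.Perm (Fin 3) × (Fin 3 → LB.S3), ∀ m d, Act m d → f m = d :=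
    ⟨fun m => if h : ∃ d, Act m d then h.choose else 1, fun m d h => by
      simp only [dif_pos (Exists.intro d h)]; exact (Exists.choose_spec ⟨d, h⟩).unique h⟩
  have act : ∀ m ∈ Cτ, Act m (f m) := fun m hm => by
    obtain ⟨d, hd⟩ := exists_act hm
    rwa [hf m d hd]
  have b := fun x => hf _ _ (act_bd x)
  refine ⟨⟨fun m => (f m).1, fun m => (f m).2, act,
    fun m hm n hn => by rw [hf _ _ ((act m hm).mul (act n hn))],
    fun m hm n hn i => by rw [hf _ _ ((act m hm).mul (act n hn))],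
    fun m hm => ⟨fun h => Mn.ker hm ((Prod.ext h.1 (funext h.2) : f m = 1) ▸ act m hm), ?_⟩,
    fun x _ => by simp [b], by rw [hf _ _ act_w]; decide⟩⟩
  rintro (rfl | rfl)
  · rw [← map_one bd, b]; simp
  · simp [τ_bd.1, b]

/-- The fixed space of `τ0`. -/
theorem τ0_fix (v : W8) : (τ0 : M8) *ᵥ v = v ↔ ∀ s, v (0, s) = 0 := by
  rw [τ_eq.1, τ_val, funext_iff]
  have : ∀ c : ZMod 3, -c = c ↔ c = 0 := by decide
  simp [mulVec_diagonal, Fin.forall_fin_succ, this]

theorem sf8_eq {v w : W8} (h : ∀ s, v (0, s) = 0) :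
    sf8 v w = sf (fun i s => v (i.succ, s)) (fun i s => w (i.succ, s)) := by
  rw [sf8, sf, Fin.sum_univ_succ, h, h]; simp

end Cfsg.Agent.B3
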