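import Mathlib
import Cfsg.Agent.B3.Mon
import Cfsg.Agent.B3.FB
import Cfsg.Agent.T3.F0a

/-! The monomial action of the centraliser of `τ0`: normal 3-subgroups. -/

set_option autoImplicit false
set_option linter.unusedSectionVars false

namespace Cfsg.Agent.B3

open Cfsg.Agent.Spor Cfsg.Agent.Rec Cfsg.Agent.T3 Cfsg.Agent.GT.PG Subgroup Matrix
open scoped commutatorElement

universe u

namespace Mon

variable (M : Mon) {x y : Γ}

theorem kk_one : M.pm 1 = 1 ∧ ∀ i, M.mt 1 i = 1 := (M.ker 1 (one_mem _)).2 (.inl rfl)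

theorem kk_pm_inv (hx : x ∈ Cτ) : M.pm x⁻¹ = (M.pm x)⁻¹ := by
  rw [eq_inv_iff_mul_eq_one, ← M.pm_mul _ (inv_mem hx) _ hx, inv_mul_cancel, M.kk_one.1]

theorem kk_mt_inv (hx : x ∈ Cτ) (i : Fin 3) : M.mt x⁻¹ (M.pm x i) = (M.mt x i)⁻¹ := by
  rw [eq_inv_iff_mul_eq_one, ← M.mt_mul _ (inv_mem hx) _ hx, inv_mul_cancel, M.kk_one.2]

theorem kk_mul (hx : x ∈ Cτ) (hy : y ∈ Cτ) (e : M.pm y = 1) (i : Fin 3) : M.mt (x * y) i = M.mt x i * M.mt y i := by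
  rw [M.mt_mul _ hx _ hy, e]; rfl

theorem kk_inv (hx : x ∈ Cτ) (e : M.pm x = 1) (i : Fin 3) : M.mt x⁻¹ i = (M.mt x i)⁻¹ := by
  rw [← M.kk_mt_inv hx, e]; rfl

theorem kk_pm_pow (hx : x ∈ Cτ) (n : ℕ) : M.pm (x ^ n) = M.pm x ^ n := by
  induction n with
  | zero => rw [pow_zero, pow_zero, M.kk_one.1]
  | succ n ih => rw [pow_succ, M.pm_mul _ (pow_mem hx n) _ hx, ih, pow_succ]

theorem kk_pow (hx : x ∈ Cτ) (e : M.pm x = 1) (i : Fin 3) (n : ℕ) : M.mt (x ^ n) i = M.mt x i ^ n := by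
  induction n with
  | zero => rw [pow_zero, pow_zero, M.kk_one.2]
  | succ n ih => rw [pow_succ, M.kk_mul (pow_mem hx n) hx e, ih, pow_succ]

theorem kk_cm (hx : x ∈ Cτ) (hy : y ∈ Cτ) (e : M.pm y = 1) : M.pm (x * y * x⁻¹ * y⁻¹) = 1 ∧
    ∀ i, M.mt (x * y * x⁻¹ * y⁻¹) (M.pm x i) = M.mt x i * M.mt y i * (M.mt x i)⁻¹ * (M.mt y (M.pm x i))⁻¹ := by
  have e' : M.pm y⁻¹ = 1 := by rw [M.kk_pm_inv hy, e, inv_one]
  refine ⟨?_, fun i => ?_⟩
  · rw [M.pm_mul _ (mul_mem (mul_mem hx hy) (inv_mem hx)) _ (inv_mem hy), M.pm_mul _ (mul_mem hx hy) _ (inv_mem hx),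
      M.pm_mul _ hx _ hy, e, e', M.kk_pm_inv hx, mul_one, mul_one, mul_inv_cancel]
  · rw [M.kk_mul (mul_mem (mul_mem hx hy) (inv_mem hx)) (inv_mem hy) e', M.kk_inv hy e,
      M.mt_mul _ (mul_mem hx hy) _ (inv_mem hx), M.kk_mt_inv hx, M.kk_pm_inv hx, ← Equiv.Perm.mul_apply, inv_mul_cancel,
      Equiv.Perm.one_apply, M.kk_mul hx hy e]

theorem kk_four (hx : x ∈ Cτ) (e : M.pm x = 1) (h : ∀ i, M.mt x i ^ 4 = 1) : x ^ 4 = 1 ∨ x ^ 4 = τ0 :=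
  (M.ker _ (pow_mem hx 4)).1 ⟨by rw [M.kk_pm_pow hx, e, one_pow], fun i => by rw [M.kk_pow hx e, h]⟩

include M in
/-- An element fixing the three planes pointwise. -/
theorem kk_fix (hx : x ∈ Cτ) (h : ∀ v : W8, (∀ s, v (0, s) = 0) → (x : M8) *ᵥ v = v) : x = 1 ∨ x = τ0 := by
  have key : ∀ (w : W6) (i : Fin 3), w (M.pm x i) = (M.mt x i).1.mulVec (w i) := fun w i => by
    have e := M.act x hx (fun p => Fin.cases 0 (fun j => w j p.2) p.1) i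
    rwa [h _ fun _ => rfl] at e
  have hp : M.pm x = 1 := Equiv.ext fun i => by
    by_contra hi
    have e := key (Pi.single i ![1, 0]) i
    rw [Pi.single_eq_of_ne (show M.pm x i ≠ i from hi), Pi.single_eq_same] at e
    have e2 := congrArg (M.mt x i)⁻¹.1.mulVec e
    rw [← F3.b_mv, inv_mul_cancel, F3.b_mv1, mulVec_zero] at e2
    exact absurd (congrFun e2 0) (by decide)
  refine (M.ker x hx).1 ⟨hp, fun i => s3_ext _ _ fun v => ?_⟩
  have e := key (Pi.single i v) i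
  rw [hp, Equiv.Perm.one_apply, Pi.single_eq_same] at e
  rw [← e, F3.b_mv1]

end Mon

theorem kk_τ_sq : τ0 * τ0 = 1 := by
  rw [τ_bd.1, ← map_mul, ← Pi.mulSingle_mul, neg_mul_neg, one_mul, Pi.mulSingle_one, map_one]

theorem kk_bd_comm (x : Fin 4 → LB.S3) : bd x * τ0 = τ0 * bd x := by
  rw [τ_bd.1, ← map_mul, ← map_mul]
  congr 1
  funext i
  by_cases h : i = 0
  · subst h
    simp
  · simp [Pi.mulSingle_eq_of_ne h]

theorem kk_τi (i : Fin 4) : bd (Pi.mulSingle i (-1)) ∈ D0 := by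
  obtain ⟨e0, e1, e2, e3⟩ := τ_bd
  obtain ⟨h0, h1, h2, h3⟩ := τ_mem
  fin_cases i
  exacts [e0 ▸ h0, e1 ▸ h1, e2 ▸ h2, e3 ▸ h3]

theorem kk_C3_le : C3 ≤ Cτ := fun _ hx =>
  ⟨⟨(X0_le_NU (C3_le hx).1).1, X0_le_Sp (C3_le hx).1⟩, (C3_le hx).2⟩

theorem kk_odd {x : Γ} (h4 : x ^ 4 = 1 ∨ x ^ 4 = τ0) {n : ℕ} (h3 : x ^ 3 ^ n = 1 ∨ x ^ 3 ^ n = τ0) :
    x = 1 ∨ x = τ0 := by
  have h8 : x ^ 2 ^ 3 = 1 := by
    rw [show 2 ^ 3 = 4 + 4 from rfl, pow_add]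
    rcases h4 with e | e <;> rw [e]
    exacts [one_mul _, kk_τ_sq]
  have h : x ∈ zpowers (x ^ 3 ^ n) := mem_zpowers_pow_iff.2
    (Nat.Coprime.coprime_dvd_right (orderOf_dvd_of_pow_eq_one h8) (Nat.Coprime.pow _ _ (by norm_num)))
  rcases h3 with e | e <;> rw [e] at h
  · exact .inl (by simpa using h)
  · obtain ⟨k, rfl⟩ := h
    rcases Int.even_or_odd' k with ⟨j, rfl | rfl⟩
    · exact .inl (by simp only [_root_.zpow_mul, zpow_ofNat, pow_two, kk_τ_sq, _root_.one_zpow])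
    · exact .inr (by simp only [_root_.zpow_add, _root_.zpow_mul, zpow_ofNat, pow_two, kk_τ_sq, _root_.one_zpow,
        one_mul, pow_one])

/-- A subgroup of `Cτ` normalised by `D0` which is a 3-group modulo `τ0`. -/
theorem kk_core (M : Mon) {O : Subgroup Γ} (hO : O ≤ Cτ) (hn : ∀ x ∈ O, ∀ y ∈ D0, y * x * y⁻¹ ∈ O)
    (h3 : ∀ x ∈ O, ∃ n, x ^ 3 ^ n = 1 ∨ x ^ 3 ^ n = τ0) {x : Γ} (hx : x ∈ O) : x = 1 ∨ x = τ0 := by
  have A : ∀ c ∈ O, M.pm c = 1 → (∀ i, M.mt c i ^ 4 = 1) → c = 1 ∨ c = τ0 := fun c hc e h =>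
    (h3 c hc).elim fun _ h' => kk_odd (M.kk_four (hO hc) e h) h'
  have B : ∀ z, bd z ∈ D0 → (∀ i, (M.mt x i * z i.succ * (M.mt x i)⁻¹ * (z (M.pm x i).succ)⁻¹) ^ 4 = 1) →
      ∀ i, M.mt x i * z i.succ * (M.mt x i)⁻¹ * (z (M.pm x i).succ)⁻¹ = 1 := fun z hz h i => by
    have hz' := kk_C3_le (D0_le_C3 hz)
    obtain ⟨b1, b2⟩ := M.bd_eq z hz'
    obtain ⟨c1, c2⟩ := M.kk_cm (hO hx) hz' b1
    simp only [b2] at c2
    have hc : x * bd z * x⁻¹ * (bd z)⁻¹ ∈ O := by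
      simpa only [mul_assoc] using mul_mem hx (hn _ (inv_mem hx) _ hz)
    rw [← c2]
    exact ((M.ker _ (hO hc)).2 (A _ hc c1 fun j => by
      rw [← (M.pm x).apply_symm_apply j, c2, h])).2 _
  have hp : M.pm x = 1 := Equiv.ext fun i => by
    have hs : ∀ j : Fin 4, Pi.mulSingle (M := fun _ => LB.S3) i.succ (-1) j = 1 ∨
        Pi.mulSingle (M := fun _ => LB.S3) i.succ (-1) j = -1 := fun j => by
      by_cases h : j = i.succ
      · exact .inr (by rw [h, Pi.mulSingle_eq_same])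
      · exact .inl (Pi.mulSingle_eq_of_ne h _)
    have e := B _ (kk_τi i.succ) (fun j => by
      rcases hs j.succ with e | e <;> rcases hs (M.pm x j).succ with e' | e' <;> rw [e, e'] <;> simp <;> decide) i
    by_contra hi
    rw [Pi.mulSingle_eq_same, Pi.mulSingle_eq_of_ne (show (M.pm x i).succ ≠ i.succ from fun h => hi (Fin.succ_injective _ h))] at e
    simp only [mul_neg, mul_one, neg_mul, mul_inv_cancel, inv_one] at e
    exact absurd e (by decide)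
  refine A x hx hp fun i => ?_
  refine (by decide +kernel : ∀ g : LB.S3, (∀ d : LB.S3, d ^ 4 = 1 → g * d * g⁻¹ * d⁻¹ = 1) → g ^ 4 = 1) _
    fun d hd => B _ (diag_mem d hd) (fun j => ?_) i
  have e : ∀ g : LB.S3, chi g⁻¹ = - chi g := fun g => by
    rw [eq_neg_iff_add_eq_zero, ← chi_mul, inv_mul_cancel, F3.b_chi_one]
  rw [← chi_eq_zero, chi_mul, chi_mul, chi_mul, e, e]
  ring

/-- The elements of `C3` acting through `Q₈³`. -/
theorem kk_D0 (M : Mon) {x : Γ} (hx : x ∈ C3) : (M.pm x = 1 ∧ ∀ i, M.mt x i ^ 4 = 1) ↔ x ∈ D0 := by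
  have : Fact (Nat.Prime 2) := ⟨Nat.prime_two⟩
  let T : Subgroup Γ :=
    { carrier := {x | x ∈ C3 ∧ M.pm x = 1 ∧ ∀ i, M.mt x i ^ 4 = 1}
      one_mem' := ⟨one_mem _, M.kk_one.1, fun i => by rw [M.kk_one.2, one_pow]⟩
      mul_mem' := fun {x y} hx hy => ⟨mul_mem hx.1 hy.1,
        by rw [M.pm_mul _ (kk_C3_le hx.1) _ (kk_C3_le hy.1), hx.2.1, hy.2.1, one_mul], fun i => by
          rw [M.kk_mul (kk_C3_le hx.1) (kk_C3_le hy.1) hy.2.1, ← chi_eq_zero, chi_mul, (chi_eq_zero _).2 (hx.2.2 i),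
            (chi_eq_zero _).2 (hy.2.2 i), add_zero]⟩
      inv_mem' := fun {x} hx => ⟨inv_mem hx.1, by rw [M.kk_pm_inv (kk_C3_le hx.1), hx.2.1, inv_one], fun i => by
        rw [M.kk_inv (kk_C3_le hx.1) hx.2.1, inv_pow, hx.2.2, inv_one]⟩ }
  have h1 : D0 ≤ T := fun y hy => by
    obtain ⟨z, hz, rfl⟩ := D0_bd y hy
    obtain ⟨b1, b2⟩ := M.bd_eq z (kk_C3_le (D0_le_C3 hy))
    exact ⟨D0_le_C3 hy, b1, fun i => by rw [b2, hz]⟩
  have h2 : IsPGroup 2 T := fun y => ⟨3, Subtype.ext (by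
    rw [coe_pow, show 2 ^ 3 = 4 + 4 from rfl, pow_add]
    rcases M.kk_four (kk_C3_le y.2.1) y.2.2.1 y.2.2.2 with e | e <;> rw [e]
    exacts [one_mul _, kk_τ_sq])⟩
  obtain ⟨n, hn⟩ := IsPGroup.iff_card.1 h2
  have h3 := card_dvd_of_le (show T ≤ C3 from fun _ h => h.1)
  rw [card_C3, hn, show 2304 = 2 ^ 8 * 9 from rfl] at h3
  have h4 := Nat.le_of_dvd (by norm_num) (Nat.Coprime.dvd_of_dvd_mul_right (Nat.Coprime.pow_left n (by norm_num)) h3)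
  have h5 : D0 = T := eq_of_le_of_card_ge h1 (by rw [hn, card_D0]; exact h4)
  rw [h5]
  exact ⟨fun h => ⟨hx, h⟩, fun h => h.2⟩

variable {G : Type u} [Group G] [Finite G] {a : G}

namespace Lt

variable (s : Lt a)

theorem kk_mem {g : G} (ha : g * a = a * g) (ht : g * s.t = s.t * g) : s.m g ∈ Cτ :=
  ⟨⟨s.nrm (s.m_mem ha), s.range_le_Sp (s.m_mem ha)⟩, mem_cen.2 (by
    rw [← s.tm, ← s.m_mul ha s.ta, ht, s.m_mul s.ta ha])⟩

theorem kk_tQ : s.t ∉ Q3 a := fun h => s.t_ne (by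
  have e := s.cube _ h
  rwa [pow_succ, pow_two, s.t2, one_mul] at e)

theorem kk_lift {x : Γ} (hx : x ∈ s.mt.range) (h : x * τ0 = τ0 * x) :
    ∃ g, g * a = a * g ∧ g * s.t = s.t * g ∧ s.m g = x :=
  s.lift s.t2 s.ta hx (by rw [s.tm]; exact h)

theorem kk_lift3 {x : Γ} (hx : x ∈ C3) : ∃ g, g * a = a * g ∧ g * s.t = s.t * g ∧ s.m g = x :=
  s.kk_lift (s.sub (C3_le hx).1) (mem_cen.1 (C3_le hx).2)

theorem kk_Qt {q : G} (hq : q ∈ Q3 a) : q * s.t = s.t * q ↔ ∀ r, s.vec q (0, r) = 0 := by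
  rw [← τ0_fix, ← s.tm, ← s.m_act s.ta hq]
  refine ⟨fun e => by rw [← e, mul_inv_cancel_right], fun e => ?_⟩
  have hc := (s.vec_eq (s.cjQ s.ta hq) hq).1 e
  have h1 : Commute s.t (s.t * q * s.t⁻¹ * q⁻¹) := by
    obtain ⟨k, hk⟩ := hc
    rw [← hk]
    exact Commute.zpow_right s.ta k
  have h3 := s.cube _ (s.esz.zpowers_le hc)
  generalize hd : s.t * q * s.t⁻¹ * q⁻¹ = c at h1 h3
  have e1 : s.t * q * s.t⁻¹ = c * q := by rw [← hd, inv_mul_cancel_right]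
  have e2 : q = c * c * q :=
    calc q = s.t * s.t * q * (s.t * s.t)⁻¹ := by rw [s.t2]; group
      _ = s.t * (c * q) * s.t⁻¹ := by rw [← e1]; group
      _ = c * (s.t * q * s.t⁻¹) := by rw [← mul_assoc, h1.eq]; group
      _ = _ := by rw [e1, mul_assoc]
  rw [pow_succ, pow_two, right_eq_mul.1 e2, one_mul] at h3
  rw [h3, one_mul, mul_inv_eq_iff_eq_mul] at e1
  exact e1.symm

theorem kk_surj (w : W6) : ∃ q ∈ Q3 a, q * s.t = s.t * q ∧ (fun i r => s.vec q (i.succ, r)) = w := by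
  obtain ⟨q, hq, e⟩ := s.vec_surj fun p => Fin.cases 0 (fun j => w j p.2) p.1
  exact ⟨q, hq, (s.kk_Qt hq).2 fun r => by rw [e]; rfl, by rw [e]; rfl⟩

theorem kk_zero {q : G} (hq : q ∈ Q3 a) (ht : q * s.t = s.t * q)
    (h : (fun i r => s.vec q (Fin.succ i, r) : W6) = 0) : q ∈ zpowers a :=
  (s.vec_eq_zero q hq).1 (funext fun ⟨p, r⟩ => by
    refine Fin.cases ?_ (fun i => ?_) p
    exacts [(s.kk_Qt hq).1 ht r, congrFun (congrFun h i) r])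

theorem kk_card : Nat.card (centralizer {s.t} ⊓ Q3 a : Subgroup G) = 3 ^ 7 := by
  have h : s.vec '' (centralizer {s.t} ⊓ Q3 a : Subgroup G) =
      Set.range fun w : W6 => (fun p => Fin.cases 0 (fun j => w j p.2) p.1 : W8) := by
    ext v
    constructor
    · rintro ⟨q, hq, rfl⟩
      refine ⟨fun i r => s.vec q (i.succ, r), funext fun ⟨p, r⟩ => ?_⟩
      refine Fin.cases ?_ (fun i => rfl) p
      exact ((s.kk_Qt hq.2).1 (mem_cen.1 hq.1) r).symm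
    · rintro ⟨w, rfl⟩
      obtain ⟨q, hq, e⟩ := s.vec_surj fun p => Fin.cases 0 (fun j => w j p.2) p.1
      exact ⟨q, ⟨mem_cen.2 ((s.kk_Qt hq).2 fun r => by rw [e]; rfl), hq⟩, e⟩
  rw [s.card_eq inf_le_right ⟨mem_cen.2 s.ta.symm, s.esz.z_mem⟩, h, Set.ncard_range_of_injective fun w w' e =>
    funext fun i => funext fun r => congrFun e (i.succ, r)]
  simp

end Lt

end Cfsg.Agent.B3
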