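import Mathlib
import Cfsg.Agent.B3.Defs
import Cfsg.Agent.T3.FKa

/-! From `P3` to `F3` and to the hypotheses of S3337 (see `stubs/Cfsg/Agent/B3/PLAN.md`). -/

set_option autoImplicit false
set_option linter.unusedSectionVars false
set_option linter.style.haveILetI false
set_option synthInstance.maxSize 100000
set_option maxRecDepth 100000

namespace Cfsg.Agent.B3

open Cfsg.Agent.Spor Cfsg.Agent.Rec Cfsg.Agent.T3 Cfsg.Agent.GT.PG Subgroup Matrix
open scoped commutatorElement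

universe u

section

variable {G : Type u} [Group G] {a : G}

theorem p3_cm {g h : G} (hg : g * a = a * g) (hh : h * a = a * h) : g * h * a = a * (g * h) :=
  (Commute.mul_left (a := g) (b := h) (c := a) hg hh)

theorem p3_ci {g : G} (hg : g * a = a * g) : g⁻¹ * a = a * g⁻¹ :=
  (Commute.inv_left (a := g) (b := a) hg)

theorem p3_cp {g : G} (hg : g * a = a * g) (n : ℕ) : g ^ n * a = a * g ^ n :=
  (Commute.pow_left (a := g) (b := a) hg n)

theorem p3_c1 : (1 : G) * a = a * 1 := by rw [one_mul, mul_one]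

theorem p3_four {x y : LB.S3} (hx : x ^ 4 = 1) (hy : y ^ 4 = 1) : (x * y) ^ 4 = 1 := by
  rw [← chi_eq_zero] at hx hy ⊢
  rw [chi_mul, hx, hy, add_zero]

theorem p3_twelve : ∀ m : LB.S3, (m ^ 4) ^ 3 = 1 := by decide +kernel

theorem p3_six : ∀ π : Equiv.Perm (Fin 3), (π ^ 2) ^ 3 = 1 := by decide +kernel

theorem p3_perm : ∀ π ρ : Equiv.Perm (Fin 3), π ^ 2 = 1 → ρ ≠ 1 → ρ ^ 3 = 1 → (π * ρ * π⁻¹ * ρ⁻¹) ^ 2 = 1 → π = 1 := by
  decide +kernel

theorem p3_cop {X : Type*} [Group X] {x : X} {k : ℕ} (h3 : x ^ 3 = 1) (h2 : x ^ 2 ^ k = 1) : x = 1 := by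
  have h : orderOf x ∣ Nat.gcd 3 (2 ^ k) :=
    Nat.dvd_gcd (orderOf_dvd_of_pow_eq_one h3) (orderOf_dvd_of_pow_eq_one h2)
  have c : Nat.gcd 3 (2 ^ k) = 1 := Nat.Coprime.pow_right k (by decide)
  rwa [c, Nat.dvd_one, orderOf_eq_one_iff] at h

theorem p3_range {A B C : Type*} [Group A] [Group B] [Group C] (φ : A →* B) (ψ : A →* C) (h : φ.ker = ψ.ker) :
    Nonempty (φ.range ≃* ψ.range) :=
  ⟨(QuotientGroup.quotientKerEquivRange φ).symm.trans
    ((QuotientGroup.quotientMulEquivOfEq h).trans (QuotientGroup.quotientKerEquivRange ψ))⟩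

theorem p3_Qa {q : G} (hq : q ∈ Q3 a) : q * a = a * q :=
  mem_centralizer_singleton_iff.1 (map_subtype_le _ hq)

theorem P3.pm_one (P : P3 a) : P.pm 1 = 1 := ((P.ker 1 p3_c1).1 (one_mem _)).1

theorem P3.mt_one (P : P3 a) (i : Fin 3) : P.mt 1 i = 1 := ((P.ker 1 p3_c1).1 (one_mem _)).2 i

theorem P3.pm_Q (P : P3 a) {q : G} (hq : q ∈ Q3 a) : P.pm q = 1 := ((P.ker q (p3_Qa hq)).1 hq).1

theorem P3.mt_Q (P : P3 a) {q : G} (hq : q ∈ Q3 a) (i : Fin 3) : P.mt q i = 1 := ((P.ker q (p3_Qa hq)).1 hq).2 i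

theorem P3.pm_inv (P : P3 a) {g : G} (hg : g * a = a * g) : P.pm g⁻¹ = (P.pm g)⁻¹ := by
  have h := P.pm_mul g⁻¹ g (p3_ci hg) hg
  rw [inv_mul_cancel, P.pm_one] at h
  exact eq_inv_of_mul_eq_one_left h.symm

theorem P3.mt_inv (P : P3 a) {g : G} (hg : g * a = a * g) (i : Fin 3) : P.mt g⁻¹ (P.pm g i) = (P.mt g i)⁻¹ := by
  have h := P.mt_mul g⁻¹ g (p3_ci hg) hg i
  rw [inv_mul_cancel, P.mt_one] at h
  exact eq_inv_of_mul_eq_one_left h.symm

theorem P3.pm_pow (P : P3 a) {g : G} (hg : g * a = a * g) (n : ℕ) : P.pm (g ^ n) = P.pm g ^ n := by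
  induction n with
  | zero => rw [pow_zero, pow_zero, P.pm_one]
  | succ n ih => rw [pow_succ, P.pm_mul _ _ (p3_cp hg n) hg, ih, pow_succ]

theorem P3.mt_pow (P : P3 a) {g : G} (hg : g * a = a * g) (h1 : P.pm g = 1) (n : ℕ) (i : Fin 3) :
    P.mt (g ^ n) i = P.mt g i ^ n := by
  induction n with
  | zero => rw [pow_zero, pow_zero, P.mt_one]
  | succ n ih => rw [pow_succ, P.mt_mul _ _ (p3_cp hg n) hg, h1, Equiv.Perm.one_apply, ih, pow_succ]

end

variable {G : Type u} [Group G] [Finite G] {a : G}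

/-- The preimage of `Q₈³`. -/
def P3.T (P : P3 a) : Subgroup G where
  carrier := {g | g * a = a * g ∧ P.pm g = 1 ∧ ∀ i, P.mt g i ^ 4 = 1}
  one_mem' := ⟨p3_c1, P.pm_one, fun i => by rw [P.mt_one, one_pow]⟩
  mul_mem' := fun {g h} hg hh => ⟨p3_cm hg.1 hh.1, by rw [P.pm_mul g h hg.1 hh.1, hg.2.1, hh.2.1, one_mul], fun i => by
    rw [P.mt_mul g h hg.1 hh.1]; exact p3_four (hg.2.2 _) (hh.2.2 _)⟩
  inv_mem' := fun {g} hg => ⟨p3_ci hg.1, by rw [P.pm_inv hg.1, hg.2.1, inv_one], fun i => by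
    have h := P.mt_inv hg.1 i
    rw [hg.2.1, Equiv.Perm.one_apply] at h
    rw [h, inv_pow, hg.2.2, inv_one]⟩

theorem P3.mem_T (P : P3 a) {g : G} : g ∈ P.T ↔ g * a = a * g ∧ P.pm g = 1 ∧ ∀ i, P.mt g i ^ 4 = 1 := Iff.rfl

theorem P3.Q_le_T (P : P3 a) : Q3 a ≤ P.T := fun q hq =>
  ⟨p3_Qa hq, P.pm_Q hq, fun i => by rw [P.mt_Q hq, one_pow]⟩

theorem P3.T_le (P : P3 a) : P.T ≤ centralizer {a} := fun _ hg => mem_centralizer_singleton_iff.2 hg.1

theorem P3.T_conj (P : P3 a) {g h : G} (hh : h * a = a * h) (hg : g ∈ P.T) : h * g * h⁻¹ ∈ P.T := by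
  have c1 := p3_cm hh hg.1
  refine ⟨p3_cm c1 (p3_ci hh), ?_, fun i => ?_⟩
  · rw [P.pm_mul _ _ c1 (p3_ci hh), P.pm_mul _ _ hh hg.1, hg.2.1, mul_one, P.pm_inv hh, mul_inv_cancel]
  · have e := P.mt_inv (p3_ci hh) i
    rw [inv_inv] at e
    rw [P.mt_mul _ _ c1 (p3_ci hh), P.mt_mul _ _ hh hg.1, hg.2.1, Equiv.Perm.one_apply, e]
    have := conj_pow (i := 4) (a := (P.mt h⁻¹ i)⁻¹) (b := P.mt g (P.pm h⁻¹ i))
    rw [inv_inv] at this
    rw [this, hg.2.2, mul_one, inv_mul_cancel]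

theorem P3.T_four (P : P3 a) {g : G} (hg : g ∈ P.T) : g ^ 4 ∈ Q3 a :=
  (P.ker _ (p3_cp hg.1 4)).2 ⟨by rw [P.pm_pow hg.1, hg.2.1, one_pow], fun i => by rw [P.mt_pow hg.1 hg.2.1, hg.2.2]⟩

theorem P3.toF3 (P : P3 a) (h : Nat.card P.T = 3 ^ 7 * 128)
    (hr : ∀ i, ∃ g, g * a = a * g ∧ P.pm g = 1 ∧ ∀ j, P.mt g j = if j = i then -1 else 1) : Nonempty (F3 a) := by
  haveI : Fact (Nat.Prime 2) := ⟨Nat.prime_two⟩
  obtain ⟨S⟩ : Nonempty (Sylow 2 P.T) := inferInstance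
  have cS : Nat.card S = 128 := by
    rw [S.card_eq_multiplicity, h, show (3 ^ 7 * 128 : ℕ) = 2 ^ 7 * 3 ^ 7 by norm_num,
      Nat.factorization_mul (by norm_num) (by norm_num), Nat.factorization_pow, Nat.factorization_pow,
      Nat.Prime.factorization Nat.prime_two, Nat.Prime.factorization Nat.prime_three]
    simp
  set R : Subgroup G := (S : Subgroup P.T).map P.T.subtype with hR
  have cR : Nat.card R = 128 := by rw [hR, card_map_of_injective P.T.subtype_injective]; exact cS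
  have RT : R ≤ P.T := map_subtype_le _
  have sup : Q3 a ⊔ R = P.T := by
    refine eq_of_le_of_card_ge (sup_le P.Q_le_T RT) ?_
    rw [h]
    refine Nat.le_of_dvd Nat.card_pos (Nat.Coprime.mul_dvd_of_dvd_of_dvd (by norm_num) ?_ ?_)
    · rw [← P.card]; exact card_dvd_of_le le_sup_left
    · rw [← cR]; exact card_dvd_of_le le_sup_right
  have RN : R ≤ normalizer (Q3 a : Set G) := fun g hg => norm_Q3 (RT hg).1
  have dis : ∀ g ∈ R, g ∈ Q3 a → g = 1 := fun g hg hq => by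
    refine p3_cop (k := 7) (P.cube g hq) ?_
    have := pow_card_eq_one' (x := (⟨g, hg⟩ : R))
    rw [cR] at this
    exact congrArg Subtype.val this
  have key : ∀ i, ∃ r ∈ R, r * r = 1 ∧ ∀ j, P.mt r j = if j = i then -1 else 1 := fun i => by
    obtain ⟨g, ga, g1, gm⟩ := hr i
    have gT : g ∈ Q3 a ⊔ R := by
      rw [sup]
      refine ⟨ga, g1, fun j => ?_⟩
      rw [gm]; split_ifs
      · exact Even.neg_one_pow (by decide)
      · exact one_pow 4
    obtain ⟨q, hq, r, hrR, rfl⟩ := (mem_sup_of_le_normalizer RN).1 gT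
    have rT := RT hrR
    have rm : ∀ j, P.mt r j = if j = i then -1 else 1 := fun j => by
      rw [← gm, P.mt_mul q r (p3_Qa hq) rT.1, P.mt_Q hq, one_mul]
    refine ⟨r, hrR, dis _ (mul_mem hrR hrR) ((P.ker _ (p3_cm rT.1 rT.1)).2 ⟨(mul_mem rT rT).2.1, fun j => ?_⟩), rm⟩
    rw [P.mt_mul r r rT.1 rT.1, rT.2.1, Equiv.Perm.one_apply, rm]
    split_ifs
    · rw [neg_mul_neg, one_mul]
    · exact one_mul 1
  choose r r1 r2 r3 using key
  exact ⟨{ vec := P.vec, pm := P.pm, mt := P.mt, R := R, r := r, esz := P.esz, card := P.card, cube := P.cube,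
           cen := P.cen, vec_mul := P.vec_mul, vec_eq_zero := P.vec_eq_zero, vec_surj := P.vec_surj, comm := P.comm,
           act := P.act, pm_mul := P.pm_mul, mt_mul := P.mt_mul, ker := P.ker, R_le := RT.trans P.T_le, cardR := cR,
           two := fun g hg => by rw [sup]; exact ⟨fun h => h.2, fun h => ⟨hg, h⟩⟩
           r_mem := r1, r2 := r2, r_mt := r3 }⟩

/-- `C(a)` covers `Q₈³` and permutes the three planes transitively. -/
def P3.Full (P : P3 a) : Prop :=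
  (∀ x : Fin 3 → LB.S3, (∀ i, x i ^ 4 = 1) → ∃ g, g * a = a * g ∧ P.pm g = 1 ∧ P.mt g = x) ∧
    ∃ g, g * a = a * g ∧ P.pm g ≠ 1 ∧ P.pm g ^ 3 = 1

/-- The action of `T` on the three planes. -/
def P3.mtT (P : P3 a) : P.T →* (Fin 3 → LB.S3) where
  toFun g := P.mt g
  map_one' := funext P.mt_one
  map_mul' g h := funext fun i => by
    rw [Subgroup.coe_mul, P.mt_mul _ _ g.2.1 h.2.1, h.2.2.1, Equiv.Perm.one_apply, Pi.mul_apply]

/-- The embedding of `Q₈³`. -/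
def q8c : QuaternionGroup 2 × QuaternionGroup 2 × QuaternionGroup 2 →* (Fin 3 → LB.S3) :=
  MonoidHom.mk' (fun x => ![FK.qf x.1, FK.qf x.2.1, FK.qf x.2.2]) fun x y => funext fun i => by
    fin_cases i <;> simp [FK.qf_mul]

theorem q8c_inj : Function.Injective q8c := by
  refine (injective_iff_map_eq_one _).2 fun x hx => ?_
  exact Prod.ext (FK.qf_one _ (congrFun hx 0)) (Prod.ext (FK.qf_one _ (congrFun hx 1)) (FK.qf_one _ (congrFun hx 2)))

theorem mem_q8c {x : Fin 3 → LB.S3} : x ∈ q8c.range ↔ ∀ i, x i ^ 4 = 1 := by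
  constructor
  · rintro ⟨y, rfl⟩ i
    fin_cases i
    exacts [FK.qf_four y.1, FK.qf_four y.2.1, FK.qf_four y.2.2]
  · intro h
    obtain ⟨y0, h0⟩ := FK.qf_surj _ (h 0)
    obtain ⟨y1, h1⟩ := FK.qf_surj _ (h 1)
    obtain ⟨y2, h2⟩ := FK.qf_surj _ (h 2)
    refine ⟨(y0, y1, y2), funext fun i => ?_⟩
    fin_cases i
    exacts [h0, h1, h2]

theorem p3_mem_core {g : centralizer ({a} : Set G)} : g ∈ pCore 3 (centralizer ({a} : Set G)) ↔ (g : G) ∈ Q3 a :=
  (mem_map_iff_mem (centralizer ({a} : Set G)).subtype_injective).symm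

/-- The image of `T` in `C(a) / Q`. -/
def P3.qT (P : P3 a) : P.T →* centralizer ({a} : Set G) ⧸ pCore 3 (centralizer ({a} : Set G)) :=
  (QuotientGroup.mk' _).comp (inclusion P.T_le)

theorem P3.core_eq (P : P3 a) (h : P.Full) :
    pCore 2 (centralizer ({a} : Set G) ⧸ pCore 3 (centralizer ({a} : Set G))) = P.qT.range := by
  apply le_antisymm
  · have two : ∀ g : centralizer ({a} : Set G), (g : _ ⧸ pCore 3 (centralizer ({a} : Set G))) ∈ pCore 2 _ →
        ∃ k, (g : G) ^ 2 ^ k ∈ Q3 a := fun g hg => by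
      obtain ⟨k, hk⟩ := GT.isPGroup_pCore 2 ⟨_, hg⟩
      refine ⟨k, ?_⟩
      have e : ((g ^ 2 ^ k : centralizer ({a} : Set G)) : _ ⧸ pCore 3 (centralizer ({a} : Set G))) = 1 :=
        congrArg Subtype.val hk
      exact p3_mem_core.1 ((QuotientGroup.eq_one_iff _).1 e)
    have sq : ∀ g : centralizer ({a} : Set G), (g : _ ⧸ pCore 3 (centralizer ({a} : Set G))) ∈ pCore 2 _ →
        P.pm g ^ 2 = 1 := fun g hg => by
      obtain ⟨k, hk⟩ := two g hg
      refine p3_cop (k := k) (p3_six _) ?_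
      rw [← pow_mul, mul_comm, pow_mul, ← P.pm_pow (mem_centralizer_singleton_iff.1 g.2), P.pm_Q hk, one_pow]
    intro x hx
    obtain ⟨g, rfl⟩ := QuotientGroup.mk_surjective x
    have ga := mem_centralizer_singleton_iff.1 g.2
    obtain ⟨ρ, ρa, ρ1, ρ3⟩ := h.2
    have g1 : P.pm g = 1 := by
      refine p3_perm _ _ (sq g hx) ρ1 ρ3 ?_
      let ρ' : centralizer ({a} : Set G) := ⟨ρ, mem_centralizer_singleton_iff.2 ρa⟩
      have m : ((g * (ρ' * g⁻¹ * ρ'⁻¹) : centralizer ({a} : Set G)) : _ ⧸ pCore 3 (centralizer ({a} : Set G))) ∈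
          pCore 2 _ := by
        rw [QuotientGroup.mk_mul, QuotientGroup.mk_mul, QuotientGroup.mk_mul, QuotientGroup.mk_inv, QuotientGroup.mk_inv]
        exact mul_mem hx (Normal.conj_mem inferInstance _ (inv_mem hx) _)
      have e := sq _ m
      change P.pm ((g : G) * (ρ * (g : G)⁻¹ * ρ⁻¹)) ^ 2 = 1 at e
      rw [P.pm_mul _ _ ga (p3_cm (p3_cm ρa (p3_ci ga)) (p3_ci ρa)), P.pm_mul _ _ (p3_cm ρa (p3_ci ga)) (p3_ci ρa),
        P.pm_mul _ _ ρa (p3_ci ga), P.pm_inv ga, P.pm_inv ρa, ← mul_assoc, ← mul_assoc] at e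
      exact e
    obtain ⟨k, hk⟩ := two g hx
    refine ⟨⟨g, ga, g1, fun i => p3_cop (k := k) (p3_twelve _) ?_⟩, rfl⟩
    rw [← pow_mul, mul_comm, pow_mul, ← P.mt_pow ga g1, P.mt_Q hk, one_pow]
  · haveI : P.qT.range.Normal := ⟨by
      rintro _ ⟨g, rfl⟩ x
      obtain ⟨x, rfl⟩ := QuotientGroup.mk_surjective x
      exact ⟨⟨x * g * (x : G)⁻¹, P.T_conj (mem_centralizer_singleton_iff.1 x.2) g.2⟩, rfl⟩⟩
    refine GT.le_pCore ?_
    rintro ⟨_, g, rfl⟩
    refine ⟨2, Subtype.ext ?_⟩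
    change P.qT g ^ 2 ^ 2 = 1
    rw [← map_pow]
    exact (QuotientGroup.eq_one_iff _).2 (p3_mem_core.2 (P.T_four g.2))

theorem P3.core_iso (P : P3 a) (h : P.Full) :
    Nonempty (pCore 2 (centralizer ({a} : Set G) ⧸ pCore 3 (centralizer ({a} : Set G))) ≃*
      QuaternionGroup 2 × QuaternionGroup 2 × QuaternionGroup 2) := by
  have k : P.qT.ker = P.mtT.ker := by
    ext g
    rw [MonoidHom.mem_ker, MonoidHom.mem_ker]
    refine ((QuotientGroup.eq_one_iff _).trans p3_mem_core).trans ((P.ker g g.2.1).trans ?_)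
    exact ⟨fun h => funext h.2, fun h => ⟨g.2.2.1, congrFun h⟩⟩
  have r : P.mtT.range = q8c.range := by
    ext x
    rw [mem_q8c]
    constructor
    · rintro ⟨g, rfl⟩; exact g.2.2.2
    · intro hx
      obtain ⟨g, ga, g1, rfl⟩ := h.1 x hx
      exact ⟨⟨g, ga, g1, hx⟩, rfl⟩
  obtain ⟨e⟩ := p3_range _ _ k
  exact ⟨(MulEquiv.subgroupCongr (P.core_eq h)).trans (e.trans ((MulEquiv.subgroupCongr r).trans
    (MonoidHom.ofInjective q8c_inj).symm))⟩

theorem P3.center_eq (P : P3 a) :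
    (center (centralizer ({a} : Set G))).map (centralizer ({a} : Set G)).subtype = zpowers a := by
  apply le_antisymm
  · rintro _ ⟨g, hg, rfl⟩
    refine P.cen fun q hq => ?_
    exact congrArg Subtype.val (mem_center_iff.1 hg ⟨q, mem_centralizer_singleton_iff.2 (p3_Qa hq)⟩)
  · refine zpowers_le.2 ⟨⟨a, mem_centralizer_singleton_iff.2 rfl⟩, mem_center_iff.2 fun g => Subtype.ext ?_, rfl⟩
    exact mem_centralizer_singleton_iff.1 g.2

end Cfsg.Agent.B3
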