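import Mathlib
import Cfsg.Agent.B3.Mon
import Cfsg.Agent.B3.FB
import Cfsg.Agent.B3.P3
import Cfsg.Agent.B3.KKa

/-! The group `C(t) / ⟨t⟩`. -/

set_option autoImplicit false
set_option linter.unusedSectionVars false

namespace Cfsg.Agent.B3

open Cfsg.Agent.Spor Cfsg.Agent.Rec Cfsg.Agent.T3 Cfsg.Agent.GT.PG Subgroup Matrix
open scoped commutatorElement

universe u

variable {G : Type u} [Group G] [Finite G] {a : G}

/-- The centraliser of `t`. -/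
abbrev Lt.K (s : Lt a) : Subgroup G := centralizer {s.t}

/-- `a` and `a y` as elements of `C(t)`. -/
def Lt.ka (s : Lt a) : s.K := ⟨a, Rec.mem_cen.2 s.ta.symm⟩
def Lt.ky (s : Lt a) : s.K := ⟨a * s.y, Rec.mem_cen.2 (by rw [mul_assoc, ← s.ty, ← mul_assoc, ← s.ta, mul_assoc])⟩

/-- `φ` is the quotient map by `⟨t⟩`. -/
structure Kb (s : Lt a) {B : Type u} [Group B] (φ : s.K →* B) : Prop where
  surj : Function.Surjective φ
  ker : ∀ k, φ k = 1 ↔ (k : G) = 1 ∨ (k : G) = s.t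

instance Lt.normal_t (s : Lt a) : ((zpowers s.t).subgroupOf s.K).Normal := ⟨fun n hn g => by
  obtain ⟨k, hk⟩ := mem_subgroupOf.1 hn
  refine mem_subgroupOf.2 ⟨k, ?_⟩
  rw [coe_mul, coe_mul, coe_inv, ← hk, (Commute.zpow_right (mem_cen.1 g.2) k).eq, mul_inv_cancel_right]⟩

theorem Lt.kb (s : Lt a) : Kb s (QuotientGroup.mk' ((zpowers s.t).subgroupOf s.K)) := by
  refine ⟨QuotientGroup.mk'_surjective _, fun k => ?_⟩
  rw [QuotientGroup.mk'_apply, QuotientGroup.eq_one_iff, mem_subgroupOf]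
  refine ⟨fun ⟨n, hn⟩ => ?_, fun h => h.elim (fun e => e ▸ one_mem _) fun e => e ▸ mem_zpowers _⟩
  rw [← hn]
  rcases Int.even_or_odd' n with ⟨j, rfl | rfl⟩
  · exact .inl (by simp only [_root_.zpow_mul, zpow_ofNat, pow_two, s.t2, _root_.one_zpow])
  · exact .inr (by simp only [_root_.zpow_add, _root_.zpow_mul, zpow_ofNat, pow_two, s.t2, _root_.one_zpow,
      one_mul, pow_one])

/-- `t` as an element of `C(t)`. -/
def Lt.kt (s : Lt a) : s.K := ⟨s.t, Rec.mem_cen.2 rfl⟩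

theorem kk_three {B : Type u} [Group B] [Finite B] {x y : B} (hx : x ^ 3 = 1) (h : y ∈ zpowers x) :
    y = 1 ∨ y = x ∨ y = x⁻¹ := by
  obtain ⟨k, rfl⟩ := (mem_powers_iff_mem_zpowers).2 h
  have e : x ^ 2 = x⁻¹ := eq_inv_of_mul_eq_one_left (by rw [← pow_succ, hx])
  simp only [pow_eq_pow_mod k hx]
  have h3 := Nat.mod_lt k (show 0 < 3 by norm_num)
  interval_cases k % 3 <;> simp [e]

namespace Kb

variable {s : Lt a} {B : Type u} [Group B] [Finite B] {φ : s.K →* B} (H : Kb s φ)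

include H

theorem kt : φ s.kt = 1 := (H.ker _).2 (.inr rfl)

theorem eq_or {k l : s.K} (h : φ k = φ l) : (k : G) = l ∨ (k : G) = l * s.t := by
  rcases (H.ker (l⁻¹ * k)).1 (by rw [map_mul, map_inv, h, inv_mul_cancel]) with e | e
  · exact .inl (inv_mul_eq_one.1 e).symm
  · exact .inr (inv_mul_eq_iff_eq_mul.1 e)

theorem one_of_mem {k : s.K} (hk : (k : G) ∈ Q3 a) (h : φ k = 1) : (k : G) = 1 :=
  ((H.ker k).1 h).resolve_right fun e => s.kk_tQ (e ▸ hk)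

theorem comm {k : s.K} (h : φ k * φ s.ka = φ s.ka * φ k) : (k : G) * a = a * k := by
  rcases H.eq_or (k := k * s.ka * k⁻¹) (l := s.ka)
    (by rw [map_mul, map_mul, map_inv, h, mul_inv_cancel_right]) with e | e
  · exact mul_inv_eq_iff_eq_mul.1 e
  · have e2 : ((k : G) * a * (k : G)⁻¹) ^ 3 = (a * s.t) ^ 3 := congrArg (· ^ 3) e
    rw [conj_pow, (show Commute a s.t from s.ta.symm).mul_pow, s.esz.z_pow, mul_one, mul_inv_cancel, one_mul, pow_succ,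
      pow_two, s.t2, one_mul] at e2
    exact absurd e2.symm s.t_ne

omit H in
theorem comm' {k : s.K} (h : (k : G) * a = a * k) : φ k * φ s.ka = φ s.ka * φ k := by
  rw [← map_mul, ← map_mul]
  exact congrArg φ (Subtype.ext h)

theorem memQ (M : Mon) {b : B} : b ∈ Q3 (φ s.ka) ↔ ∃ q : s.K, (q : G) ∈ Q3 a ∧ φ q = b := by
  refine ⟨fun hb => ?_, fun hb => ?_⟩
  · let O : Subgroup Γ := s.img (((Q3 (φ s.ka)).comap φ).map s.K.subtype)
    have hT : ((Q3 (φ s.ka)).comap φ).map s.K.subtype ≤ centralizer {a} := by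
      rintro _ ⟨k, hk, rfl⟩
      exact mem_cen.2 (H.comm (F3.b_Qc hk))
    have hO : ∀ {x}, x ∈ O ↔ ∃ k : s.K, φ k ∈ Q3 (φ s.ka) ∧ s.m k = x := fun {x} => by
      rw [s.mem_img hT]
      exact ⟨fun ⟨_, ⟨k, hk, e⟩, e'⟩ => ⟨k, hk, by rw [← e', ← e]; rfl⟩, fun ⟨k, hk, e⟩ => ⟨k, ⟨k, hk, rfl⟩, e⟩⟩
    obtain ⟨k, rfl⟩ := H.surj b
    have ka := H.comm (F3.b_Qc hb)
    refine (kk_core M (O := O) (fun x hx => ?_) (fun x hx y hy => ?_) (fun x hx => ?_) (hO.2 ⟨k, hb, rfl⟩)).elim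
      (fun e => ⟨k, (s.m_eq_one ka).1 e, rfl⟩) fun e => ?_
    rotate_right
    · refine ⟨k * s.kt, (s.m_eq_one (F3.b_cmul ka s.ta)).1 ?_, by rw [map_mul, H.kt, mul_one]⟩
      rw [s.m_mul ka s.ta, e, s.tm, kk_τ_sq]
    · obtain ⟨l, hl, rfl⟩ := hO.1 hx
      exact s.kk_mem (H.comm (F3.b_Qc hl)) (mem_cen.1 l.2)
    · obtain ⟨l, hl, rfl⟩ := hO.1 hx
      obtain ⟨g, g1, g2, rfl⟩ := s.kk_lift3 (D0_le_C3 hy)
      have la := H.comm (F3.b_Qc hl)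
      refine hO.2 ⟨⟨g, mem_cen.2 g2⟩ * l * ⟨g, mem_cen.2 g2⟩⁻¹, ?_, ?_⟩
      · rw [map_mul, map_mul, map_inv]
        exact F3.b_cjQ (comm' g1) hl
      · rw [← s.m_mul g1 la, ← s.m_inv g1, ← s.m_mul (F3.b_cmul g1 la) (F3.b_cinv g1)]
        rfl
    · obtain ⟨l, hl, rfl⟩ := hO.1 hx
      obtain ⟨n, hn⟩ := GT.isPGroup_pCoreOf 3 _ ⟨_, hl⟩
      refine ⟨n, ?_⟩
      rw [← s.m_pow (H.comm (F3.b_Qc hl)), ← s.m_one, ← s.tm]
      exact ((H.ker (l ^ 3 ^ n)).1 (by rw [map_pow]; exact congrArg Subtype.val hn)).imp (congrArg s.m) (congrArg s.m)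
  · refine GT.le_pCoreOf (N := ((Q3 a).subgroupOf s.K).map φ) ?_ ?_ (s.esz.isPGroup.comap_subtype.map φ) hb
    · rintro _ ⟨k, hk, rfl⟩
      exact mem_cen.2 (comm' (s.Qc hk))
    · have key : ∀ g ∈ centralizer {φ s.ka}, ∀ x ∈ ((Q3 a).subgroupOf s.K).map φ,
          g * x * g⁻¹ ∈ ((Q3 a).subgroupOf s.K).map φ := by
        rintro g hg _ ⟨k, hk, rfl⟩
        obtain ⟨l, rfl⟩ := H.surj g
        exact ⟨l * k * l⁻¹, s.cjQ (H.comm (mem_cen.1 hg)) hk, by rw [map_mul, map_mul, map_inv]⟩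
      exact fun g hg => mem_normalizer_iff.2 fun x =>
        ⟨key g hg x, fun hx => by simpa [mul_assoc] using key g⁻¹ (inv_mem hg) _ hx⟩

theorem memZ {q : s.K} (hq : (q : G) ∈ Q3 a) : φ q ∈ zpowers (φ s.ka) ↔ (q : G) ∈ zpowers a := by
  refine ⟨fun ⟨n, hn⟩ => ⟨n, ?_⟩, fun ⟨n, hn⟩ => ⟨n, ?_⟩⟩
  · refine (mul_inv_eq_one.1 (H.one_of_mem (k := s.ka ^ n * q⁻¹)
      (mul_mem (zpow_mem s.esz.z_mem n) (inv_mem hq)) ?_))
    rw [map_mul, map_inv, map_zpow, mul_inv_eq_one]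
    exact hn
  · change φ s.ka ^ n = φ q
    rw [← map_zpow]
    exact congrArg φ (Subtype.ext hn)

theorem cen (M : Mon) : centralizer (Q3 (φ s.ka) : Set B) ≤ zpowers (φ s.ka) := fun b hb => by
  have key : ∀ k : s.K, φ k = b → (k : G) * a = a * k ∧ ∀ q ∈ Q3 a, q * s.t = s.t * q → k * q = q * k := by
    rintro k rfl
    have ka := H.comm (hb _ ((H.memQ M).2 ⟨s.ka, s.esz.z_mem, rfl⟩)).symm
    refine ⟨ka, fun q hq qt => ?_⟩
    have e := H.one_of_mem (k := k * ⟨q, mem_cen.2 qt⟩ * k⁻¹ * ⟨q, mem_cen.2 qt⟩⁻¹)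
      (mul_mem (s.cjQ ka hq) (inv_mem hq)) (by
        rw [map_mul, map_mul, map_mul, map_inv, map_inv, ← hb _ ((H.memQ M).2 ⟨⟨q, mem_cen.2 qt⟩, hq, rfl⟩),
          mul_inv_cancel_right, mul_inv_cancel])
    exact mul_inv_eq_iff_eq_mul.1 (mul_inv_eq_one.1 e)
  obtain ⟨k, hk, e⟩ : ∃ k : s.K, (k : G) ∈ Q3 a ∧ φ k = b := by
    obtain ⟨k, rfl⟩ := H.surj b
    obtain ⟨ka, h⟩ := key k rfl
    rcases M.kk_fix (s.kk_mem ka (mem_cen.1 k.2)) (fun v hv => by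
      obtain ⟨q, hq, rfl⟩ := s.vec_surj v
      rw [← s.m_act ka hq, h q hq ((s.kk_Qt hq).2 hv), mul_inv_cancel_right]) with e | e
    · exact ⟨k, (s.m_eq_one ka).1 e, rfl⟩
    · refine ⟨k * s.kt, (s.m_eq_one (F3.b_cmul ka s.ta)).1 ?_, by rw [map_mul, H.kt, mul_one]⟩
      rw [s.m_mul ka s.ta, e, s.tm, kk_τ_sq]
  rw [← e, H.memZ hk]
  refine s.kk_zero hk (mem_cen.1 k.2) (F3.b_sf_nd _ fun w => ?_)
  obtain ⟨q, hq, qt, rfl⟩ := s.kk_surj w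
  rw [← sf8_eq ((s.kk_Qt hq).1 qt), ← s.commute_iff hq hk]
  exact ((key k e).2 q hq qt).symm

theorem card_ker : Nat.card φ.ker = 2 := by
  have : Fact (Nat.Prime 2) := ⟨Nat.prime_two⟩
  have e : φ.ker = zpowers s.kt := le_antisymm
    (fun k hk => ((H.ker k).1 hk).elim (fun e => (Subtype.ext e : k = 1) ▸ one_mem _)
      fun e => (Subtype.ext e : k = s.kt) ▸ mem_zpowers _) (zpowers_le.2 H.kt)
  rw [e, Nat.card_zpowers]
  exact orderOf_eq_prime (Subtype.ext (by rw [pow_two]; exact s.t2)) fun e => s.t_ne (congrArg Subtype.val e)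

theorem exists_P3 (M : Mon) : ∃ P : P3 (φ s.ka), (∀ k : s.K, φ k ∈ Q3 (φ s.ka) ↔ (k : G) ∈ Q3 a ∨ k * s.t ∈ Q3 a) ∧
    ∀ k : s.K, (k : G) * a = a * k → P.pm (φ k) = M.pm (s.m k) ∧ P.mt (φ k) = M.mt (s.m k) := by
  classical
  have : Fact (Nat.Prime 3) := ⟨Nat.prime_three⟩
  choose σ hσ using H.surj
  have hτ : τ0 ∈ Cτ := kk_C3_le (D0_le_C3 τ_mem.1)
  obtain ⟨τ1, τ2⟩ := (M.ker τ0 hτ).2 (.inr rfl)
  have hm : ∀ k : s.K, (k : G) * a = a * k →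
      M.pm (s.m (σ (φ k))) = M.pm (s.m k) ∧ M.mt (s.m (σ (φ k))) = M.mt (s.m k) := fun k ka => by
    have kc := s.kk_mem ka (mem_cen.1 k.2)
    rcases H.eq_or (hσ (φ k)) with e | e <;> rw [e]
    · exact ⟨rfl, rfl⟩
    · rw [s.m_mul ka s.ta, s.tm, M.pm_mul _ kc _ hτ, τ1, mul_one]
      exact ⟨rfl, funext fun i => by rw [M.kk_mul kc hτ τ1, τ2, mul_one]⟩
  let V : B → W6 := fun b i r => s.vec (if (σ b : G) ∈ Q3 a then σ b else σ b * s.t) (i.succ, r)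
  have hv : ∀ q : s.K, (q : G) ∈ Q3 a → V (φ q) = fun i r => s.vec q (i.succ, r) := fun q hq => by
    simp only [V]
    rcases H.eq_or (hσ (φ q)) with e | e <;> rw [e]
    · rw [if_pos hq]
    · rw [if_neg fun h => s.kk_tQ ((mul_mem_cancel_left hq).1 h), mul_assoc, s.t2, mul_one]
  have hQ : ∀ k : s.K, φ k ∈ Q3 (φ s.ka) ↔ (k : G) ∈ Q3 a ∨ k * s.t ∈ Q3 a := fun k => by
    rw [H.memQ M]
    refine ⟨fun ⟨q, hq, e⟩ => (H.eq_or e).imp (fun e => by rwa [← e]) fun e => by rwa [← e], fun h => h.elim (fun h => ⟨k, h, rfl⟩)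
      fun h => ⟨k * s.kt, h, by rw [map_mul, H.kt, mul_one]⟩⟩
  have hc : ∀ q ∈ Q3 (φ s.ka), q ^ 3 = 1 := fun b hb => by
    obtain ⟨q, hq, rfl⟩ := (H.memQ M).1 hb
    rw [← map_pow, show q ^ 3 = 1 from Subtype.ext (s.cube _ hq), map_one]
  have ha : φ s.ka ∈ Q3 (φ s.ka) := (H.memQ M).2 ⟨s.ka, s.esz.z_mem, rfl⟩
  refine ⟨{
      vec := V
      pm := fun b => M.pm (s.m (σ b))
      mt := fun b => M.mt (s.m (σ b))
      esz := ⟨orderOf_eq_prime (hc _ ha) fun e => s.esz.z_ne_one (H.one_of_mem s.esz.z_mem e), fun x hx y hy => ?_,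
        fun x hx => by rw [hc x hx]; exact one_mem _,
        le_antisymm (inf_le_right.trans (H.cen M)) (zpowers_le.2 ⟨ha, fun q hq => F3.b_Qc hq⟩)⟩
      card := ?_
      cube := hc
      cen := H.cen M
      vec_mul := fun x hx y hy => ?_
      vec_eq_zero := fun x hx => ?_
      vec_surj := fun w => ?_
      comm := fun x hx y hy => ?_
      act := fun g hg x hx i => ?_
      pm_mul := fun x y hx hy => ?_
      mt_mul := fun x y hx hy i => ?_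
      ker := fun g hg => ?_ }, hQ, hm⟩
  · obtain ⟨p, hp, rfl⟩ := (H.memQ M).1 hx
    obtain ⟨q, hq, rfl⟩ := (H.memQ M).1 hy
    have e := s.esz.comm_mem _ hp _ hq
    rw [← map_commutatorElement, H.memZ (s.esz.zpowers_le e)]
    exact e
  · have e2 : Q3 (φ s.ka) = (φ.comp ((Q3 a).subgroupOf s.K).subtype).range :=
      Subgroup.ext fun b => (H.memQ M).trans ⟨fun ⟨q, hq, e⟩ => ⟨⟨q, hq⟩, e⟩, fun ⟨q, e⟩ => ⟨q, q.2, e⟩⟩
    rw [e2, ← Nat.card_congr (MonoidHom.ofInjective ((injective_iff_map_eq_one _).2 fun q e =>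
      Subtype.ext (Subtype.ext (H.one_of_mem q.2 e)))).toEquiv, ← inf_subgroupOf_left,
      Nat.card_congr (subgroupOfEquivOfLe inf_le_left).toEquiv, s.kk_card]
  · obtain ⟨p, hp, rfl⟩ := (H.memQ M).1 hx
    obtain ⟨q, hq, rfl⟩ := (H.memQ M).1 hy
    rw [← map_mul, hv _ hp, hv _ hq, hv (p * q) (mul_mem hp hq), coe_mul, s.vec_mul _ hp _ hq]
    rfl
  · obtain ⟨q, hq, rfl⟩ := (H.memQ M).1 hx
    rw [hv _ hq, H.memZ hq]
    exact ⟨s.kk_zero hq (mem_cen.1 q.2), fun e => by rw [(s.vec_eq_zero _ hq).2 e]; rfl⟩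
  · obtain ⟨q, hq, qt, e⟩ := s.kk_surj w
    exact ⟨φ ⟨q, mem_cen.2 qt⟩, (H.memQ M).2 ⟨_, hq, rfl⟩, (hv _ hq).trans e⟩
  · obtain ⟨p, hp, rfl⟩ := (H.memQ M).1 hx
    obtain ⟨q, hq, rfl⟩ := (H.memQ M).1 hy
    rw [hv _ hp, hv _ hq, ← sf8_eq ((s.kk_Qt hp).1 (mem_cen.1 p.2)), ← map_pow, ← map_inv, ← map_inv, ← map_mul,
      ← map_mul, ← map_mul]
    exact congrArg φ (Subtype.ext (s.comm _ hp _ hq))
  · obtain ⟨q, hq, rfl⟩ := (H.memQ M).1 hx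
    obtain ⟨k, rfl⟩ := H.surj g
    have ka := H.comm hg
    rw [(hm k ka).1, (hm k ka).2, ← map_inv, ← map_mul, ← map_mul, hv _ hq, hv (k * q * k⁻¹) (s.cjQ ka hq),
      ← M.act _ (s.kk_mem ka (mem_cen.1 k.2)), ← s.m_act ka hq]
    rfl
  · obtain ⟨k, rfl⟩ := H.surj x
    obtain ⟨l, rfl⟩ := H.surj y
    have ka := H.comm hx
    have la := H.comm hy
    rw [← map_mul, (hm k ka).1, (hm l la).1, (hm (k * l) (F3.b_cmul ka la)).1, coe_mul, s.m_mul ka la,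
      M.pm_mul _ (s.kk_mem ka (mem_cen.1 k.2)) _ (s.kk_mem la (mem_cen.1 l.2))]
  · obtain ⟨k, rfl⟩ := H.surj x
    obtain ⟨l, rfl⟩ := H.surj y
    have ka := H.comm hx
    have la := H.comm hy
    rw [← map_mul, (hm k ka).2, (hm l la).1, (hm l la).2, (hm (k * l) (F3.b_cmul ka la)).2, coe_mul, s.m_mul ka la,
      M.mt_mul _ (s.kk_mem ka (mem_cen.1 k.2)) _ (s.kk_mem la (mem_cen.1 l.2))]
  · obtain ⟨k, rfl⟩ := H.surj g
    have ka := H.comm hg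
    rw [(hm k ka).1, (hm k ka).2, M.ker _ (s.kk_mem ka (mem_cen.1 k.2)), hQ, s.m_eq_one ka,
      ← s.m_eq_one (F3.b_cmul ka s.ta), s.m_mul ka s.ta, s.tm, mul_eq_one_iff_eq_inv,
      inv_eq_of_mul_eq_one_right kk_τ_sq]

theorem ky : φ s.ky ∈ Q3 (φ s.ka) ∧ IsConj (φ s.ka) (φ s.ky) ∧ φ s.ky ∉ zpowers (φ s.ka) := by
  obtain ⟨M⟩ := exists_mon
  have hq : (s.ky : G) ∈ Q3 a := mul_mem s.esz.z_mem s.yQ
  refine ⟨(H.memQ M).2 ⟨_, hq, rfl⟩, φ.map_isConj (isConj_iff.2 ⟨⟨s.h, mem_cen.2 s.th.symm⟩, Subtype.ext s.ha⟩), ?_⟩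
  rw [H.memZ hq]
  intro h
  have e := (s.vec_eq_zero _ s.yQ).2 ((mul_mem_cancel_left (mem_zpowers a)).1 h)
  rcases s.yv with e' | e' <;> rw [e'] at e <;> exact absurd (congrFun e (1, 0)) (by decide)

theorem exists_F3 (h : Nat.card s.mt.range = 82944) : Nonempty (F3 (φ s.ka)) := by
  obtain ⟨M⟩ := exists_mon
  obtain ⟨P, -, hm⟩ := H.exists_P3 M
  have h3 : ∀ {g : G}, g * a = a * g → g * s.t = s.t * g → s.m g ∈ C3 := fun ga gt =>
    cen_τ s.sub h ▸ ⟨s.m_mem ga, (s.kk_mem ga gt).2⟩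
  refine P.toF3 ?_ fun i => ?_
  · let T : Subgroup G := (P.T.comap φ).map s.K.subtype
    have hT : ∀ {g : G}, g ∈ T ↔ g * a = a * g ∧ g * s.t = s.t * g ∧ s.m g ∈ D0 := fun {g} => by
      constructor
      · rintro ⟨k, hk, rfl⟩
        obtain ⟨h1, h2⟩ := P.mem_T.1 hk
        have ka := H.comm h1
        rw [(hm k ka).1, (hm k ka).2, kk_D0 M (h3 ka (mem_cen.1 k.2))] at h2
        exact ⟨ka, mem_cen.1 k.2, h2⟩
      · rintro ⟨ga, gt, h2⟩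
        refine ⟨⟨g, mem_cen.2 gt⟩, P.mem_T.2 ⟨comm' ga, ?_⟩, rfl⟩
        rw [(hm ⟨g, mem_cen.2 gt⟩ ga).1, (hm ⟨g, mem_cen.2 gt⟩ ga).2]
        exact (kk_D0 M (h3 ga gt)).2 h2
    have hle : T ≤ centralizer {a} := fun g hg => mem_cen.2 (hT.1 hg).1
    have e1 : s.img T = D0 := Subgroup.ext fun x => (s.mem_img hle).trans ⟨fun ⟨g, hg, e⟩ => e ▸ (hT.1 hg).2.2, fun hx => by
      obtain ⟨g, g1, g2, rfl⟩ := s.kk_lift3 (D0_le_C3 hx)
      exact ⟨g, hT.2 ⟨g1, g2, hx⟩, rfl⟩⟩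
    have e2 : T ⊓ Q3 a = centralizer {s.t} ⊓ Q3 a := Subgroup.ext fun g => and_congr_left fun hq =>
      ⟨fun hg => mem_cen.2 (hT.1 hg).2.1, fun hg => hT.2 ⟨s.Qc hq, mem_cen.1 hg, by
        rw [(s.m_eq_one (s.Qc hq)).2 hq]; exact one_mem _⟩⟩
    have e3 := s.card_img hle
    rw [e1, e2, card_D0, s.kk_card, card_map_of_injective s.K.subtype_injective,
      GT.card_comap_of_surjective _ H.surj, H.card_ker] at e3
    omega
  · obtain ⟨g, g1, g2, e⟩ := s.kk_lift3 (D0_le_C3 (kk_τi i.succ))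
    obtain ⟨b1, b2⟩ := M.bd_eq _ (kk_C3_le (D0_le_C3 (kk_τi i.succ)))
    refine ⟨φ ⟨g, mem_cen.2 g2⟩, comm' g1, by rw [(hm _ g1).1, e, b1], fun j => ?_⟩
    rw [(hm _ g1).2, e, b2, Pi.mulSingle_apply]
    simp only [Fin.succ_inj]

theorem exists_full (h : f2 ∈ s.mt.range) : ∃ P : P3 (φ s.ka), P.Full := by
  obtain ⟨M⟩ := exists_mon
  obtain ⟨P, -, hm⟩ := H.exists_P3 M
  refine ⟨P, fun x hx => ?_, ?_⟩
  · obtain ⟨x0, h0⟩ := full s.sub h x hx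
    obtain ⟨g, g1, g2, e⟩ := s.kk_lift h0 (kk_bd_comm _)
    obtain ⟨b1, b2⟩ := M.bd_eq _ (e ▸ s.kk_mem g1 g2)
    exact ⟨φ ⟨g, mem_cen.2 g2⟩, comm' g1, by rw [(hm _ g1).1, e, b1], funext fun j => by
      rw [(hm _ g1).2, e, b2, Fin.cons_succ]⟩
  · have hw : u1 * u2 ∈ C3 := mem_clos (by simp)
    obtain ⟨g, g1, g2, e⟩ := s.kk_lift3 hw
    refine ⟨φ ⟨g, mem_cen.2 g2⟩, comm' g1, ?_⟩
    rw [(hm _ g1).1, e, ← M.kk_pm_pow (kk_C3_le hw), cubes.2.2.2.2.2.2]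
    exact ⟨M.w_ne, M.kk_one.1⟩

/-- In the first case `C(t) / ⟨t⟩` has no subgroup of index two. -/
theorem index_ne_two (h : Nat.card s.mt.range = 82944) (N : Subgroup B) : N.index ≠ 2 := by
  intro hN
  have : Fact (Nat.Prime 3) := ⟨Nat.prime_three⟩
  have := N.normal_of_index_eq_two hN
  obtain ⟨M⟩ := exists_mon
  obtain ⟨P, -, -⟩ := H.exists_P3 M
  have h9 : ∀ k : s.K, (k : G) ^ 3 ∈ Q3 a → φ k ∈ N := fun k hk => by
    have e : k = (k * k) ^ 5 := Subtype.ext (by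
      rw [coe_pow, coe_mul, ← pow_two, ← pow_mul, show 2 * 5 = 3 * 3 + 1 from rfl, pow_succ, pow_mul, s.cube _ hk,
        one_mul])
    rw [e, map_pow, map_mul]
    exact pow_mem (N.mul_self_mem_of_index_two hN _) _
  have hC : ∀ b, b * φ s.ka = φ s.ka * b → b ∈ N := fun b hb => by
    obtain ⟨k, rfl⟩ := H.surj b
    have ka := H.comm hb
    have hT : (N.comap φ).map s.K.subtype ⊓ centralizer {a} ≤ centralizer {a} := inf_le_right
    have h1 : ∀ x ∈ C3, x ^ 3 = 1 → x ∈ s.img ((N.comap φ).map s.K.subtype ⊓ centralizer {a}) := fun x hx x3 => by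
      obtain ⟨g, g1, g2, rfl⟩ := s.kk_lift3 hx
      refine (s.mem_img hT).2 ⟨g, ⟨⟨⟨g, mem_cen.2 g2⟩, h9 _ ?_, rfl⟩, mem_cen.2 g1⟩, rfl⟩
      rw [← s.m_eq_one (Commute.pow_left g1 3).eq, s.m_pow g1, x3]
    have h2 : C3 ≤ s.img ((N.comap φ).map s.K.subtype ⊓ centralizer {a}) := clos_le.2 fun x hx =>
      h1 x (mem_clos hx) (by
        simp only [List.mem_cons, List.not_mem_nil, or_false] at hx
        rcases hx with rfl | rfl | rfl | rfl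
        exacts [cubes.2.2.1, cubes.2.2.2.2.2.2, cubes.2.2.2.2.1, by rw [conj_pow, cubes.2.2.1, mul_one, mul_inv_cancel]])
    obtain ⟨_, ⟨⟨l, hl, rfl⟩, la⟩, e⟩ := (s.mem_img hT).1
      (h2 (cen_τ s.sub h ▸ ⟨s.m_mem ka, (s.kk_mem ka (mem_cen.1 k.2)).2⟩ : s.m k ∈ C3))
    have la' : (l : G) * a = a * l := mem_cen.1 la
    have h4 : φ (k * l⁻¹) ∈ N := h9 _ (pow_mem ((s.m_eq_one (F3.b_cmul ka (F3.b_cinv la'))).1 (by
      rw [s.m_mul ka (F3.b_cinv la'), s.m_inv la', ← e]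
      exact mul_inv_cancel _)) 3)
    rw [map_mul, map_inv] at h4
    exact (mul_mem_cancel_right (inv_mem (show φ l ∈ N from hl))).1 h4
  obtain ⟨S, hS⟩ := P.esz.isPGroup.exists_le_sylow
  have hSc : ∀ x ∈ S, x * φ s.ka = φ s.ka * x := by
    have : Nontrivial S := (nontrivial_iff_ne_bot _).2 fun e => P.esz.z_ne_one (mem_bot.1 (e ▸ hS P.esz.z_mem))
    have := S.isPGroup'.center_nontrivial
    obtain ⟨c, hc⟩ := exists_ne (1 : center S)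
    have hc' : ∀ x ∈ S, x * (c : S) = (c : S) * x := fun x hx => congrArg Subtype.val (mem_center_iff.1 c.2 ⟨x, hx⟩)
    obtain ⟨n, hn⟩ : φ s.ka ∈ zpowers ((c : S) : B) :=
      P.esz.zpowers_eq_of_mem (P.cen fun q hq => hc' q (hS hq)) (fun e => hc (Subtype.ext (Subtype.ext e))) ▸
        mem_zpowers _
    intro x hx
    rw [← hn]
    exact Commute.zpow_right (hc' x hx) n
  obtain ⟨n, nt, hn⟩ := s.exists_inv
  have hν : φ ⟨n, mem_cen.2 nt⟩ * φ ⟨n, mem_cen.2 nt⟩ * φ s.ka * (φ ⟨n, mem_cen.2 nt⟩ * φ ⟨n, mem_cen.2 nt⟩)⁻¹ =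
      (φ s.ka)⁻¹ := by
    rw [← map_mul, ← map_inv, ← map_inv, ← map_mul, ← map_mul]
    exact congrArg φ (Subtype.ext hn)
  have hν' := N.mul_self_mem_of_index_two hN (φ ⟨n, mem_cen.2 nt⟩)
  generalize φ ⟨n, mem_cen.2 nt⟩ * φ ⟨n, mem_cen.2 nt⟩ = ν at hν hν'
  have h5 : normalizer (S : Set B) ≤ N := fun b hb => by
    have h6 : b * φ s.ka * b⁻¹ ∈ zpowers (φ s.ka) := P.cen fun q hq => by
      have e := hSc _ ((mem_normalizer_iff''.1 hb q).1 (hS hq))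
      calc q * (b * φ s.ka * b⁻¹) = b * (b⁻¹ * q * b * φ s.ka) * b⁻¹ := by group
        _ = _ := by rw [e]; group
    rcases kk_three P.esz.z_pow h6 with e | e | e
    · exact absurd (conj_eq_one_iff.1 e) P.esz.z_ne_one
    · exact hC b (mul_inv_eq_iff_eq_mul.1 e)
    · refine (mul_mem_cancel_left (inv_mem hν')).1 (hC _ ?_)
      calc ν⁻¹ * b * φ s.ka = ν⁻¹ * (b * φ s.ka * b⁻¹) * b := by group
        _ = _ := by rw [e, ← hν]; group
  have h7 := Sylow.normalizer_sup_eq_top' S (fun x hx => hC x (hSc x hx) : (S : Subgroup B) ≤ N)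
  rw [sup_eq_right.2 h5] at h7
  rw [h7, index_top] at hN
  omega

end Kb

end Cfsg.Agent.B3
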