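import Mathlib
import Cfsg.Agent.B3.Defs
import Cfsg.Agent.B3.Six
import Cfsg.Agent.KB.AutFix

/-! Three commuting quaternion groups (see `stubs/Cfsg/Agent/B3/PLAN.md`). -/

set_option autoImplicit false

namespace Cfsg.Agent.B3

open Cfsg.Agent.Spor Cfsg.Agent.Rec Cfsg.Agent.T3 Cfsg.Agent.GT.PG Subgroup Matrix
open scoped commutatorElement

universe u

namespace Ga

variable {L : Type u} [Group L] {R : Subgroup L} {z x : L}

theorem zz (h : ESZ 2 R z) : z * z = 1 := by rw [← pow_two]; exact h.z_pow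

theorem cases_z (h : ESZ 2 R z) {c : L} (hc : c ∈ zpowers z) : c = 1 ∨ c = z := by
  obtain ⟨k, rfl⟩ := mem_zpowers_iff.1 hc
  have h2 : z ^ (2 : ℤ) = 1 := by rw [zpow_two]; exact zz h
  rcases Int.emod_two_eq_zero_or_one k with e | e
  · left; rw [← Int.mul_ediv_add_emod k 2, _root_.zpow_add, _root_.zpow_mul, h2, e]; simp
  · right; rw [← Int.mul_ediv_add_emod k 2, _root_.zpow_add, _root_.zpow_mul, h2, e]; simp

theorem conj_z (h : ESZ 2 R z) {g : L} (hg : g ∈ normalizer (R : Set L)) : g * z * g⁻¹ = z := by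
  have h1 : g * z * g⁻¹ ∈ zpowers z := by
    refine h.mem_zpowers_of_forall_commute ((mem_normalizer_iff.1 hg z).1 h.z_mem) fun y hy => ?_
    have hy' : g⁻¹ * y * g ∈ R := (mem_normalizer_iff''.1 hg y).1 hy
    have := (h.commute_z hy').eq
    change y * (g * z * g⁻¹) = (g * z * g⁻¹) * y
    calc y * (g * z * g⁻¹) = g * (g⁻¹ * y * g * z) * g⁻¹ := by group
      _ = _ := by rw [this]; group
  rcases cases_z h h1 with e | e
  · exact absurd (by simpa using e) h.z_ne_one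
  · exact e

/-- The trace of `r` under the element `x` of order three is fixed by `x`. -/
theorem tr_fix (h : ESZ 2 R z) (hx : ∀ y ∈ R, x * y * x⁻¹ ∈ R) (hz : x * z * x⁻¹ = z) (x3 : x ^ 3 = 1) {r : L}
    (hr : r ∈ R) : x * (r * (x * r * x⁻¹) * (x * (x * r * x⁻¹) * x⁻¹)) =
      r * (x * r * x⁻¹) * (x * (x * r * x⁻¹) * x⁻¹) * x := by
  set s := r * (x * r * x⁻¹) * (x * (x * r * x⁻¹) * x⁻¹) with hs
  have h1 := hx r hr
  have h2 := hx _ h1
  have hsR : s ∈ R := mul_mem (mul_mem hr h1) h2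
  have x3' : x * x * x = 1 := by rw [← x3, pow_three, mul_assoc]
  have e : x * s * x⁻¹ = ⁅r⁻¹, s⁆ * s := by
    have : x * (x * (x * r * x⁻¹) * x⁻¹) * x⁻¹ = r := by
      calc _ = (x * x * x) * r * (x * x * x)⁻¹ := by group
        _ = r := by rw [x3']; group
    calc x * s * x⁻¹ = (x * r * x⁻¹) * (x * (x * r * x⁻¹) * x⁻¹) * (x * (x * (x * r * x⁻¹) * x⁻¹) * x⁻¹) := by
          rw [hs]; group
      _ = r⁻¹ * s * r := by rw [this, hs]; group
      _ = _ := by rw [commutatorElement_def]; group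
  rcases cases_z h (h.comm_mem _ (inv_mem hr) _ hsR) with c | c
  · rw [c, one_mul] at e
    exact mul_inv_eq_iff_eq_mul.1 e
  · rw [c] at e
    exfalso
    have f : ∀ t : L, x * (z * t) * x⁻¹ = z * (x * t * x⁻¹) := fun t => by
      calc _ = (x * z * x⁻¹) * (x * t * x⁻¹) := by group
        _ = _ := by rw [hz]
    have : s = z * s := by
      calc s = (x * x * x) * s * (x * x * x)⁻¹ := by rw [x3']; group
        _ = x * (x * (x * s * x⁻¹) * x⁻¹) * x⁻¹ := by group
        _ = z * (z * (z * s)) := by rw [e, f, e, f, f, e]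
        _ = z * s := by rw [← mul_assoc z z, zz h, one_mul]
    exact h.z_ne_one (by simpa using this)

/-- Every element is the product of an element centralising the fixed points and of a fixed point. -/
theorem decomp (h : ESZ 2 R z) (hx : ∀ y ∈ R, x * y * x⁻¹ ∈ R) (hz : x * z * x⁻¹ = z) (x3 : x ^ 3 = 1) {r : L}
    (hr : r ∈ R) : ∃ d ∈ R ⊓ centralizer ((R ⊓ centralizer {x} : Subgroup L) : Set L), ∃ c ∈ R ⊓ centralizer {x},
      r = d * c := by
  have h1 := hx r hr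
  have h2 := hx _ h1
  have hsR : r * (x * r * x⁻¹) * (x * (x * r * x⁻¹) * x⁻¹) ∈ R := mul_mem (mul_mem hr h1) h2
  refine ⟨r * (r * (x * r * x⁻¹) * (x * (x * r * x⁻¹) * x⁻¹))⁻¹, ⟨R.mul_mem hr (R.inv_mem hsR), fun c hc => ?_⟩, _,
    ⟨hsR, mem_centralizer_singleton_iff.2 (tr_fix h hx hz x3 hr).symm⟩, by group⟩
  have hcx : x * c * x⁻¹ = c := by
    rw [mul_inv_eq_iff_eq_mul]; exact (mem_centralizer_singleton_iff.1 hc.2).symm
  have k : ∀ t ∈ R, ⁅x * t * x⁻¹, c⁆ = ⁅t, c⁆ := fun t ht => by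
    have : ⁅x * t * x⁻¹, c⁆ = x * ⁅t, c⁆ * x⁻¹ := by
      conv_lhs => rw [← hcx]
      simp only [commutatorElement_def]; group
    rw [this]
    rcases cases_z h (h.comm_mem t ht c hc.1) with e | e
    · rw [e]; group
    · rw [e, hz]
  have : ⁅r * (r * (x * r * x⁻¹) * (x * (x * r * x⁻¹) * x⁻¹))⁻¹, c⁆ = 1 := by
    rw [h.commutator_mul_left hr (inv_mem hsR) hc.1, ← _root_.zpow_neg_one, h.commutator_zpow_left hsR hc.1,
      h.commutator_mul_left (mul_mem hr h1) h2 hc.1, h.commutator_mul_left hr h1 hc.1, k _ h1, k _ hr]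
    rcases cases_z h (h.comm_mem r hr c hc.1) with e | e
    · rw [e]; simp
    · rw [e, zz h]; simp
  exact (commutatorElement_eq_one_iff_mul_comm.1 this).symm

theorem esz_of (h : ESZ 2 R z) {C D : Subgroup L} (hC : C ≤ R) (hz : z ∈ C) (hCD : C ≤ centralizer (D : Set L))
    (hd : ∀ r ∈ R, r ∈ C ⊔ D) : ESZ 2 C z where
  orderOf_z := h.orderOf_z
  comm_mem a ha b hb := h.comm_mem a (hC ha) b (hC hb)
  pow_mem a ha := h.pow_mem a (hC ha)
  center_eq := by
    refine le_antisymm (fun c hc => h.mem_zpowers_of_forall_commute (hC hc.1) fun y hy => ?_)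
      (le_inf (Subgroup.zpowers_le.2 hz) (h.zpowers_le_centralizer.trans (centralizer_le hC)))
    have : C ⊔ D ≤ centralizer {c} := sup_le (fun t ht => mem_centralizer_singleton_iff.2 (hc.2 t ht))
      fun t ht => mem_centralizer_singleton_iff.2 (hCD hc.1 t ht)
    exact mem_centralizer_singleton_iff.1 (this (hd y hy))

theorem card_aut [Finite L] (h : ESZ 2 R z) (hne : R ≠ zpowers z) {d : ℕ} (hc : Nat.card R = 2 ^ (d + 1)) :
    ∃ r k, r ≤ d ∧ Nat.card (MulAut R) ∣ 2 ^ k * ∏ i ∈ Finset.range r, (2 ^ r - 2 ^ i) := by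
  refine KB.AF.card_mulAut_dvd h.isPGroup ?_
  obtain ⟨a, ha, b, hb, hab⟩ := h.exists_pair hne
  have h1 : (⟨z, h.z_mem⟩ : R) ∈ frattini R := by
    refine commutator_le_frattini h.isPGroup ?_
    have : (⟨z, h.z_mem⟩ : R) = ⁅(⟨a, ha⟩ : R), (⟨b, hb⟩ : R)⁆ := Subtype.ext hab.symm
    rw [this]
    exact commutator_mem_commutator (mem_top _) (mem_top _)
  have h2 : 1 < Nat.card (frattini R) := (one_lt_card_iff_ne_bot _).2 fun e => by
    rw [e] at h1
    exact h.z_ne_one (congrArg Subtype.val (mem_bot.1 h1))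
  have h3 := (frattini R).card_mul_index
  have h4 : 0 < (frattini R).index := Nat.pos_of_ne_zero index_ne_zero_of_finite
  rw [← hc, ← h3]
  nlinarith

theorem card_dvd_aut [Finite L] {P C D : Subgroup L} (h1 : P ≤ normalizer (C : Set L)) (h2 : P ≤ normalizer (D : Set L))
    (hc : ∀ g ∈ P, g ∈ centralizer (C : Set L) → g ∈ centralizer (D : Set L) → g = 1) :
    Nat.card P ∣ Nat.card (MulAut C) * Nat.card (MulAut D) := by
  rw [← Nat.card_prod]
  refine card_dvd_of_injective ((C.normalizerMonoidHom.comp (inclusion h1)).prod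
    (D.normalizerMonoidHom.comp (inclusion h2))) ((injective_iff_map_eq_one _).2 fun g hg => ?_)
  obtain ⟨e1, e2⟩ := Prod.ext_iff.1 hg
  have f1 : inclusion h1 g ∈ C.normalizerMonoidHom.ker := e1
  have f2 : inclusion h2 g ∈ D.normalizerMonoidHom.ker := e2
  rw [normalizerMonoidHom_ker] at f1 f2
  exact Subtype.ext (hc g g.2 f1 f2)

theorem arith {r s k l : ℕ} (hr : r ≤ 2) (hs : s ≤ 4) :
    ¬ 81 ∣ (2 ^ k * ∏ i ∈ Finset.range r, (2 ^ r - 2 ^ i)) * (2 ^ l * ∏ i ∈ Finset.range s, (2 ^ s - 2 ^ i)) := by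
  intro h
  rw [mul_mul_mul_comm, ← pow_add] at h
  have h' := (Nat.Coprime.pow_right (k + l) (show Nat.Coprime 81 2 by norm_num)).dvd_of_dvd_mul_left h
  interval_cases r <;> interval_cases s <;> simp [Finset.prod_range_succ] at h'

/-- The central element of order three has no fixed point on `R / ⟨z⟩`. -/
theorem fpf [Finite L] {P : Subgroup L} (hR : ESZ 2 R z) (cR : Nat.card R = 128)
    (cP : Nat.card P = 81) (hn : P ≤ normalizer (R : Set L)) (hc : P ⊓ centralizer (R : Set L) = ⊥) (hx : x ∈ P)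
    (x3 : orderOf x = 3) (xc : ∀ g ∈ P, g * x = x * g) : R ⊓ centralizer {x} = zpowers z := by
  by_contra hne
  have hxR : ∀ y ∈ R, x * y * x⁻¹ ∈ R := fun y hy => (mem_normalizer_iff.1 (hn hx) y).1 hy
  have hz := conj_z hR (hn hx)
  have x3' : x ^ 3 = 1 := x3 ▸ pow_orderOf_eq_one x
  set C := R ⊓ centralizer {x} with hC
  set D := R ⊓ centralizer (C : Set L) with hD
  have hd : ∀ r ∈ R, r ∈ D ⊔ C := fun r hr => by
    obtain ⟨d, hd, c, hc, rfl⟩ := decomp hR hxR hz x3' hr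
    exact mul_mem_sup hd hc
  have zC : z ∈ C := ⟨hR.z_mem, mem_centralizer_singleton_iff.2 (mul_inv_eq_iff_eq_mul.1 hz).symm⟩
  have zD : z ∈ D := ⟨hR.z_mem, fun c hc => (hR.commute_z hc.1).eq⟩
  have hDC : D ≤ centralizer (C : Set L) := inf_le_right
  have eC : ESZ 2 C z := esz_of hR inf_le_left zC (le_centralizer_iff.1 hDC) fun r hr => sup_comm D C ▸ hd r hr
  have eD : ESZ 2 D z := esz_of hR inf_le_left zD hDC hd
  have hsup : D ⊔ C = R := le_antisymm (sup_le inf_le_left inf_le_left) hd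
  have hinf : D ⊓ C = zpowers z := le_antisymm (fun c hc => eC.center_eq ▸ ⟨hc.2, hc.1.2⟩)
    (Subgroup.zpowers_le.2 ⟨zD, zC⟩)
  have hcard := card_sup_mul_card_inf (hDC.trans (centralizer_le_normalizer' C))
  rw [hsup, hinf, cR, hR.card_zpowers] at hcard
  have hDne : D ≠ zpowers z := fun e => by
    have : R ≤ C := by rw [← hsup, e]; exact sup_le (Subgroup.zpowers_le.2 zC) le_rfl
    have : x ∈ P ⊓ centralizer (R : Set L) := ⟨hx, fun r hr => mem_centralizer_singleton_iff.1 (this hr).2⟩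
    rw [hc, mem_bot] at this
    rw [this] at x3; simp at x3
  have nC : P ≤ normalizer (C : Set L) := fun g hg => mem_normalizer_fintype fun c hc =>
    ⟨(mem_normalizer_iff.1 (hn hg) c).1 hc.1, mem_centralizer_singleton_iff.2 (by
      have e1 := mem_centralizer_singleton_iff.1 hc.2
      have e2 := xc _ (inv_mem hg)
      calc g * c * g⁻¹ * x = g * (c * x) * g⁻¹ := by rw [mul_assoc (g * c), e2]; group
        _ = _ := by rw [e1, ← mul_assoc g, xc g hg]; group)⟩
  have nD : P ≤ normalizer (D : Set L) := fun g hg => mem_normalizer_fintype fun d hd =>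
    ⟨(mem_normalizer_iff.1 (hn hg) d).1 hd.1, fun c hc => by
      have e1 := hd.2 _ ((mem_normalizer_iff''.1 (nC hg) c).1 hc)
      calc c * (g * d * g⁻¹) = g * (g⁻¹ * c * g * d) * g⁻¹ := by group
        _ = _ := by rw [e1]; group⟩
  have hdvd := card_dvd_aut nC nD fun g hg h1 h2 => by
    have : g ∈ P ⊓ centralizer (R : Set L) := ⟨hg, by
      rw [← hsup]
      exact (le_centralizer_iff (K := zpowers g)).1 (sup_le (le_centralizer_iff.1 (Subgroup.zpowers_le.2 h2))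
        (le_centralizer_iff.1 (Subgroup.zpowers_le.2 h1))) (mem_zpowers g)⟩
    rwa [hc, mem_bot] at this
  rw [cP] at hdvd
  obtain ⟨a, ha⟩ := eC.exists_card_eq
  obtain ⟨b, hb⟩ := eD.exists_card_eq
  have a0 : a ≠ 0 := fun e => hne (eC.eq_zpowers_iff_card.2 (by rw [ha, e]; rfl))
  have b0 : b ≠ 0 := fun e => hDne (eD.eq_zpowers_iff_card.2 (by rw [hb, e]; rfl))
  rw [ha, hb, ← pow_add, show 128 * 2 = 2 ^ 8 by norm_num] at hcard
  have hab := Nat.pow_right_injective le_rfl hcard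
  obtain ⟨r, k, hr, h1⟩ := card_aut eC hne ha
  obtain ⟨s, l, hs, h2⟩ := card_aut eD hDne hb
  have := hdvd.trans (Nat.mul_dvd_mul h1 h2)
  by_cases a1 : a = 1
  · exact arith (by omega) (by omega) this
  · rw [mul_comm] at this
    exact arith (by omega) (by omega) this

/-- Splitting off an invariant quaternion group. -/
theorem split (h : ESZ 2 R z) (hx : ∀ y ∈ R, x * y * x⁻¹ ∈ R) (hz : x * z * x⁻¹ = z) (x3 : x ^ 3 = 1)
    (hf : ∀ y ∈ R, x * y = y * x → y ∈ zpowers z) (hne : R ≠ zpowers z) :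
    ∃ i ∈ R, ∃ j ∈ R, i * i = z ∧ j * j = z ∧ i * j = z * (j * i) ∧ ⁅i, j⁆ = z ∧ x * i * x⁻¹ = j ∧
      (x * j * x⁻¹ = i * j ∨ x * j * x⁻¹ = z * (i * j)) ∧
      ∀ y ∈ R ⊓ centralizer {i} ⊓ centralizer {j}, x * y * x⁻¹ ∈ R ⊓ centralizer {i} ⊓ centralizer {j} := by
  have z2 := zz h
  obtain ⟨i, hi, ii⟩ : ∃ i ∈ R, i * i = z := by
    by_contra hn
    push Not at hn
    have sq : ∀ r ∈ R, r⁻¹ = r := fun r hr => by
      have := h.pow_mem r hr
      rw [pow_two] at this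
      exact inv_eq_of_mul_eq_one_left ((cases_z h this).resolve_right (hn r hr))
    obtain ⟨a, ha, b, hb, hab⟩ := h.exists_pair hne
    refine h.not_commute_of_eq hab ?_
    have := sq _ (mul_mem ha hb)
    rw [_root_.mul_inv_rev, sq a ha, sq b hb] at this
    exact this.symm
  have cj : ∀ t : L, t * t = z → (x * t * x⁻¹) * (x * t * x⁻¹) = z := fun t ht => by
    calc _ = x * (t * t) * x⁻¹ := by group
      _ = z := by rw [ht, hz]
  obtain ⟨j, hj'⟩ : ∃ j, x * i * x⁻¹ = j := ⟨_, rfl⟩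
  have hj : j ∈ R := hj' ▸ hx i hi
  have jj : j * j = z := hj' ▸ cj i ii
  have kk := cj j jj
  have hk := hx j hj
  have hs := tr_fix h hx hz x3 hi
  rw [hj'] at hs
  have hs' := cases_z h (hf _ (mul_mem (mul_mem hi hj) hk) hs)
  obtain ⟨k, hk'⟩ : ∃ k, x * j * x⁻¹ = k := ⟨_, rfl⟩
  rw [hk'] at kk hk hs'
  have zc : ∀ t ∈ R, t * z = z * t := fun t ht => (h.commute_z ht).eq
  have inv : ∀ t : L, t * t = z → t⁻¹ = z * t := fun t ht =>
    inv_eq_of_mul_eq_one_left (by rw [mul_assoc, ht, z2])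
  have hkk : k = i * j ∨ k = z * (i * j) := by
    rcases hs' with e | e
    · right
      have e1 : i * j = k⁻¹ := eq_inv_of_mul_eq_one_left e
      rw [e1, inv k kk, ← mul_assoc, z2, one_mul]
    · left
      have e1 : i * j = z * k⁻¹ := eq_mul_inv_of_mul_eq e
      rw [e1, inv k kk, ← mul_assoc, z2, one_mul]
  have ijij : i * j * (i * j) = z := by
    rcases hkk with e | e
    · rw [← e, kk]
    · rw [e] at kk
      calc _ = z * (z * (i * j)) * (i * j) := by rw [← mul_assoc z z, z2, one_mul]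
        _ = z * (i * j * z) * (i * j) := by rw [zc _ (mul_mem hi hj)]
        _ = z * (i * j) * (z * (i * j)) := by group
        _ = z := kk
  have ij : i * j = z * (j * i) := by
    have e1 : i * j = z * (i * j)⁻¹ := eq_mul_inv_of_mul_eq ijij
    rw [e1, _root_.mul_inv_rev, inv j jj, inv i ii, mul_assoc z j, ← mul_assoc j z, zc j hj, mul_assoc z j,
      ← mul_assoc z z (j * i), z2, one_mul]
  refine ⟨i, hi, j, hj, ii, jj, ij, by rw [commutatorElement_def, ij]; group, hj', hk' ▸ hkk, fun y hy => ?_⟩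
  have y1 := mem_centralizer_singleton_iff.1 hy.1.2
  have y2 := mem_centralizer_singleton_iff.1 hy.2
  have cjc : ∀ t : L, y * t = t * y → Commute (x * y * x⁻¹) (x * t * x⁻¹) := fun t ht => by
    change _ * _ = _ * _
    calc _ = x * (y * t) * x⁻¹ := by group
      _ = _ := by rw [ht]; group
  have c1 := cjc i y1
  have c2 := cjc j y2
  rw [hj'] at c1
  rw [hk'] at c2
  have c3 := h.commute_z (hx y hy.1.1)
  refine ⟨⟨hx y hy.1.1, mem_centralizer_singleton_iff.2 ?_⟩, mem_centralizer_singleton_iff.2 c1.eq⟩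
  rcases hkk with e | e
  · have := (c2.mul_right c1.inv_right).eq
    rwa [e, mul_inv_cancel_right] at this
  · have := ((c3.inv_right.mul_right c2).mul_right c1.inv_right).eq
    rwa [e, inv_mul_cancel_left, mul_inv_cancel_right] at this

end Ga

theorem exists_six {L : Type u} [Group L] [Finite L] {R P : Subgroup L} {z x : L} (hR : ESZ 2 R z) (cR : Nat.card R = 128)
    (cP : Nat.card P = 81) (hn : P ≤ normalizer (R : Set L)) (hc : P ⊓ centralizer (R : Set L) = ⊥) (hx : x ∈ P)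
    (x3 : orderOf x = 3) (xc : ∀ g ∈ P, g * x = x * g) :
    ∃ i j : Fin 3 → L, Six z i j ∧ R = clos [i 0, j 0, i 1, j 1, i 2, j 2] ∧
      ∀ k, x * i k * x⁻¹ = j k ∧ (x * j k * x⁻¹ = i k * j k ∨ x * j k * x⁻¹ = z * (i k * j k)) := by
  have hxR : ∀ y ∈ R, x * y * x⁻¹ ∈ R := fun y hy => (mem_normalizer_iff.1 (hn hx) y).1 hy
  have hz := Ga.conj_z hR (hn hx)
  have x3' : x ^ 3 = 1 := x3 ▸ pow_orderOf_eq_one x
  have hf : ∀ y ∈ R, x * y = y * x → y ∈ zpowers z := fun y hy e =>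
    Ga.fpf hR cR cP hn hc hx x3 xc ▸ ⟨hy, mem_centralizer_singleton_iff.2 e.symm⟩
  obtain ⟨i0, hi0, j0, hj0, a1, a2, a3, a4, a5, a6, a7⟩ := Ga.split hR hxR hz x3' hf fun e => by
    rw [hR.eq_zpowers_iff_card, cR] at e; omega
  have e1 := hR.split hi0 hj0 a4
  have c1 := hR.card_split hi0 hj0 a4
  have s1 := hR.split_sup hi0 hj0 a4
  set R1 := R ⊓ centralizer {i0} ⊓ centralizer {j0} with hR1
  have l1 : R1 ≤ R := inf_le_left.trans inf_le_left
  obtain ⟨i1, hi1, j1, hj1, b1, b2, b3, b4, b5, b6, b7⟩ := Ga.split e1 a7 hz x3' (fun y hy => hf y (l1 hy)) fun e => by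
    rw [e1.eq_zpowers_iff_card] at e; omega
  have e2 := e1.split hi1 hj1 b4
  have c2 := e1.card_split hi1 hj1 b4
  have s2 := e1.split_sup hi1 hj1 b4
  set R2 := R1 ⊓ centralizer {i1} ⊓ centralizer {j1} with hR2
  have l2 : R2 ≤ R1 := inf_le_left.trans inf_le_left
  obtain ⟨i2, hi2, j2, hj2, d1, d2, d3, d4, d5, d6, -⟩ := Ga.split e2 b7 hz x3' (fun y hy => hf y (l1 (l2 hy))) fun e => by
    rw [e2.eq_zpowers_iff_card] at e; omega
  have e3 := e2.split hi2 hj2 d4
  have c3 := e2.card_split hi2 hj2 d4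
  have s3 := e2.split_sup hi2 hj2 d4
  rw [e3.eq_zpowers_iff_card.2 (by omega)] at s3
  have m := @mem_centralizer_singleton_iff L _
  have p1 := m.1 hi1.1.2
  have p2 := m.1 hi1.2
  have p3 := m.1 hj1.1.2
  have p4 := m.1 hj1.2
  have q1 := m.1 (l2 hi2).1.2
  have q2 := m.1 (l2 hi2).2
  have q3 := m.1 (l2 hj2).1.2
  have q4 := m.1 (l2 hj2).2
  have r1 := m.1 hi2.1.2
  have r2 := m.1 hi2.2
  have r3 := m.1 hj2.1.2
  have r4 := m.1 hj2.2
  refine ⟨![i0, i1, i2], ![j0, j1, j2], ⟨Ga.zz hR, hR.z_ne_one, fun k => ?_, fun k => ?_, fun k => ?_, fun k l hkl => ?_⟩,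
    le_antisymm ?_ (clos_le.2 ?_), fun k => ?_⟩
  · fin_cases k
    exacts [a1, b1, d1]
  · fin_cases k
    exacts [a2, b2, d2]
  · fin_cases k
    exacts [a3, b3, d3]
  · fin_cases k <;> fin_cases l
    exacts [absurd rfl hkl, ⟨p1.symm, p3.symm, p4.symm⟩, ⟨q1.symm, q3.symm, q4.symm⟩, ⟨p1, p2, p4⟩, absurd rfl hkl,
      ⟨r1.symm, r3.symm, r4.symm⟩, ⟨q1, q2, q4⟩, ⟨r1, r2, r4⟩, absurd rfl hkl]
  · change R ≤ clos [i0, j0, i1, j1, i2, j2]
    have mm : ∀ t ∈ [i0, j0, i1, j1, i2, j2], zpowers t ≤ clos [i0, j0, i1, j1, i2, j2] := fun t ht =>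
      Subgroup.zpowers_le.2 (mem_clos ht)
    rw [← s1, ← s2, ← s3]
    refine sup_le (sup_le (sup_le (sup_le (sup_le (sup_le ?_ (mm _ (by simp))) (mm _ (by simp))) (mm _ (by simp)))
      (mm _ (by simp))) (mm _ (by simp))) (mm _ (by simp))
    rw [← a1]
    exact Subgroup.zpowers_le.2 (mul_mem (mem_clos (by simp)) (mem_clos (by simp)))
  · change ∀ t ∈ [i0, j0, i1, j1, i2, j2], t ∈ R
    simp only [List.mem_cons, List.not_mem_nil, or_false]
    rintro t (rfl | rfl | rfl | rfl | rfl | rfl)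
    exacts [hi0, hj0, l1 hi1, l1 hj1, l1 (l2 hi2), l1 (l2 hj2)]
  · fin_cases k
    exacts [⟨a5, a6⟩, ⟨b5, b6⟩, ⟨d5, d6⟩]

end Cfsg.Agent.B3
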