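import Mathlib
import Cfsg.Agent.B3.Mod
import Cfsg.Agent.B3.Six

/-! Uniqueness of the faithful representation of a central product of three quaternion groups. -/

set_option autoImplicit false

namespace Cfsg.Agent.B3

open Cfsg.Agent.Spor Cfsg.Agent.Rec Cfsg.Agent.T3 Cfsg.Agent.GT.PG Subgroup Matrix

universe u

namespace Gb

/-- The six generators as one family. -/
def fam {α : Type*} (i j : Fin 3 → α) (a : Fin 3 × Bool) : α := if a.2 then j a.1 else i a.1

/-- The commutation signs. -/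
def sn (a b : Fin 3 × Bool) : ZMod 3 := if b = (a.1, !a.2) then -1 else 1

/-- The model. -/
def g0 : Fin 3 × Bool → M8 := fam
  ![kr !![0, 2, 0, 0; 1, 0, 0, 0; 0, 0, 0, 2; 0, 0, 1, 0] 1, kr !![0, 1, 0, 0; 2, 0, 0, 0; 0, 0, 0, 2; 0, 0, 1, 0] 1,
    kr 1 !![0, 2; 1, 0]]
  ![kr !![0, 0, 2, 0; 0, 0, 0, 1; 1, 0, 0, 0; 0, 2, 0, 0] 1, kr !![0, 0, 1, 0; 0, 0, 0, 1; 2, 0, 0, 0; 0, 2, 0, 0] 1,
    kr 1 !![1, 2; 2, 2]]

theorem g0_sq : ∀ a, g0 a * g0 a = -1 := by decide +kernel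

theorem g0_mul : ∀ a b, g0 a * g0 b = sn a b • (g0 b * g0 a) := by decide +kernel

theorem sn_pt : ∀ a b : Fin 3 × Bool, b ≠ a → sn b (a.1, !a.2) = 1 := by decide

theorem sn_comm : ∀ a b : Fin 3 × Bool, sn a b = sn b a := by decide

theorem exists_int {z : M8} {g : Fin 3 × Bool → M8} (zz : z * z = 1) (z1 : z ≠ 1) (sq : ∀ a, g a * g a = z)
    (hg : ∀ a b X, z * X = -X → g a * (g b * X) = sn a b • (g b * (g a * X))) (s : Finset (Fin 3 × Bool)) :
    ∃ X : M8, X ≠ 0 ∧ z * X = -X ∧ ∀ a ∈ s, g a * X = X * g0 a := by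
  induction s using Finset.induction_on with
  | empty => exact ⟨z - 1, sub_ne_zero.2 z1, by rw [mul_sub, zz, mul_one, neg_sub], by simp⟩
  | insert a s ha ih =>
    obtain ⟨X, X0, hz, hX⟩ := ih
    have e1 : g a * (g a * X) = -X := by rw [← mul_assoc, sq, hz]
    by_cases h : X - g a * X * g0 a = 0
    · have e : g a * X = -(X * g0 a) := by
        conv_lhs => rw [sub_eq_zero.1 h, ← mul_assoc, e1, neg_mul]
      refine ⟨X * g0 (a.1, !a.2), fun e => X0 ?_, by rw [← mul_assoc, hz, neg_mul], fun b hb => ?_⟩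
      · rw [← neg_eq_zero, ← mul_neg_one, ← g0_sq (a.1, !a.2), ← mul_assoc, e, zero_mul]
      rcases Finset.mem_insert.1 hb with rfl | hb
      · rw [← mul_assoc, e, neg_mul, mul_assoc, g0_mul, mul_assoc]
        simp [sn]
      · rw [← mul_assoc, hX b hb, mul_assoc, g0_mul, sn_pt a b fun e => ha (e ▸ hb), one_smul, mul_assoc]
    refine ⟨_, h, ?_, fun b hb => ?_⟩
    · rw [mul_sub, hz, ← mul_assoc, ← mul_assoc, ← sq a, mul_assoc (g a) (g a), mul_assoc (g a), sq, hz]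
      simp [sub_eq_add_neg, add_comm]
    rcases Finset.mem_insert.1 hb with rfl | hb
    · rw [mul_sub, sub_mul, ← mul_assoc, e1, mul_assoc (g b * X), g0_sq]
      simp [sub_eq_add_neg, add_comm]
    · rw [mul_sub, sub_mul, ← mul_assoc, hg b a X hz, hX b hb, mul_assoc (g a * X), g0_mul a b]
      simp only [smul_mul_assoc, mul_smul_comm, mul_assoc, sn_comm a b]

end Gb

open Gb

theorem Six.exists_P {z : Γ} {i j : Fin 3 → Γ} (h : Six z i j) :
    ∃ P : Γ, P * i 0 * P⁻¹ = gI1 ∧ P * j 0 * P⁻¹ = gJ1 ∧ P * i 1 * P⁻¹ = gI2 ∧ P * j 1 * P⁻¹ = gJ2 ∧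
      P * i 2 * P⁻¹ = gI3 ∧ P * j 2 * P⁻¹ = gJ3 ∧ P * z * P⁻¹ = -1 := by
  have sq : ∀ a, fam i j a * fam i j a = z := by
    rintro ⟨k, _ | _⟩
    exacts [h.ii k, h.jj k]
  have cz : ∀ a, z * fam i j a = fam i j a * z := fun a => by rw [← sq a, mul_assoc]
  have hg : ∀ a b, fam i j a * fam i j b = fam i j b * fam i j a * if b = (a.1, !a.2) then z else 1 := by
    rintro ⟨k, c⟩ ⟨l, d⟩
    by_cases e : k = l
    · subst e
      have h1 : i k * j k = j k * i k * z := by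
        rw [h.ij, ← mul_assoc, show z * j k = j k * z from cz (k, true), mul_assoc,
          show z * i k = i k * z from cz (k, false), mul_assoc]
      have h2 : j k * i k = i k * j k * z := by rw [h1, mul_assoc _ z, h.zz, mul_one]
      cases c <;> cases d <;> simp [fam]
      exacts [h1, h2]
    · rw [if_neg fun e' => e (congrArg Prod.fst e').symm, mul_one]
      cases c <;> cases d <;> simp [fam]
      exacts [(h.cc k l e).1, (h.cc k l e).2.1, (h.cc l k (Ne.symm e)).2.1.symm, (h.cc k l e).2.2]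
  obtain ⟨T, T0, hz, hT⟩ := exists_int (z := z) (g := fun a => (fam i j a : Γ)) (congrArg Units.val h.zz)
    (fun e => h.z1 (Units.ext e)) (fun a => congrArg Units.val (sq a)) (fun a b X hX => by
      rw [← mul_assoc, ← Units.val_mul, hg, sn]
      split_ifs <;> simp [mul_assoc, hX]) Finset.univ
  have e : ∀ a, g0 a = (fam ![gI1, gI2, gI3] ![gJ1, gJ2, gJ3] a : Γ) := by
    rintro ⟨k, _ | _⟩ <;> fin_cases k
    exacts [gI1_val.symm, gI2_val.symm, gI3_val.symm, gJ1_val.symm, gJ2_val.symm, gJ3_val.symm]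
  simp only [Finset.mem_univ, forall_true_left, e] at hT
  have hk : LinearMap.ker T.mulVecLin = ⊥ := by
    refine (irr _ fun g hg v hv => ?_).resolve_right fun e => T0 ?_
    · obtain ⟨a, rfl⟩ : ∃ a, fam ![gI1, gI2, gI3] ![gJ1, gJ2, gJ3] a = g := by
        simp only [List.mem_cons, List.not_mem_nil, or_false] at hg
        rcases hg with rfl | rfl | rfl | rfl | rfl | rfl
        exacts [⟨(0, false), rfl⟩, ⟨(0, true), rfl⟩, ⟨(1, false), rfl⟩, ⟨(1, true), rfl⟩, ⟨(2, false), rfl⟩,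
          ⟨(2, true), rfl⟩]
      rw [LinearMap.mem_ker, mulVecLin_apply] at hv ⊢
      rw [mulVec_mulVec, ← hT, ← mulVec_mulVec, hv, mulVec_zero]
    · exact ext_iff_mulVec.2 fun v => by
        rw [zero_mulVec]; exact (show v ∈ LinearMap.ker T.mulVecLin from e ▸ Submodule.mem_top)
  obtain ⟨T, rfl⟩ : IsUnit T := mulVec_injective_iff_isUnit.1 (LinearMap.ker_eq_bot.1 hk)
  have key : ∀ {x y : Γ}, (x : M8) * T = T * y → T⁻¹ * x * T⁻¹⁻¹ = y := fun e => by
    rw [inv_inv, mul_assoc, inv_mul_eq_iff_eq_mul]; exact Units.ext e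
  exact ⟨T⁻¹, key (hT (0, false)), key (hT (0, true)), key (hT (1, false)), key (hT (1, true)),
    key (hT (2, false)), key (hT (2, true)), key (by simpa using hz)⟩

end Cfsg.Agent.B3
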