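import Mathlib
import Cfsg.Agent.B3.Bas
import Cfsg.Agent.GT.PGroupElemAb

/-! Linear coordinates (see `stubs/Cfsg/Agent/B3/PLAN.md`). -/

set_option autoImplicit false
set_option linter.unusedSectionVars false

namespace Cfsg.Agent.B3

open Cfsg.Agent.Spor Cfsg.Agent.Rec Cfsg.Agent.T3 Cfsg.Agent.GT.PG Subgroup Matrix
open scoped commutatorElement

universe u

variable {G : Type u} [Group G] [Finite G] {a : G}

namespace Lin

theorem exists_vec (esz : ESZ 3 (Q3 a) a) (card : Nat.card (Q3 a) = 3 ^ 9) (cube : ∀ q ∈ Q3 a, q ^ 3 = 1) :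
    ∃ vec : G → W8, (∀ p ∈ Q3 a, ∀ q ∈ Q3 a, vec (p * q) = vec p + vec q) ∧
      (∀ q ∈ Q3 a, vec q = 0 ↔ q ∈ zpowers a) ∧ ∀ w, ∃ q ∈ Q3 a, vec q = w := by
  classical
  set Z : Subgroup (Q3 a) := (zpowers a).subgroupOf (Q3 a)
  have hn : Z.Normal := ⟨fun z hz g => by
    rw [mem_subgroupOf] at hz ⊢
    rw [coe_mul, coe_mul, coe_inv, (esz.commute_of_mem_zpowers g.2 hz).eq, mul_inv_cancel_right]
    exact hz⟩
  have hc : IsMulCommutative (Q3 a ⧸ Z) := ⟨⟨fun x y => by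
    induction x using QuotientGroup.induction_on with | H x => ?_
    induction y using QuotientGroup.induction_on with | H y => ?_
    rw [← QuotientGroup.mk_mul, ← QuotientGroup.mk_mul, QuotientGroup.eq, mem_subgroupOf]
    have := esz.comm_mem _ (inv_mem y.2) _ (inv_mem x.2)
    rw [commutatorElement_def, inv_inv, inv_inv] at this
    simpa [mul_assoc] using this⟩⟩
  have h3 : ∀ x : Q3 a ⧸ Z, x ^ 3 = 1 := fun x => by
    induction x using QuotientGroup.induction_on with | H x => ?_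
    rw [← QuotientGroup.mk_pow, show x ^ 3 = 1 from Subtype.ext (cube x x.2), QuotientGroup.mk_one]
  have h8 : Nat.card (Q3 a ⧸ Z) = 3 ^ 8 := by
    have := Z.card_eq_card_quotient_mul_card_subgroup
    rw [card, Nat.card_congr (subgroupOfEquivOfLe esz.zpowers_le).toEquiv, esz.card_zpowers] at this
    omega
  obtain ⟨e⟩ := nonempty_mulEquiv_pi_zmod hc h3 h8
  refine ⟨fun q => if h : q ∈ Q3 a then fun i => (e (⟨q, h⟩ : Q3 a)).toAdd (finProdFinEquiv i) else 0,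
    fun p hp q hq => ?_, fun q hq => ?_, fun w => ?_⟩
  · simp only [dif_pos hp, dif_pos hq, dif_pos (mul_mem hp hq)]
    funext i
    rw [show (⟨p * q, mul_mem hp hq⟩ : Q3 a) = ⟨p, hp⟩ * ⟨q, hq⟩ from rfl, QuotientGroup.mk_mul, map_mul, toAdd_mul]
    rfl
  · simp only [dif_pos hq]
    rw [show q ∈ zpowers a ↔ (⟨q, hq⟩ : Q3 a) ∈ Z from Iff.rfl, ← QuotientGroup.eq_one_iff, ← e.map_eq_one_iff,
      ← toAdd_eq_zero]
    refine ⟨fun h => funext fun i => ?_, fun h => funext fun i => congrFun h _⟩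
    have := congrFun h ((finProdFinEquiv (m := 4) (n := 2)).symm i)
    rwa [Equiv.apply_symm_apply] at this
  · obtain ⟨x, hx⟩ := QuotientGroup.mk_surjective
      (e.symm (Multiplicative.ofAdd fun i => w ((finProdFinEquiv (m := 4) (n := 2)).symm i)))
    refine ⟨x, x.2, funext fun i => ?_⟩
    simp only [dif_pos x.2, Subtype.coe_eta, hx, MulEquiv.apply_symm_apply, toAdd_ofAdd, Equiv.symm_apply_apply]

theorem m8_ext {m n : M8} (h : ∀ v, m *ᵥ v = n *ᵥ v) : m = n := by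
  ext i j
  have := congrFun (h (Pi.single j 1)) i
  simpa [Matrix.mulVec_single_one] using this

theorem sf8_nd {u : W8} (h : ∀ v, sf8 v u = 0) : u = 0 := by
  funext ⟨p, s⟩
  have h0 := h (Pi.single (p, 0) 1)
  have h1 := h (Pi.single (p, 1) 1)
  simp only [sf8, Pi.single_apply, Prod.mk.injEq] at h0 h1
  fin_cases s
  · simpa using h1
  · simpa using h0

/-- A bilinear form in terms of the symplectic form. -/
theorem exists_mat (B : W8 →ₗ[ZMod 3] W8 →ₗ[ZMod 3] ZMod 3) : ∃ m : M8, ∀ v w, B v w = sf8 v (m *ᵥ w) := by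
  let L : W8 →ₗ[ZMod 3] W8 := LinearMap.pi fun i =>
    if i.2 = 1 then B (Pi.single (i.1, 0) 1) else -B (Pi.single (i.1, 1) 1)
  refine ⟨LinearMap.toMatrix' L, fun v w => ?_⟩
  rw [LinearMap.toMatrix'_mulVec]
  conv_lhs => rw [pi_eq_sum_univ' v]
  simp only [map_sum, map_smul, LinearMap.sum_apply, LinearMap.smul_apply, Fintype.sum_prod_type, Fin.sum_univ_two, sf8,
    L, LinearMap.pi_apply, smul_eq_mul]
  refine Finset.sum_congr rfl fun p _ => ?_
  simp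

end Lin

open Lin

theorem exists_B0 (esz : ESZ 3 (Q3 a) a) (card : Nat.card (Q3 a) = 3 ^ 9) (cube : ∀ q ∈ Q3 a, q ^ 3 = 1)
    (cen : centralizer (Q3 a : Set G) ≤ zpowers a) : Nonempty (B0 a) := by
  obtain ⟨vec, hm, hz, hs⟩ := exists_vec esz card cube
  choose sec hq hv using hs
  have v1 : vec 1 = 0 := (hz 1 (one_mem _)).2 (one_mem _)
  have vi : ∀ q ∈ Q3 a, vec q⁻¹ = - vec q := fun q h => by
    rw [eq_neg_iff_add_eq_zero, ← hm _ (inv_mem h) _ h, inv_mul_cancel, v1]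
  have wd : ∀ g, g * a = a * g → ∀ q ∈ Q3 a, vec (g * sec (vec q) * g⁻¹) = vec (g * q * g⁻¹) := fun g hg q h => by
    have h1 : sec (vec q) * q⁻¹ ∈ zpowers a := by
      rw [← hz _ (mul_mem (hq _) (inv_mem h)), hm _ (hq _) _ (inv_mem h), hv, vi q h, add_neg_cancel]
    have : g * sec (vec q) * g⁻¹ = sec (vec q) * q⁻¹ * (g * q * g⁻¹) := by
      rw [← conj_z hg h1]; group
    rw [this, hm _ (esz.zpowers_le h1) _ (F3.b_cjQ hg h), (hz _ (esz.zpowers_le h1)).2 h1, zero_add]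
  let φ : centralizer ({a} : Set G) → W8 →+ W8 := fun g => AddMonoidHom.mk' (fun w => vec (g * sec w * (g : G)⁻¹))
    fun v w => by
      have hg := mem_cen.1 g.2
      have := wd g hg _ (mul_mem (hq v) (hq w))
      rw [hm _ (hq v) _ (hq w), hv, hv] at this
      rw [this, ← hm _ (F3.b_cjQ hg (hq v)) _ (F3.b_cjQ hg (hq w))]
      congr 1; group
  let M : centralizer ({a} : Set G) → M8 := fun g => LinearMap.toMatrix' ((φ g).toZModLinearMap 3)
  have act : ∀ g : centralizer ({a} : Set G), ∀ q ∈ Q3 a, vec (g * q * (g : G)⁻¹) = M g *ᵥ vec q := fun g q h => by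
    rw [LinearMap.toMatrix'_mulVec, ← wd g (mem_cen.1 g.2) q h]; rfl
  let ψ : centralizer ({a} : Set G) →* M8 :=
    { toFun := M
      map_one' := m8_ext fun v => by rw [← hv v, ← act 1 _ (hq v), Matrix.one_mulVec]; simp
      map_mul' := fun g h => m8_ext fun v => by
        rw [← hv v, ← Matrix.mulVec_mulVec, ← act _ _ (hq v), ← act _ _ (hq v),
          ← act _ _ (F3.b_cjQ (mem_cen.1 h.2) (hq v))]
        congr 1; simp [mul_assoc] }
  refine ⟨⟨vec, ψ.toHomUnits, esz, card, cube, cen, hm, hz, fun w => ⟨_, hq w, hv w⟩, act, fun g => ⟨fun h => ?_, fun h => ?_⟩⟩⟩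
  · have h1 : M g = 1 := congrArg Units.val h
    have hg := mem_cen.1 g.2
    exact sup_le le_rfl (cen.trans esz.zpowers_le) (esz.mem_sup_centralizer hg fun q k => by
      rw [commutatorElement_def, ← hz _ (mul_mem (F3.b_cjQ hg k) (inv_mem k)), hm _ (F3.b_cjQ hg k) _ (inv_mem k), vi q k,
        act g q k, h1, Matrix.one_mulVec, add_neg_cancel])
  · refine Units.ext (m8_ext fun v => ?_)
    change M g *ᵥ v = 1 *ᵥ v
    rw [← hv v, ← act _ _ (hq v), Matrix.one_mulVec, hm _ (mul_mem h (hq v)) _ (inv_mem h), hm _ h _ (hq v), vi _ h]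
    abel

theorem B0.exists_base (F : B0 a) (P : Γ) :
    ∃ F' : B0 a, (∀ q, F'.vec q = (P : M8) *ᵥ F.vec q) ∧ ∀ g, F'.mt g = P * F.mt g * P⁻¹ := by
  have c : ∀ v : W8, ((P⁻¹ : Γ) : M8) *ᵥ ((P : M8) *ᵥ v) = v := fun v => by
    rw [Matrix.mulVec_mulVec, Units.inv_mul, Matrix.one_mulVec]
  have c' : ∀ v : W8, (P : M8) *ᵥ (((P⁻¹ : Γ) : M8) *ᵥ v) = v := fun v => by
    rw [Matrix.mulVec_mulVec, Units.mul_inv, Matrix.one_mulVec]
  refine ⟨⟨fun q => (P : M8) *ᵥ F.vec q, (MulAut.conj P).toMonoidHom.comp F.mt, F.esz, F.card, F.cube, F.cen,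
    fun p hp q hq => ?_, fun q hq => ?_, fun w => ?_, fun g q hq => ?_, fun g => ?_⟩, fun _ => rfl, fun _ => rfl⟩
  · rw [F.vec_mul p hp q hq, Matrix.mulVec_add]
  · rw [← F.vec_eq_zero q hq]
    exact ⟨fun h => by rw [← c (F.vec q), h, Matrix.mulVec_zero], fun h => by rw [h, Matrix.mulVec_zero]⟩
  · obtain ⟨q, hq, e⟩ := F.vec_surj (((P⁻¹ : Γ) : M8) *ᵥ w)
    exact ⟨q, hq, by rw [e, c']⟩
  · change _ = ((P * F.mt g * P⁻¹ : Γ) : M8) *ᵥ _
    rw [F.act g q hq, Units.val_mul, Units.val_mul, ← Matrix.mulVec_mulVec, c, ← Matrix.mulVec_mulVec]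
  · rw [← F.ker g]
    exact (MulAut.conj P).map_eq_one_iff

theorem B0.exists_inv (F : B0 a) : ∃ F' : B0 a⁻¹, F'.vec = F.vec ∧ F'.mt.range = F.mt.range := by
  have hq := LB.Q3_inv a
  have le : centralizer ({a⁻¹} : Set G) ≤ centralizer {a} := fun g hg => mem_cen.2 (LB.comm_inv.1 (mem_cen.1 hg))
  refine ⟨⟨F.vec, F.mt.comp (inclusion le), ?_, by rw [hq, F.card], hq ▸ F.cube, by rw [hq, zpowers_inv]; exact F.cen,
    hq ▸ F.vec_mul, by rw [hq, zpowers_inv]; exact F.vec_eq_zero, hq ▸ F.vec_surj,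
    fun g q h => F.act (inclusion le g) q (hq ▸ h), fun g => by rw [hq]; exact F.ker (inclusion le g)⟩, rfl, ?_⟩
  · rw [hq]
    refine ⟨by rw [orderOf_inv, F.esz.orderOf_z], ?_, ?_, ?_⟩ <;> rw [zpowers_inv]
    exacts [F.esz.comm_mem, F.esz.pow_mem, F.esz.center_eq]
  · ext x
    exact ⟨fun ⟨g, h⟩ => ⟨_, h⟩, fun ⟨g, h⟩ => ⟨⟨g, mem_cen.2 (LB.comm_inv.2 (mem_cen.1 g.2))⟩, h⟩⟩

theorem B0.comm_or (F : B0 a) (h : R0 ≤ F.mt.range) :
    (∀ p ∈ Q3 a, ∀ q ∈ Q3 a, p * q * p⁻¹ * q⁻¹ = a ^ (sf8 (F.vec p) (F.vec q)).val) ∨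
      ∀ p ∈ Q3 a, ∀ q ∈ Q3 a, p * q * p⁻¹ * q⁻¹ = a⁻¹ ^ (sf8 (F.vec p) (F.vec q)).val := by
  choose sec hq hv using F.vec_surj
  have wl : ∀ p ∈ Q3 a, ∀ p' ∈ Q3 a, ∀ q ∈ Q3 a, F.vec p = F.vec p' → om a p q = om a p' q := fun p hp p' hp' q k e => by
    have h1 := (F.vec_eq hp hp').1 e
    rw [← inv_mul_cancel_right p p', om_mul_left F.esz (F.esz.zpowers_le h1) hp' k, om_z_left F.esz h1 k, zero_add]
  have wr : ∀ p ∈ Q3 a, ∀ p' ∈ Q3 a, ∀ q ∈ Q3 a, F.vec p = F.vec p' → om a q p = om a q p' := fun p hp p' hp' q k e => by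
    rw [om_swap F.esz hp k, om_swap F.esz hp' k, wl p hp p' hp' q k e]
  let B : W8 →ₗ[ZMod 3] W8 →ₗ[ZMod 3] ZMod 3 := LinearMap.mk₂ (ZMod 3) (fun v w => om a (sec v) (sec w))
    (fun u v w => by
      rw [← om_mul_left F.esz (hq u) (hq v) (hq w)]
      exact wl _ (hq _) _ (mul_mem (hq u) (hq v)) _ (hq w) (by rw [F.vec_mul _ (hq u) _ (hq v), hv, hv, hv]))
    (fun c v w => by
      rw [smul_eq_mul, mul_comm, ← om_pow_left F.esz (hq v) (hq w)]
      exact wl _ (hq _) _ (pow_mem (hq v) _) _ (hq w) (by rw [F.vec_pow (hq v), hv, hv]))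
    (fun u v w => by
      rw [← om_mul_right F.esz (hq u) (hq v) (hq w)]
      exact wr _ (hq _) _ (mul_mem (hq v) (hq w)) _ (hq u) (by rw [F.vec_mul _ (hq v) _ (hq w), hv, hv, hv]))
    (fun c v w => by
      rw [smul_eq_mul, mul_comm, ← om_pow_right F.esz (hq v) (hq w)]
      exact wr _ (hq _) _ (pow_mem (hq w) _) _ (hq v) (by rw [F.vec_pow (hq w), hv, hv]))
  have hB : ∀ p ∈ Q3 a, ∀ q ∈ Q3 a, B (F.vec p) (F.vec q) = om a p q := fun p hp q k =>
    (wl _ (hq _) _ hp _ (hq _) (hv _)).trans (wr _ (hq _) _ k _ hp (hv _))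
  have inv : ∀ r ∈ R0, ∀ v w, B ((r : M8) *ᵥ v) ((r : M8) *ᵥ w) = B v w := fun r hr v w => by
    obtain ⟨g, hg, rfl⟩ := F.exists_m (h hr)
    rw [← hv v, ← hv w, ← F.m_act hg (hq v), ← F.m_act hg (hq w), hB _ (F.cjQ hg (hq v)) _ (F.cjQ hg (hq w)),
      hB _ (hq v) _ (hq w), om_conj F.esz hg (hq v) (hq w)]
  obtain ⟨m, hm⟩ := exists_mat B
  obtain ⟨c, rfl⟩ := scalar m fun r hr => m8_ext fun w => by
    have hr' : r ∈ R0 := subset_closure hr
    rw [← sub_eq_zero]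
    refine sf8_nd fun v => ?_
    have e : (r : M8) *ᵥ (((r⁻¹ : Γ) : M8) *ᵥ v) = v := by rw [Matrix.mulVec_mulVec, Units.mul_inv, Matrix.one_mulVec]
    rw [sub_eq_add_neg, sf8_add_right, ← neg_one_smul (ZMod 3) ((r * m : M8) *ᵥ w), sf8_smul_right,
      ← Matrix.mulVec_mulVec, ← Matrix.mulVec_mulVec, ← hm, ← e, inv r hr', R0_le_Sp hr', hm]
    ring
  have key : ∀ p ∈ Q3 a, ∀ q ∈ Q3 a, p * q * p⁻¹ * q⁻¹ = a ^ (c * sf8 (F.vec p) (F.vec q)).val := fun p hp q k => by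
    rw [← sf8_smul_right, ← Matrix.one_mulVec (F.vec q), ← Matrix.smul_mulVec, ← hm, hB p hp q k]
    exact (lg_spec F.esz.orderOf_z (F.esz.comm_mem p hp q k)).symm
  have c0 : c ≠ 0 := fun c0 => by
    have := F.card_le_of_comm le_rfl fun p hp q k => by
      have := key p hp q k
      rwa [c0, zero_mul, ZMod.val_zero, pow_zero, mul_inv_eq_one, mul_inv_eq_iff_eq_mul] at this
    rw [F.card] at this
    omega
  have : c = 1 ∨ c = -1 := by revert c0; generalize c = c; revert c; decide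
  rcases this with rfl | rfl
  · exact Or.inl fun p hp q k => by rw [key p hp q k, one_mul]
  · exact Or.inr fun p hp q k => by rw [key p hp q k, neg_one_mul, pow_val_neg F.esz.z_pow, inv_pow]

end Cfsg.Agent.B3
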