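import Mathlib
import Cfsg.Agent.B3.Lin
import Cfsg.Agent.B3.Gensa
import Cfsg.Agent.B3.Gensb
import Cfsg.Agent.Hay.Sp
import Cfsg.Agent.Rec.S43.Main
import Cfsg.Prelude.Def_Local
import Cfsg.Prelude.Def_Classical
import Cfsg.Prelude.Def_Solvable

/-! From the hypotheses of S2914, S2915 to `B8` (see `stubs/Cfsg/Agent/B3/PLAN.md`). -/

set_option autoImplicit false

namespace Cfsg.Agent.B3

open Cfsg.Agent.Spor Cfsg.Agent.Rec Cfsg.Agent.T3 Cfsg.Agent.GT.PG Subgroup Matrix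
open scoped commutatorElement

universe u

namespace St

theorem exists_syl {H : Type*} [Group H] [Finite H] {L T : Subgroup H} (h4 : 3 ^ 4 ∣ Nat.card L)
    (h5 : ¬ 3 ^ 5 ∣ Nat.card L) (hT : T ≤ L) (h3 : IsPGroup 3 T) : ∃ P : Subgroup H, T ≤ P ∧ P ≤ L ∧ Nat.card P = 81 := by
  obtain ⟨S, hS⟩ := (h3.comap_of_injective L.subtype L.subtype_injective).exists_le_sylow
  refine ⟨(S : Subgroup L).map L.subtype, fun t ht => ⟨⟨t, hT ht⟩, hS ht, rfl⟩, map_subtype_le _, ?_⟩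
  have h0 : Nat.card L ≠ 0 := Nat.card_pos.ne'
  rw [Nat.prime_three.pow_dvd_iff_le_factorization h0] at h4 h5
  rw [card_map_of_injective L.subtype_injective, S.card_eq_multiplicity,
    show (Nat.card L).factorization 3 = 4 by omega]; norm_num

theorem mem_of_cube {H : Type*} [Group H] [Finite H] {L N : Subgroup H} (hL : L ≤ N) (h : Nat.card N ≤ 2 * Nat.card L)
    {g : H} (hg : g ∈ N) (h3 : g ^ 3 = 1) : g ∈ L := by
  have h1 := (L.subgroupOf N).card_mul_index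
  rw [Nat.card_congr (subgroupOfEquivOfLe hL).toEquiv] at h1
  have h0 : 0 < Nat.card L := Nat.card_pos
  have h2 : (L.subgroupOf N).index ≠ 0 := index_ne_zero_of_finite
  have h4 : (L.subgroupOf N).index ≤ 2 := by nlinarith
  rcases (show (L.subgroupOf N).index = 1 ∨ (L.subgroupOf N).index = 2 by omega) with e | e
  · exact (mem_subgroupOf (h := ⟨g, hg⟩)).1 (index_eq_one.1 e ▸ mem_top _)
  · have := mul_self_mem_of_index_two e (⟨g, hg⟩ * ⟨g, hg⟩)
    rw [mem_subgroupOf] at this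
    have e4 : g * g * (g * g) = g := by
      calc _ = g ^ 3 * g := by simp [pow_succ, mul_assoc]
        _ = g := by rw [h3, one_mul]
    exact e4 ▸ this

/-- A Sylow 3-subgroup of `L` and a central element of order three. -/
theorem exists_Px {H : Type*} [Group H] [Finite H] {L R : Subgroup H} {z : H} (hR : ESZ 2 R z)
    (nR : L ≤ normalizer (R : Set H))
    (h : (Nat.card L = 82944 ∧ ∃ x ∈ L, x ∉ R ∧ x ^ 3 ∈ R ∧ ∀ m ∈ L, m * x * m⁻¹ * x⁻¹ ∈ R) ∨ Nat.card L = 3317760) :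
    ∃ (P : Subgroup H) (x : H), P ≤ L ∧ Nat.card P = 81 ∧ P ⊓ R = ⊥ ∧ x ∈ P ∧ orderOf x = 3 ∧ (∀ g ∈ P, g * x = x * g) ∧
      (Nat.card L = 82944 → ∀ m ∈ L, m * x * m⁻¹ * x⁻¹ ∈ R) := by
  have dis : ∀ P : Subgroup H, Nat.card P = 81 → P ⊓ R = ⊥ := fun P hP => by
    obtain ⟨n, hn⟩ := hR.isPGroup.exists_card_eq
    exact (disjoint_of_coprime_natCard (by rw [hP, hn]; exact Nat.Coprime.pow_right n (by norm_num))).eq_bot
  rcases h with ⟨h, x, hx, xR, x3, xc⟩ | h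
  · have x12 : (x ^ 4) ^ 3 = 1 := by rw [← hR.pow_sq_eq_one x3, ← pow_mul, ← pow_mul]; norm_num
    have e4 : x ^ 4 = x * x ^ 3 := by rw [← pow_succ']
    have ord : orderOf (x ^ 4) = 3 := orderOf_eq_prime x12 fun e => xR (by
      rw [e4] at e
      rw [eq_inv_of_mul_eq_one_left e]; exact inv_mem x3)
    have hc : ∀ m ∈ L, m * x ^ 4 * m⁻¹ * (x ^ 4)⁻¹ ∈ R := fun m hm => by
      have : m * x ^ 4 * m⁻¹ * (x ^ 4)⁻¹ = (m * x * m⁻¹ * x⁻¹) * (x * (m * x ^ 3 * m⁻¹ * (x ^ 3)⁻¹) * x⁻¹) := by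
        rw [e4]; group
      rw [this]
      exact mul_mem (xc m hm) ((mem_normalizer_iff.1 (nR hx) _).1
        (mul_mem ((mem_normalizer_iff.1 (nR hm) _).1 x3) (inv_mem x3)))
    obtain ⟨P, h1, h2, h3⟩ := exists_syl (L := L) (T := zpowers (x ^ 4))
      (by rw [h]; norm_num) (by rw [h]; norm_num)
      (Subgroup.zpowers_le.2 (pow_mem hx 4)) (IsPGroup.of_card (n := 1) (by rw [Nat.card_zpowers, ord]; rfl))
    have xP := h1 (mem_zpowers _)
    refine ⟨P, x ^ 4, h2, h3, dis P h3, xP, ord, fun g hg => ?_, fun _ => hc⟩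
    have : g * x ^ 4 * g⁻¹ * (x ^ 4)⁻¹ ∈ P ⊓ R :=
      ⟨P.mul_mem (P.mul_mem (P.mul_mem hg xP) (P.inv_mem hg)) (P.inv_mem xP), hc g (h2 hg)⟩
    rw [dis P h3, mem_bot] at this
    exact commutatorElement_eq_one_iff_mul_comm.1 this
  · obtain ⟨P, -, h2, h3⟩ := exists_syl (L := L) (T := ⊥)
      (by rw [h]; norm_num) (by rw [h]; norm_num)
      bot_le IsPGroup.of_bot
    have hP : IsPGroup 3 P := IsPGroup.of_card (n := 4) h3
    have : Nontrivial P := Finite.one_lt_card_iff_nontrivial.1 (by omega)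
    have := hP.center_nontrivial
    obtain ⟨n, hn0, hn⟩ := (hP.to_subgroup (center P)).nontrivial_iff_card.1 this
    obtain ⟨x, hx⟩ := exists_prime_orderOf_dvd_card' (G := center P) 3 (hn ▸ dvd_pow_self 3 hn0.ne')
    refine ⟨P, x, h2, h3, dis P h3, x.1.2, by rw [orderOf_coe, orderOf_coe, hx], fun g hg => ?_, fun e => by omega⟩
    exact congrArg Subtype.val (mem_center_iff.1 x.2 ⟨g, hg⟩)

/-- An element acting on the generators like `om0` up to sign lies in the coset of `om0`. -/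
theorem mem_coset (hR : ESZ 2 R0 (-1)) {x : Γ}
    (h : ∀ g ∈ [gI1, gJ1, gI2, gJ2, gI3, gJ3], x * g * x⁻¹ = om0 * g * om0⁻¹ ∨ x * g * x⁻¹ = -(om0 * g * om0⁻¹)) :
    om0⁻¹ * x ∈ R0 := by
  have cz : ∀ c ∈ zpowers (-1 : Γ), ∀ g : Γ, g * c = c * g := fun c hc g => by
    rcases Ga.cases_z hR hc with rfl | rfl <;> simp
  let K : Subgroup Γ :=
    { carrier := {q | ⁅om0⁻¹ * x, q⁆ ∈ zpowers (-1 : Γ)}
      one_mem' := by simp
      mul_mem' := fun {p q} hp hq => by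
        have : ⁅om0⁻¹ * x, p * q⁆ = ⁅om0⁻¹ * x, p⁆ * (p * ⁅om0⁻¹ * x, q⁆ * p⁻¹) := by
          simp only [commutatorElement_def]; group
        change _ ∈ zpowers _
        rw [this, cz _ hq, mul_inv_cancel_right]
        exact mul_mem hp hq
      inv_mem' := fun {p} hp => by
        have : ⁅om0⁻¹ * x, p⁻¹⁆ = p⁻¹ * ⁅om0⁻¹ * x, p⁆⁻¹ * p := by
          simp only [commutatorElement_def]; group
        change _ ∈ zpowers _
        rw [this, cz _ (inv_mem hp), inv_mul_cancel_right]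
        exact inv_mem hp }
  have hK : R0 ≤ K := clos_le.2 fun g hg => by
    have : ⁅om0⁻¹ * x, g⁆ = om0⁻¹ * (x * g * x⁻¹) * om0 * g⁻¹ := by simp only [commutatorElement_def]; group
    change _ ∈ zpowers _
    rw [this]
    rcases h g hg with e | e
    · rw [e]; simp [mul_assoc]
    · rw [e]; simp [mul_assoc]
  refine (sup_le le_rfl fun m hm => ?_ : R0 ⊔ centralizer (R0 : Set Γ) ≤ R0)
    (hR.mem_sup_centralizer (by simp) hK)
  rcases cen_R0 fun r hr => (hm r hr).symm with rfl | rfl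
  exacts [one_mem _, neg_mem_R0]

theorem om0_mem : om0 ∈ normalizer (R0 : Set Γ) :=
  (X0_le_NU (mul_mem (mul_mem (mem_clos (by simp)) (mem_clos (by simp))) (mem_clos (by simp)))).1

theorem card_cen_psp {F : Type} [Field F] [Fintype F] (hF : Fintype.card F = 3) {x : Cfsg.PSp 2 F} (hx : x ≠ 1)
    (P : Sylow 3 (Cfsg.PSp 2 F)) (hP : (P : Subgroup (Cfsg.PSp 2 F)) ≤ centralizer ({x} : Set (Cfsg.PSp 2 F))) :
    Nat.card (centralizer ({x} : Set (Cfsg.PSp 2 F))) = 648 := by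
  have hF' : Nat.card F = 3 ^ 1 := by rw [Nat.card_eq_fintype_card, hF]; rfl
  have h2 := Hay.two_ne_zero_of_card (by norm_num) hF'
  obtain ⟨g, a, rfl⟩ := (Hay.spSetup h2).exists_conj_of_central hF' P fun y hy =>
    mem_centralizer_singleton_iff.1 (hP hy)
  set T := (Hay.spSetup h2).conj g
  have ha : a ≠ 0 := by rintro rfl; simp [Hay.zz_zero] at hx
  have hT : T.φ.range = centralizer {g * (Hay.spSetup h2).φ (Hay.zz a) * g⁻¹} := by
    ext y
    rw [mem_centralizer_singleton_iff]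
    exact ⟨fun hy => (T.comm_of_mem (T.zz_mem_Z a) hy).symm, T.cent a ha y⟩
  rw [← hT, ← Nat.card_congr (MonoidHom.ofInjective T.inj).toEquiv, Hay.Jac.card, hF']; norm_num

end St

variable {G : Type u} [Group G] [Finite G]

theorem exists_B8 {a : G} (F : B0 a) {R : Subgroup Γ} {z : Γ} (hR : ESZ 2 R z) (cR : Nat.card R = 128)
    (RL : R ≤ F.mt.range) (nR : F.mt.range ≤ normalizer (R : Set Γ)) (cenR : F.mt.range ⊓ centralizer (R : Set Γ) ≤ R)
    (h : (Nat.card F.mt.range = 82944 ∧ ∃ x ∈ F.mt.range, x ∉ R ∧ x ^ 3 ∈ R ∧ ∀ m ∈ F.mt.range, m * x * m⁻¹ * x⁻¹ ∈ R) ∨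
      Nat.card F.mt.range = 3317760) :
    ∃ b, zpowers b = zpowers a ∧ ∃ F' : B8 b, Nat.card F'.mt.range = Nat.card F.mt.range ∧
      (Nat.card F.mt.range = 3317760 → f2 ∈ F'.mt.range) := by
  obtain ⟨P, x, PL, cP, dis, xP, x3, xc, xq⟩ := St.exists_Px hR nR h
  obtain ⟨i, j, six, eR, act⟩ := exists_six hR cR cP (PL.trans nR)
    (eq_bot_iff.2 (dis ▸ le_inf inf_le_left ((inf_le_inf_right _ PL).trans cenR))) xP x3 xc
  obtain ⟨w, w1, w2, w3, w4, w5, w6, w7⟩ := six.exists_P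
  obtain ⟨F1, -, hF1⟩ := F.exists_base w
  let c : Γ →* Γ := (MulAut.conj w).toMonoidHom
  have ci : Function.Injective c := (MulAut.conj w).injective
  have cv : ∀ g, c g = w * g * w⁻¹ := fun g => rfl
  have eL : F1.mt.range = F.mt.range.map c := by
    ext m
    constructor
    · rintro ⟨g, rfl⟩
      exact ⟨_, ⟨g, rfl⟩, (hF1 g).symm⟩
    · rintro ⟨_, ⟨g, rfl⟩, rfl⟩
      exact ⟨g, hF1 g⟩
  have eR0 : R.map c = R0 := by
    rw [eR, R0, clos, clos, MonoidHom.map_closure]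
    congr 1
    ext g
    simp only [List.mem_cons, List.not_mem_nil, or_false, Set.mem_image, Set.mem_ofPred_eq, exists_eq_or_imp,
      exists_eq_left, cv, w1, w2, w3, w4, w5, w6, eq_comm (b := g)]
  have cL : Nat.card F1.mt.range = Nat.card F.mt.range := by rw [eL, card_map_of_injective ci]
  have R0L : R0 ≤ F1.mt.range := by rw [eL, ← eR0]; exact map_mono RL
  have nrm : F1.mt.range ≤ normalizer (R0 : Set Γ) := by
    rw [eL, ← eR0]; exact (map_mono nR).trans (le_normalizer_map c)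
  have es : ESZ 2 R0 (-1) := by have := hR.map ci; rwa [eR0, cv, w7] at this
  have N2 : Nat.card F.mt.range = 3317760 → ∀ g ∈ normalizer (R0 : Set Γ), g ^ 3 = 1 → g ∈ F1.mt.range :=
    fun e g hg h3 => St.mem_of_cube nrm (by rw [cL, e]; exact card_N) hg h3
  have sub : X0 ≤ F1.mt.range := by
    rcases h with ⟨h, -⟩ | h
    · have a1 : ∀ k, c x * c (i k) * (c x)⁻¹ = c (j k) := fun k => by rw [← (act k).1]; simp only [map_mul, map_inv]
      have a2 : ∀ k, c x * c (j k) * (c x)⁻¹ = c (i k) * c (j k) ∨ c x * c (j k) * (c x)⁻¹ = -(c (i k) * c (j k)) :=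
        fun k => by
          rw [← map_mul, ← map_inv, ← map_mul]
          rcases (act k).2 with e | e
          · left; rw [e, map_mul]
          · right; rw [e, map_mul, map_mul, cv z, w7]; simp
      have b0 := a1 0
      have b1 := a1 1
      have b2 := a1 2
      have d0 := a2 0
      have d1 := a2 1
      have d2 := a2 2
      rw [cv (i _), cv (j _)] at b0 b1 b2 d0 d1 d2
      rw [w1, w2] at b0 d0
      rw [w3, w4] at b1 d1
      rw [w5, w6] at b2 d2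
      obtain ⟨o1, o2, o3, o4, o5, o6⟩ := om0_act
      have hr : om0⁻¹ * c x ∈ R0 := St.mem_coset es (by
        simp only [List.mem_cons, List.not_mem_nil, or_false]
        rintro g (rfl | rfl | rfl | rfl | rfl | rfl)
        · rw [o1]; exact Or.inl b0
        · rw [o2]; exact d0
        · rw [o3]; exact Or.inl b1
        · rw [o4]; exact d1
        · rw [o5, neg_neg]; exact Or.inr b2
        · rw [o6, neg_neg]; exact d2.symm)
      have le : F1.mt.range ≤ NU := fun m hm => ⟨nrm hm, by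
        have hm' := nrm hm
        rw [eL] at hm
        obtain ⟨m0, hm0, rfl⟩ := hm
        have q1 : c m0 * c x * (c m0)⁻¹ * (c x)⁻¹ ∈ R0 := by
          rw [← eR0]; exact ⟨_, xq h m0 hm0, by simp only [map_mul, map_inv]⟩
        have q2 : c x ∈ normalizer (R0 : Set Γ) := nrm (eL ▸ mem_map_of_mem c (PL xP))
        have : c m0 * om0 * (c m0)⁻¹ * om0⁻¹ = (c m0 * c x * (c m0)⁻¹ * (c x)⁻¹) *
            (c x * (c m0 * (om0⁻¹ * c x)⁻¹ * (c m0)⁻¹ * (om0⁻¹ * c x)) * (c x)⁻¹) := by group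
        rw [this]
        exact mul_mem q1 ((mem_normalizer_iff.1 q2 _).1 (mul_mem ((mem_normalizer_iff.1 hm' _).1 (inv_mem hr)) hr))⟩
      rw [eq_of_le_of_card_ge le (by rw [cL, h]; exact card_NU)]
      exact X0_le_NU
    · obtain ⟨c1, c2, c3, c4, c5, -⟩ := cubes
      have m : ∀ g ∈ [gI1, gJ1, gI2, gJ2, gI3, gJ3, u1, u2, u3, sg, f1], g ∈ normalizer (R0 : Set Γ) := fun g hg =>
        (X0_le_NU (mem_clos hg)).1
      refine clos_le.2 ?_
      simp only [List.mem_cons, List.not_mem_nil, or_false]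
      rintro g (rfl | rfl | rfl | rfl | rfl | rfl | rfl | rfl | rfl | rfl | rfl)
      exacts [R0L (mem_clos (by simp)), R0L (mem_clos (by simp)), R0L (mem_clos (by simp)), R0L (mem_clos (by simp)),
        R0L (mem_clos (by simp)), R0L (mem_clos (by simp)), N2 h _ (m _ (by simp)) c1, N2 h _ (m _ (by simp)) c2,
        N2 h _ (m _ (by simp)) c3, N2 h _ (m _ (by simp)) c4, N2 h _ (m _ (by simp)) c5]
  have syl : ¬ 3 ^ 5 ∣ Nat.card F1.mt.range := by
    rw [cL]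
    rcases h with ⟨h, -⟩ | h <;> rw [h] <;> norm_num
  have hf : Nat.card F.mt.range = 3317760 → f2 ∈ F1.mt.range := fun e => N2 e _ f2_mem cubes.2.2.2.2.2.1
  rcases F1.comm_or R0L with hc | hc
  · exact ⟨a, rfl, ⟨F1, hc, nrm, sub, syl⟩, cL, hf⟩
  · obtain ⟨F2, e1, e2⟩ := F1.exists_inv
    refine ⟨a⁻¹, zpowers_inv, ⟨F2, ?_, e2 ▸ nrm, e2 ▸ sub, e2 ▸ syl⟩, e2 ▸ cL, e2 ▸ hf⟩
    rw [e1, LB.Q3_inv]
    exact hc

/-- The centraliser of `Z`, its generalised Fitting subgroup and the quotient. -/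
abbrev MZ (Z : Subgroup G) : Type u := centralizer (Z : Set G)
abbrev QZ (Z : Subgroup G) : Subgroup (MZ Z) := Cfsg.generalizedFittingSubgroup (MZ Z)

theorem St.b0_of_fstar (Z : Subgroup G) (hZ : Nat.card Z = 3) (hQ : Cfsg.IsExtraspecial 3 (QZ Z))
    (hQcard : Nat.card (QZ Z) = 3 ^ 9) (hexp : ∀ x ∈ QZ Z, x ^ 3 = 1) :
    ∃ a, Z = zpowers a ∧ centralizer (Z : Set G) = centralizer {a} ∧
      (QZ Z).map (centralizer (Z : Set G)).subtype = Q3 a ∧ Nonempty (B0 a) := by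
  have : IsCyclic Z := isCyclic_of_prime_card hZ
  obtain ⟨a, ha⟩ := (Subgroup.isCyclic_iff_exists_zpowers_eq_top Z).1 inferInstance
  have hH' : centralizer (Z : Set G) = centralizer {a} := by rw [← ha, zpowers_eq_closure, centralizer_closure]
  have ord : orderOf a = 3 := by rw [← Nat.card_zpowers, ha, hZ]
  obtain ⟨H, hH⟩ : ∃ H, H = centralizer (Z : Set G) := ⟨_, rfl⟩
  change IsExtraspecial 3 (generalizedFittingSubgroup (centralizer (Z : Set G))) at hQ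
  change Nat.card (generalizedFittingSubgroup (centralizer (Z : Set G))) = _ at hQcard
  change ∀ x ∈ generalizedFittingSubgroup (centralizer (Z : Set G)), x ^ 3 = 1 at hexp
  refine ⟨a, ha.symm, hH', ?_⟩
  change (generalizedFittingSubgroup (centralizer (Z : Set G))).map _ = _ ∧ _
  rw [← hH] at hQ hQcard hexp hH' ⊢
  have eq : generalizedFittingSubgroup H = pCore 3 H := by
    have := GT.genFitting_normal (G := H)
    exact le_antisymm (GT.le_pCore hQ.1.1) (GT.pCore_le_genFitting Nat.prime_three)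
  have eQ : (generalizedFittingSubgroup H).map H.subtype = Q3 a := by rw [eq, Q3, pCoreOf, hH']
  obtain ⟨z, hz, -⟩ := exists_esz (hQ.of_mulEquiv (equivMapOfInjective _ _ H.subtype_injective))
  rw [eQ] at hz
  have aH : a ∈ H := hH' ▸ mem_centralizer_singleton_iff.2 rfl
  have cH : ∀ g ∈ H, g * a = a * g := fun g hg => mem_centralizer_singleton_iff.1 (hH' ▸ hg)
  have aQ : a ∈ Q3 a := eQ ▸ ⟨⟨a, aH⟩, GT.center_le_genFitting (mem_center_iff.2 fun g => Subtype.ext (cH g g.2)), rfl⟩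
  have QH : Q3 a ≤ H := eQ ▸ map_subtype_le _
  have az : zpowers a = zpowers z := hz.zpowers_eq_of_mem
    (hz.mem_zpowers_of_forall_commute aQ fun y hy => cH y (QH hy)) (fun h => by rw [h, orderOf_one] at ord; omega)
  refine ⟨eQ, exists_B0 ⟨ord, az ▸ hz.comm_mem, az ▸ hz.pow_mem, az ▸ hz.center_eq⟩ ?_ (fun q hq => ?_) fun g hg => ?_⟩
  · rw [← eQ, card_map_of_injective H.subtype_injective, hQcard]
  · rw [← eQ] at hq
    obtain ⟨q, hq, rfl⟩ := hq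
    rw [← map_pow, hexp q hq, map_one]
  · have gH : g ∈ H := hH' ▸ mem_centralizer_singleton_iff.2 (hg a aQ).symm
    have : (⟨g, gH⟩ : H) ∈ generalizedFittingSubgroup H := GT.centralizer_genFitting_le fun q hq =>
      Subtype.ext (hg q (eQ ▸ ⟨q, hq, rfl⟩))
    rw [az, ← hz.center_eq]
    exact ⟨eQ ▸ ⟨_, this, rfl⟩, hg⟩

theorem setup0 (Z : Subgroup G) (hZ : Nat.card Z = 3) (hQ : Cfsg.IsExtraspecial 3 (QZ Z)) (hQcard : Nat.card (QZ Z) = 3 ^ 9)
    [(QZ Z).Normal] (hexp : ∀ x ∈ QZ Z, x ^ 3 = 1)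
    (hFR : Cfsg.generalizedFittingSubgroup (MZ Z ⧸ QZ Z) = Cfsg.pCore 2 (MZ Z ⧸ QZ Z))
    (hR : Cfsg.IsExtraspecial 2 (Cfsg.pCore 2 (MZ Z ⧸ QZ Z))) (hRcard : Nat.card (Cfsg.pCore 2 (MZ Z ⧸ QZ Z)) = 2 ^ 7)
    [(Cfsg.pCore 2 (MZ Z ⧸ QZ Z)).Normal] :
    ∃ a, Z = zpowers a ∧ ∃ (F : B0 a) (R : Subgroup Γ) (z : Γ), ESZ 2 R z ∧ Nat.card R = 128 ∧ R ≤ F.mt.range ∧
      F.mt.range ≤ normalizer (R : Set Γ) ∧ F.mt.range ⊓ centralizer (R : Set Γ) ≤ R ∧
      ∃ π : F.mt.range →* (MZ Z ⧸ QZ Z) ⧸ Cfsg.pCore 2 (MZ Z ⧸ QZ Z), Function.Surjective π ∧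
        ∀ m, π m = 1 ↔ (m : Γ) ∈ R := by
  obtain ⟨a, ha, hH, eQ, ⟨F⟩⟩ := St.b0_of_fstar Z hZ hQ hQcard hexp
  let φ : MZ Z →* F.mt.range := F.mt.rangeRestrict.comp (MulEquiv.subgroupCongr hH).toMonoidHom
  have hφ : Function.Surjective φ := F.mt.rangeRestrict_surjective.comp (MulEquiv.subgroupCongr hH).surjective
  have hk : QZ Z = φ.ker := by
    ext g
    rw [MonoidHom.mem_ker, Subtype.ext_iff, ← mem_map_iff_mem (centralizer (Z : Set G)).subtype_injective, eQ]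
    exact (F.ker (MulEquiv.subgroupCongr hH g)).symm
  let ψ : MZ Z ⧸ QZ Z ≃* F.mt.range := QuotientGroup.liftEquiv _ hφ hk
  let ι : MZ Z ⧸ QZ Z →* Γ := F.mt.range.subtype.comp ψ.toMonoidHom
  have ιi : Function.Injective ι := Subtype.val_injective.comp ψ.injective
  have ιr : ∀ m : F.mt.range, ι (ψ.symm m) = m := fun m => congrArg Subtype.val (ψ.apply_symm_apply m)
  obtain ⟨z, hz, -⟩ := exists_esz hR
  refine ⟨a, ha, F, _, _, hz.map ιi, by rw [card_map_of_injective ιi, hRcard]; norm_num, ?_, fun m hm => ?_,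
    fun m hm => ?_, (QuotientGroup.mk' _).comp ψ.symm.toMonoidHom,
    (QuotientGroup.mk'_surjective _).comp ψ.symm.surjective, fun m => ?_⟩
  · rintro _ ⟨u, -, rfl⟩
    exact (ψ u).2
  · exact le_normalizer_map ι ⟨ψ.symm ⟨m, hm⟩, by rw [normalizer_eq_top]; trivial, ιr _⟩
  · refine ⟨ψ.symm ⟨m, hm.1⟩, ?_, ιr _⟩
    refine hFR.le (GT.centralizer_genFitting_le fun u hu => ιi ?_)
    rw [map_mul, map_mul, ιr]
    exact hm.2 _ (mem_map_of_mem ι (hFR.le hu))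
  · rw [← ιr, mem_map_iff_mem ιi]
    exact QuotientGroup.eq_one_iff _

theorem St.card_range {L R : Subgroup Γ} {T : Type*} [Group T] (RL : R ≤ L) (π : L →* T) (hπ : Function.Surjective π)
    (hk : ∀ m, π m = 1 ↔ (m : Γ) ∈ R) : Nat.card L = Nat.card R * Nat.card T := by
  have : π.ker = R.subgroupOf L := by ext m; exact hk m
  rw [← π.ker.card_mul_index, index_ker, MonoidHom.range_eq_top.2 hπ, card_top, this,
    Nat.card_congr (subgroupOfEquivOfLe RL).toEquiv]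

theorem St.exists_x {H T S : Type*} [Group H] [Group T] [Group S] {L R : Subgroup H} (π : L →* T)
    (hπ : Function.Surjective π) (hk : ∀ m, π m = 1 ↔ (m : H) ∈ R) {x : S} (x3 : orderOf x = 3)
    (e : T ≃* centralizer ({x} : Set S)) : ∃ y ∈ L, y ∉ R ∧ y ^ 3 ∈ R ∧ ∀ m ∈ L, m * y * m⁻¹ * y⁻¹ ∈ R := by
  obtain ⟨m, hm⟩ := hπ (e.symm ⟨x, mem_centralizer_singleton_iff.2 rfl⟩)
  have hm' : ((e (π m) : centralizer ({x} : Set S)) : S) = x := by rw [hm]; simp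
  have hk' : ∀ m : L, (m : H) ∈ R ↔ ((e (π m) : centralizer ({x} : Set S)) : S) = 1 :=
    fun m => by rw [← hk, OneMemClass.coe_eq_one, map_eq_one_iff _ e.injective]
  refine ⟨m, m.2, fun h => ?_, (hk' (m ^ 3)).2 ?_, fun g hg => (hk' (⟨g, hg⟩ * m * ⟨g, hg⟩⁻¹ * m⁻¹)).2 ?_⟩
  · rw [hk', hm'] at h
    rw [h, orderOf_one] at x3; omega
  · rw [map_pow, map_pow, Subgroup.coe_pow, hm', ← x3, pow_orderOf_eq_one]
  · simp only [map_mul, map_inv, Subgroup.coe_mul, Subgroup.coe_inv, hm']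
    rw [mem_centralizer_singleton_iff.1 (e (π ⟨g, hg⟩)).2]
    group

theorem setupF (Z : Subgroup G) (hZ : Nat.card Z = 3) (hQ : Cfsg.IsExtraspecial 3 (QZ Z)) (hQcard : Nat.card (QZ Z) = 3 ^ 9)
    [(QZ Z).Normal] (hexp : ∀ x ∈ QZ Z, x ^ 3 = 1)
    (hFR : Cfsg.generalizedFittingSubgroup (MZ Z ⧸ QZ Z) = Cfsg.pCore 2 (MZ Z ⧸ QZ Z))
    (hR : Cfsg.IsExtraspecial 2 (Cfsg.pCore 2 (MZ Z ⧸ QZ Z))) (hRcard : Nat.card (Cfsg.pCore 2 (MZ Z ⧸ QZ Z)) = 2 ^ 7)
    [(Cfsg.pCore 2 (MZ Z ⧸ QZ Z)).Normal]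
    (hTop : ∃ (F : Type) (_ : Field F) (_ : Fintype F) (x : Cfsg.PSp 2 F), Fintype.card F = 3 ∧ orderOf x = 3 ∧
      (∃ P : Sylow 3 (Cfsg.PSp 2 F), (P : Subgroup (Cfsg.PSp 2 F)) ≤ centralizer ({x} : Set (Cfsg.PSp 2 F))) ∧
      Nonempty (((MZ Z ⧸ QZ Z) ⧸ Cfsg.pCore 2 (MZ Z ⧸ QZ Z)) ≃* centralizer ({x} : Set (Cfsg.PSp 2 F)))) :
    ∃ a, Z = zpowers a ∧ ∃ F : B8 a, Nat.card F.mt.range = 82944 := by
  obtain ⟨a, ha, F, R, z, h1, h2, h3, h4, h5, π, hπ, hk⟩ := setup0 Z hZ hQ hQcard hexp hFR hR hRcard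
  obtain ⟨K, _, _, x, hK, x3, ⟨P, hP⟩, ⟨e⟩⟩ := hTop
  have x1 : x ≠ 1 := fun h => by rw [h, orderOf_one] at x3; omega
  have cL : Nat.card F.mt.range = 82944 := by
    rw [St.card_range h3 π hπ hk, h2, Nat.card_congr e.toEquiv, St.card_cen_psp hK x1 P hP]
  obtain ⟨b, hb, F', hF', -⟩ := exists_B8 F h1 h2 h3 h4 h5 (Or.inl ⟨cL, St.exists_x π hπ hk x3 e⟩)
  exact ⟨b, ha.trans hb.symm, F', hF'.trans cL⟩

theorem setupB (Z : Subgroup G) (hZ : Nat.card Z = 3) (hQ : Cfsg.IsExtraspecial 3 (QZ Z)) (hQcard : Nat.card (QZ Z) = 3 ^ 9)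
    [(QZ Z).Normal] (hexp : ∀ x ∈ QZ Z, x ^ 3 = 1)
    (hFR : Cfsg.generalizedFittingSubgroup (MZ Z ⧸ QZ Z) = Cfsg.pCore 2 (MZ Z ⧸ QZ Z))
    (hR : Cfsg.IsExtraspecial 2 (Cfsg.pCore 2 (MZ Z ⧸ QZ Z))) (hRcard : Nat.card (Cfsg.pCore 2 (MZ Z ⧸ QZ Z)) = 2 ^ 7)
    [(Cfsg.pCore 2 (MZ Z ⧸ QZ Z)).Normal]
    (hTop : ∃ (F : Type) (_ : Field F) (_ : Fintype F), Fintype.card F = 3 ∧
      Nonempty (((MZ Z ⧸ QZ Z) ⧸ Cfsg.pCore 2 (MZ Z ⧸ QZ Z)) ≃* Cfsg.PSp 2 F)) :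
    ∃ a, Z = zpowers a ∧ ∃ F : B8 a, f2 ∈ F.mt.range := by
  obtain ⟨a, ha, F, R, z, h1, h2, h3, h4, h5, π, hπ, hk⟩ := setup0 Z hZ hQ hQcard hexp hFR hR hRcard
  obtain ⟨K, _, _, hK, ⟨e⟩⟩ := hTop
  have cL : Nat.card F.mt.range = 3317760 := by
    rw [St.card_range h3 π hπ hk, h2, Nat.card_congr e.toEquiv, (S43.exists_model hK).1]
  obtain ⟨b, hb, F', -, hF'⟩ := exists_B8 F h1 h2 h3 h4 h5 (Or.inr cL)
  exact ⟨b, ha.trans hb.symm, F', hF' cL⟩

end Cfsg.Agent.B3
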